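import Cfsg.Agent.H961.SepFi23
import Cfsg.Agent.H839.SeventeenMain_m3
import Cfsg.Agent.H715.Fpr.Row4_m3
import Mathlib
import Cfsg.Agent.H843.One
import Cfsg.Agent.H841.Transport
import Cfsg.Agent.H843.N11
import Cfsg.Agent.H843.N17
import Cfsg.Agent.H843.N23
import Cfsg.Agent.H843.N29
import Cfsg.Agent.H711.BabyRow
import Cfsg.Agent.S1698
import Cfsg.Agent.FastGrp
import Cfsg.Agent.Prune
set_option linter.all false

-- part: H435/Fpr/FiTwentyThree
section
set_option linter.all false
open scoped Cfsg.Agent.FastGrp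

/-!
# Fixed point ratios: `Fi23`, all primes
-/

set_option autoImplicit false
set_option maxRecDepth 100000

namespace Cfsg.Agent.H435.Fpr.FiTwentyThree

open Subgroup Cfsg.Agent.H409 Cfsg.Agent.OrdDiv Cfsg.Agent.H940.Eng Cfsg.Agent.H940.Eng.D Cfsg.Agent.H715.Fpr
open Cfsg.Agent.H961.SepFi23 (G data11 data13 data17 data23 card_conj_eq)

section data

open Cfsg Cfsg.Agent.Lib.PermNet Cfsg.Agent.Fischer.Fi23Hom Cfsg.Agent.LThreeFi23
open Cfsg.Agent.H839 Cfsg.Agent.H839.Fi23
open Cfsg.Agent.H838.Fi23 (SL L5)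

theorem card_S5 : Nat.card ↥(SL L5) = 120 := by
  obtain ⟨f, -, hf, hinj⟩ := exists_S5
  rw [← hf, ← Nat.card_congr (MonoidHom.ofInjective hinj).toEquiv, Nat.card_eq_fintype_card, Fintype.card_perm,
    Fintype.card_fin]
  rfl

theorem card_y7 : Nat.card ↥(zpowers (elw y7)) = 7 := by
  have : Fact (Nat.Prime 7) := ⟨by norm_num⟩
  rw [Nat.card_zpowers, orderOf_eq_prime pow7 y7_ne]

theorem data7 {R : Subgroup G} (hR : Nat.card R = 7) :
    Nat.card (centralizer (R : Set G)) = 840 ∧ Nat.card (normalizer (R : Set G)) = 5040 := by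
  obtain ⟨h1, h2⟩ := card_conj_eq (conj_all7 (zpowers (elw y7)) R card_y7 hR)
  rw [← h1, ← h2]
  have hSy : ∀ x ∈ SL L5, x * elw y7 = elw y7 * x := fun x hx => (S5_comm_y7 hx).symm
  have hcard := FrobGen.card_cent (by norm_num : Nat.Prime 7) pow7 y7_ne hSy (fun w hw => cent7 hw) y7_pow_S5
  rw [card_S5] at hcard
  refine ⟨hcard, ?_⟩
  obtain ⟨e, n, he, k1, k2, k3⟩ := Count.card_normalizer (p := 7) (c := 840) (by norm_num) card_y7
    (by rw [card_G]; norm_num) hcard
  rw [k1]
  rw [card_G] at k3
  have k4 : n % 7 = 1 := k2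
  have k5 : e ≤ 6 := Nat.le_of_dvd (by norm_num) he
  have k6 : e ≠ 0 := by rintro rfl; norm_num at k3
  interval_cases e <;> omega

end data

theorem simple : IsSimpleGroup G := Cfsg.Agent.S1697.result.1
theorem card : Nat.card G = n_fi23 := Cfsg.Agent.S1697.result.2
theorem fin : Finite G := Nat.finite_of_card_ne_zero (by rw [card]; decide)

end Cfsg.Agent.H435.Fpr.FiTwentyThree

private theorem dce_ebcbc9827181 : _root_.True := by
  try have : _root_.True := by simp only [_root_.Cfsg.Agent.H940.Eng.D.l_fi23.eq_1]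
  exact _root_.True.intro
end

-- part: H435/Fpr/FiTwentyFour
section
set_option linter.all false
open scoped Cfsg.Agent.FastGrp

-- part: H435/Fpr/IndexTwo
section
/-!
# Local data of a subgroup of index two; bounds for normalizers from a centralizer
-/

set_option autoImplicit false
open Subgroup

namespace Cfsg.Agent.H435.Fpr.IndexTwo

open Cfsg.Agent.H715.Fpr

universe u

theorem normalizer_comap {G : Type*} [Group G] (A : Subgroup G) (R : Subgroup A) :
    normalizer (R : Set A) =
      (normalizer ((R.map A.subtype : Subgroup G) : Set G)).comap A.subtype := by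
  have h := comap_normalizer_eq_of_le_range (f := A.subtype) (H := R.map A.subtype)
    (by rw [range_subtype]; exact map_subtype_le R)
  rw [h, comap_map_eq_self_of_injective A.subtype_injective]

theorem centralizer_comap {G : Type*} [Group G] (A : Subgroup G) (R : Subgroup A) :
    centralizer (R : Set A) =
      (centralizer ((R.map A.subtype : Subgroup G) : Set G)).comap A.subtype := by
  ext x
  rw [mem_comap, mem_centralizer_iff, mem_centralizer_iff]
  constructor
  · rintro h _ ⟨y, hy, rfl⟩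
    exact congrArg Subtype.val (h y hy)
  · intro h y hy
    exact Subtype.ext (h _ ⟨y, hy, rfl⟩)

theorem card_comap_dvd {G : Type*} [Group G] (A K : Subgroup G) :
    Nat.card (K.comap A.subtype) ∣ Nat.card K := by
  have h1 : Nat.card (K.comap A.subtype) = Nat.card ((K ⊓ A : Subgroup G)) := by
    rw [← card_map_of_injective (K := K.comap A.subtype) A.subtype_injective]
    congr 1
    have h2 : (K.comap A.subtype).map A.subtype = K ⊓ A := by
      rw [map_comap_eq, range_subtype, inf_comm]
    rw [h2]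
  rw [h1]
  exact card_dvd_of_le inf_le_left

theorem card_centralizer_dvd {G : Type*} [Group G] (A : Subgroup G) (R : Subgroup A) :
    Nat.card (centralizer (R : Set A)) ∣
      Nat.card (centralizer ((R.map A.subtype : Subgroup G) : Set G)) := by
  rw [centralizer_comap]
  exact card_comap_dvd A _

theorem card_normalizer_dvd {G : Type*} [Group G] (A : Subgroup G) (R : Subgroup A) :
    Nat.card (normalizer (R : Set A)) ∣
      Nat.card (normalizer ((R.map A.subtype : Subgroup G) : Set G)) := by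
  rw [normalizer_comap]
  exact card_comap_dvd A _

/-- the orders for a conjugate -/
theorem card_eq {G : Type*} [Group G] [Finite G] {p : ℕ} (hp : p.Prime) (h2 : ¬ p ^ 2 ∣ Nat.card G)
    {X Y : Subgroup G} (hX : Nat.card X = p) (hY : Nat.card Y = p) :
    Nat.card (centralizer (Y : Set G)) = Nat.card (centralizer (X : Set G)) ∧
      Nat.card (normalizer (Y : Set G)) = Nat.card (normalizer (X : Set G)) := by
  obtain ⟨g, rfl⟩ := Cfsg.Agent.H843.Syl.exists_conj hp h2 X Y hX hY
  constructor
  · rw [Cfsg.Agent.H841.Transport.coe_map, ← Cfsg.Agent.H841.Transport.map_centralizer,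
      Cfsg.Agent.H841.Transport.card_map]
  · rw [← Cfsg.Agent.H841.Transport.map_normalizer, Cfsg.Agent.H841.Transport.card_map]

/-- divisors for all subgroups of order `p` of `A` from one subgroup of `G` -/
theorem data {G : Type*} [Group G] [Finite G] {A : Subgroup G} {p c n : ℕ} (hp : p.Prime)
    (h2 : ¬ p ^ 2 ∣ Nat.card G) {X : Subgroup G} (hX : Nat.card X = p)
    (hc : Nat.card (centralizer (X : Set G)) ∣ c) (hn : Nat.card (normalizer (X : Set G)) ∣ n)
    {R : Subgroup A} (hR : Nat.card R = p) :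
    Nat.card (centralizer (R : Set A)) ∣ c ∧ Nat.card (normalizer (R : Set A)) ∣ n := by
  have hR' : Nat.card (R.map A.subtype) = p := by rw [card_map_of_injective A.subtype_injective, hR]
  obtain ⟨h3, h4⟩ := card_eq hp h2 hX hR'
  exact ⟨(card_centralizer_dvd A R).trans (h3 ▸ hc), (card_normalizer_dvd A R).trans (h4 ▸ hn)⟩

/-- bound for the normalizer -/
theorem normalizer_le {G : Type*} [Group G] [Finite G] {A : Subgroup G} {p n : ℕ} (hp : p.Prime)
    (h2 : ¬ p ^ 2 ∣ Nat.card G) {X : Subgroup G} (hX : Nat.card X = p)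
    (hn : Nat.card (normalizer (X : Set G)) ≤ n) {R : Subgroup A} (hR : Nat.card R = p) :
    Nat.card (normalizer (R : Set A)) ≤ n := by
  have hR' : Nat.card (R.map A.subtype) = p := by rw [card_map_of_injective A.subtype_injective, hR]
  obtain ⟨-, h4⟩ := card_eq hp h2 hX hR'
  exact (Nat.le_of_dvd Nat.card_pos (card_normalizer_dvd A R)).trans (h4 ▸ hn)

/-- the image of an action under an injective homomorphism -/
theorem Acts.map {A B : Type u} [Group A] [Group B] {p q : ℕ} (f : A →* B) (hf : Function.Injective f)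
    (h : Acts p q A) : Acts p q B := by
  obtain ⟨g, y, h1, ⟨k, h2⟩, h3, h4⟩ := h
  refine ⟨f g, f y, by rw [orderOf_injective f hf, h1], ⟨k, by rw [orderOf_injective f hf, h2]⟩, ?_, ?_⟩
  · obtain ⟨j, hj⟩ := mem_zpowers_iff.1 h3
    refine mem_zpowers_iff.2 ⟨j, ?_⟩
    rw [← map_zpow, hj, map_mul, map_mul, map_inv]
  · rw [← map_mul, ← map_mul]
    exact fun h => h4 (hf h)

/-- an action of odd order lies in the subgroup of index two -/
theorem Acts.restrict {G : Type u} [Group G] [Finite G] {A : Subgroup G} (hA : A.index = 2) {p q : ℕ}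
    (hp : Odd p) (hq : Odd q) (h : Acts p q G) : Acts p q A := by
  obtain ⟨g, y, h1, ⟨k, h2⟩, h3, h4⟩ := h
  have hN := normal_of_index_eq_two hA
  have key : ∀ x : G, Odd (orderOf x) → x ∈ A := by
    intro x hx
    have h5 := pow_index_mem A x
    rw [hA] at h5
    obtain ⟨j, hj⟩ := hx
    have h6 : x = (x ^ 2) ^ (j + 1) := by
      rw [← pow_mul, show 2 * (j + 1) = (2 * j + 1) + 1 by ring, pow_succ, ← hj, pow_orderOf_eq_one, one_mul]
    rw [h6]
    exact pow_mem h5 _
  have hg : g ∈ A := key g (by rw [h1]; exact hq)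
  have hy : y ∈ A := key y (by rw [h2]; exact hp.pow)
  refine ⟨⟨g, hg⟩, ⟨y, hy⟩, by rw [Subgroup.orderOf_mk, h1], ⟨k, by rw [Subgroup.orderOf_mk, h2]⟩, ?_, ?_⟩
  · obtain ⟨j, hj⟩ := mem_zpowers_iff.1 h3
    exact mem_zpowers_iff.2 ⟨j, Subtype.ext hj⟩
  · intro h
    exact h4 (congrArg Subtype.val h)

/-- the order of a subgroup from a homomorphism -/
theorem card_le_of_hom {C F : Type*} [Group C] [Group F] [Finite C] [Finite F] (f : C →* F) {m c : ℕ}
    (hm : Nat.card f.ker ≤ m) (A : Subgroup C) (B : Subgroup F) (hB : Nat.card B ≤ c) (hAB : A ≤ B.comap f) :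
    Nat.card A ≤ m * c := by
  let g : A →* F := f.comp A.subtype
  have h1 := card_mul_index g.ker
  rw [index_ker] at h1
  have h2 : Nat.card g.ker ≤ m := by
    refine le_trans ?_ hm
    refine Nat.card_le_card_of_injective (fun x : g.ker => (⟨((x : A) : C), x.2⟩ : f.ker)) ?_
    intro x y hxy
    exact Subtype.ext (Subtype.ext (congrArg (fun z : f.ker => (z : C)) hxy))
  have h3 : Nat.card g.range ≤ c := by
    refine le_trans ?_ hB
    refine Nat.le_of_dvd Nat.card_pos (card_dvd_of_le ?_)
    rintro _ ⟨x, rfl⟩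
    exact hAB x.2
  rw [← h1]
  exact Nat.mul_le_mul h2 h3

/-- **bound for a normalizer from the centralizer of an element `l` commuting with `X`** -/
theorem card_normalizer_le {G F : Type*} [Group G] [Finite G] [Group F] [Finite F] {l : G}
    {C : Subgroup G} (hC : C = centralizer ({l} : Set G))
    (f : C →* F) {m c k : ℕ} (hm : Nat.card f.ker ≤ m) {X : Subgroup G}
    (hc : Nat.card (normalizer (((X.subgroupOf C).map f : Subgroup F) : Set F)) ≤ c)
    {S : Set G} (hS : S.ncard ≤ k) (hSf : S.Finite)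
    (hlS : ∀ g ∈ normalizer (X : Set G), g * l * g⁻¹ ∈ S) :
    Nat.card (normalizer (X : Set G)) ≤ k * (m * c) := by
  set N := normalizer (X : Set G) with hN
  -- the stabiliser
  have h1 : Nat.card ((N ⊓ C : Subgroup G)) ≤ m * c := by
    have h2 : Nat.card ((N ⊓ C : Subgroup G)) = Nat.card (N.comap C.subtype) := by
      rw [← card_map_of_injective (K := N.comap C.subtype) C.subtype_injective, map_comap_eq, range_subtype,
        inf_comm]
    rw [h2]
    refine card_le_of_hom f hm _ _ hc ?_
    intro x hx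
    rw [mem_comap]
    have hx' : (x : G) ∈ N := hx
    have hmem : ∀ z ∈ X.subgroupOf C, x * z * x⁻¹ ∈ X.subgroupOf C := by
      intro z hz
      rw [mem_subgroupOf] at hz ⊢
      exact (mem_normalizer_iff.1 hx' _).1 hz
    have hmem' : ∀ z ∈ X.subgroupOf C, x⁻¹ * z * x ∈ X.subgroupOf C := by
      intro z hz
      rw [mem_subgroupOf] at hz ⊢
      have h3 := (mem_normalizer_iff.1 (inv_mem hx') _).1 hz
      rwa [inv_inv] at h3
    rw [mem_normalizer_iff]
    intro y
    constructor
    · rintro ⟨z, hz, rfl⟩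
      exact ⟨x * z * x⁻¹, hmem z hz, by rw [map_mul, map_mul, map_inv]⟩
    · rintro ⟨z, hz, h3⟩
      refine ⟨x⁻¹ * z * x, hmem' z hz, ?_⟩
      rw [map_mul, map_mul, map_inv, h3]
      group
  -- the orbit
  have h2 : C.relIndex N ≤ k := by
    refine le_trans ?_ hS
    have h3 : C.relIndex N = Nat.card (N ⧸ C.subgroupOf N) := rfl
    rw [h3, ← Nat.card_coe_set_eq]
    have : Finite S := hSf
    refine Nat.card_le_card_of_injective (Quotient.lift (fun g : N => (⟨(g : G) * l * (g : G)⁻¹, hlS g g.2⟩ : S))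
      ?_) ?_
    · intro a b hab
      have h4 : a⁻¹ * b ∈ C.subgroupOf N := QuotientGroup.leftRel_apply.1 hab
      rw [mem_subgroupOf, hC] at h4
      have h5 := mem_centralizer_singleton_iff.1 h4
      apply Subtype.ext
      show (a : G) * l * (a : G)⁻¹ = (b : G) * l * (b : G)⁻¹
      have h6 : ((a⁻¹ * b : N) : G) = (a : G)⁻¹ * (b : G) := rfl
      rw [h6] at h5
      calc (a : G) * l * (a : G)⁻¹ = (a : G) * (l * ((a : G)⁻¹ * (b : G))) * (b : G)⁻¹ := by group
        _ = (a : G) * (((a : G)⁻¹ * (b : G)) * l) * (b : G)⁻¹ := by rw [h5]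
        _ = (b : G) * l * (b : G)⁻¹ := by group
    · intro a b
      induction a using Quotient.inductionOn with | _ a => ?_
      induction b using Quotient.inductionOn with | _ b => ?_
      intro hab
      have h4 : (a : G) * l * (a : G)⁻¹ = (b : G) * l * (b : G)⁻¹ := congrArg Subtype.val hab
      apply Quotient.sound
      apply QuotientGroup.leftRel_apply.2
      rw [mem_subgroupOf, hC]
      apply mem_centralizer_singleton_iff.2
      show (a : G)⁻¹ * (b : G) * l = l * ((a : G)⁻¹ * (b : G))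
      calc (a : G)⁻¹ * (b : G) * l = (a : G)⁻¹ * ((b : G) * l * (b : G)⁻¹) * (b : G) := by group
        _ = (a : G)⁻¹ * ((a : G) * l * (a : G)⁻¹) * (b : G) := by rw [h4]
        _ = _ := by group
  have h3 : Nat.card N = C.relIndex N * Nat.card ((N ⊓ C : Subgroup G)) := by
    have h4 := card_mul_index (C.subgroupOf N)
    have h5 : Nat.card (C.subgroupOf N) = Nat.card ((N ⊓ C : Subgroup G)) := by
      rw [← inf_subgroupOf_right, inf_comm]
      exact Nat.card_congr (subgroupOfEquivOfLe inf_le_left).toEquiv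
    rw [← h4, h5, mul_comm]
    rfl
  rw [h3]
  exact Nat.mul_le_mul h2 h1

end Cfsg.Agent.H435.Fpr.IndexTwo
end

-- part: H435/Fpr/FiTwentyFour
section
/-!
# Fixed point ratios: `Fi24'`, all primes
-/

set_option autoImplicit false
set_option linter.constructorNameAsVariable false
set_option maxRecDepth 100000

open Subgroup

namespace Cfsg.Agent.H435.Fpr.FiTwentyFour

/-! ### Subgroups of order 13 of `Fi24` -/

section thirteen

open Cfsg Cfsg.Agent.Fischer Cfsg.Agent.Lib.PermNet Cfsg.Agent.Lib.PermNetPt Cfsg.Agent.Fischer.Fi24RepDef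
open Cfsg.Agent.Fischer.Fi24Rep
open Cfsg.Agent.Fischer.Fi24RepOrb (UG)
open Cfsg.Agent.Fischer.Fi24Spider (word_append word_cons word_nil)
open Cfsg.Agent.R08.FiTwentyFour (L finite_Fi24)
open Cfsg.Agent.KFacts.FiTF.Pts Cfsg.Agent.KFacts.FiTF.FixMask Cfsg.Agent.H843.Pat Cfsg.Agent.H843.Fi24N
open Cfsg.Spor (Fi24)
open Cfsg.Spor.Fi24 (Gen)

def xw : List Gen := [.e, .c, .d, .h, .i, .b, .f, .a]

/-- the transpositions commuting with the element of order 13 -/
def pts : List ℕ := [0, 23, 136, 156, 166666, 166698]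

theorem sieve : Nat.beq (sv (nw xw false) bl UG) (msk pts) = true := by decide +kernel

theorem hp : chkEq (rep 13 xw) [] = true := by decide +kernel

theorem hl : chkEq ([.l] ++ xw) (xw ++ [.l]) = true := by decide +kernel

theorem pow13 : word xw ^ 13 = 1 := by
  have h := word_eq_of hp
  rwa [word_rep, word_nil] at h

theorem ne_one : word xw ≠ 1 := by
  intro h
  obtain ⟨q, hq, h1⟩ := sieve_mem sieve (Cfsg.Agent.R08.FiTwentyFour.gen_mem_L .a) (by rw [h, one_mul, mul_one])
  have h2 : pn .a = q := (isPt_gen .a).uniq h1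
  rw [← h2] at hq
  revert hq
  decide

theorem order13 : orderOf (word xw) = 13 := by
  have : Fact (Nat.Prime 13) := ⟨by norm_num⟩
  exact orderOf_eq_prime pow13 ne_one

theorem comm_l : gen .l * word xw = word xw * gen .l := by
  have h1 := word_eq_of hl
  rwa [word_append, word_append, word_cons, word_nil, mul_one] at h1

theorem card_X : Nat.card (zpowers (word xw)) = 13 := by rw [Nat.card_zpowers, order13]

theorem ncard_le : (L ∩ (centralizer (zpowers (word xw) : Set Fi24) : Set Fi24)).ncard ≤ 6 := by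
  have := finite_Fi24
  have hfin : (L ∩ (centralizer (zpowers (word xw) : Set Fi24) : Set Fi24)).Finite := Set.toFinite _
  have key : ∀ d : ↥(L ∩ (centralizer (zpowers (word xw) : Set Fi24) : Set Fi24)),
      ∃ q : ↥(pts.toFinset), IsPt (d : Fi24) q := by
    rintro ⟨d, hd, hc⟩
    obtain ⟨q, hq, h1⟩ := sieve_mem sieve hd (Cfsg.Agent.H843.Cyc.mem_centralizer_zpowers.1 hc)
    exact ⟨⟨q, List.mem_toFinset.2 hq⟩, h1⟩
  choose φ hφ using key
  have h1 := Nat.card_le_card_of_injective φ (fun d d' h => Subtype.ext ((hφ d).inj (h ▸ hφ d')))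
  rw [Nat.card_coe_set_eq, Nat.card_eq_fintype_card, Fintype.card_coe] at h1
  exact h1.trans (by decide)

theorem norm13 : Nat.card (normalizer (zpowers (word xw) : Set Fi24)) ≤ 5616 := by
  have := finite_Fi24
  have := Cfsg.Agent.H435.Fpr.FiTwentyThree.fin
  obtain ⟨f, hf, hk⟩ : ∃ f : ↥(centralizer ({gen .l} : Set Fi24)) →* Cfsg.Spor.Fi23, Function.Surjective f ∧
      Nat.card f.ker = 2 := Cfsg.Agent.H711.FiThreeRow.exists_equiv
  have hxl : word xw ∈ centralizer ({gen .l} : Set Fi24) :=
    mem_centralizer_singleton_iff.2 comm_l.symm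
  have hXl : zpowers (word xw) ≤ centralizer ({gen .l} : Set Fi24) := by
    rw [zpowers_le]; exact hxl
  -- the image has order 13
  have hcard : Nat.card ((((zpowers (word xw)).subgroupOf (centralizer ({gen .l} : Set Fi24))).map f :
      Subgroup Cfsg.Spor.Fi23)) = 13 := by
    have h1 : Nat.card ((zpowers (word xw)).subgroupOf (centralizer ({gen .l} : Set Fi24))) = 13 := by
      rw [Nat.card_congr (subgroupOfEquivOfLe hXl).toEquiv, card_X]
    rw [← h1]
    refine Nat.card_congr (Equiv.ofBijective (fun z => ?_) ?_) |>.symm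
    · exact ⟨f z, ⟨z, z.2, rfl⟩⟩
    · constructor
      · intro a b hab
        have h2 : f (a : ↥(centralizer ({gen .l} : Set Fi24))) = f b := congrArg Subtype.val hab
        have h3 : (a : ↥(centralizer ({gen .l} : Set Fi24)))⁻¹ * b ∈ f.ker := by
          rw [MonoidHom.mem_ker, map_mul, map_inv, h2, inv_mul_cancel]
        have h4 : ((a : ↥(centralizer ({gen .l} : Set Fi24)))⁻¹ * b) ^ 2 = 1 := by
          have h5 := pow_card_eq_one' (x := (⟨_, h3⟩ : f.ker))
          rw [hk] at h5
          exact congrArg Subtype.val h5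
        have h5 : (a⁻¹ * b) ^ 2 = 1 := Subtype.ext h4
        have h6 : (a⁻¹ * b) ^ 13 = 1 := by
          rw [← h1]
          exact pow_card_eq_one'
        have h7 : a⁻¹ * b = 1 := by
          have h8 : a⁻¹ * b = (a⁻¹ * b) ^ 13 * (((a⁻¹ * b) ^ 2) ^ 6)⁻¹ := by
            rw [← pow_mul]
            group
          rw [h8, h5, h6, one_pow, inv_one, mul_one]
        exact inv_mul_eq_one.1 h7
      · rintro ⟨_, z, hz, rfl⟩
        exact ⟨⟨z, hz⟩, rfl⟩
  have h468 := (Cfsg.Agent.H961.SepFi23.data13 hcard).2.le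
  have h := IndexTwo.card_normalizer_le (l := gen .l) rfl f hk.le h468 ncard_le (Set.toFinite _) (by
    intro g hg
    refine ⟨Cfsg.Agent.R08.FiTwentyFour.conj_mem_L (Cfsg.Agent.R08.FiTwentyFour.gen_mem_L .l) g, ?_⟩
    rw [SetLike.mem_coe, mem_centralizer_iff]
    intro z hz
    have h1 : g⁻¹ * z * g ∈ zpowers (word xw) := by
      have h2 := (mem_normalizer_iff.1 (inv_mem hg) z).1 hz
      rwa [inv_inv] at h2
    have h2 : gen .l * (g⁻¹ * z * g) = (g⁻¹ * z * g) * gen .l :=
      (mem_centralizer_singleton_iff.1 (hXl h1)).symm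
    calc z * (g * gen .l * g⁻¹) = g * ((g⁻¹ * z * g) * gen .l) * g⁻¹ := by group
      _ = g * (gen .l * (g⁻¹ * z * g)) * g⁻¹ := by rw [h2]
      _ = (g * gen .l * g⁻¹) * z := by group)
  exact h

end thirteen

/-! ### The data of `Fi24'` -/

open Cfsg.Agent.H409 Cfsg.Agent.OrdDiv Cfsg.Agent.H940.Eng Cfsg.Agent.H940.Eng.D Cfsg.Agent.H715.Fpr
open Cfsg.Agent.H435.Fpr.IndexTwo

abbrev G : Type := Cfsg.Spor.Fi24'

theorem finG : Finite Cfsg.Spor.Fi24 := Cfsg.Agent.R08.FiTwentyFour.finite_Fi24

theorem index : (_root_.commutator Cfsg.Spor.Fi24).index = 2 := Cfsg.Agent.R08.FiTwentyFour.index_commutator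

theorem cardFi24 : Nat.card Cfsg.Spor.Fi24 = 2510411418381323442585600 := Cfsg.Agent.H843.Fi24N.card_Fi24

theorem simple : IsSimpleGroup G := Cfsg.Agent.S1698.result.1
theorem card : Nat.card G = n_fi24p := Cfsg.Agent.S1698.result.2
theorem fin : Finite G := Nat.finite_of_card_ne_zero (by rw [card]; decide)

theorem data29 {R : Subgroup G} (hR : Nat.card R = 29) :
    Nat.card (centralizer (R : Set G)) ∣ 29 ∧ Nat.card (normalizer (R : Set G)) ∣ 812 := by
  have := finG
  exact data (by norm_num) (by rw [cardFi24]; norm_num)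
    (X := zpowers Cfsg.Agent.H843.D29.D.x) (by rw [Nat.card_zpowers, Cfsg.Agent.H843.D29.order])
    (by rw [Cfsg.Agent.H843.D29.main.2]) (by rw [Cfsg.Agent.H843.D29.main.1]) hR

theorem data23 {R : Subgroup G} (hR : Nat.card R = 23) :
    Nat.card (centralizer (R : Set G)) ∣ 46 ∧ Nat.card (normalizer (R : Set G)) ∣ 506 := by
  have := finG
  exact data (by norm_num) (by rw [cardFi24]; norm_num)
    (X := zpowers Cfsg.Agent.H843.D23.D.x) (by rw [Nat.card_zpowers, Cfsg.Agent.H843.D23.order])
    (by rw [Cfsg.Agent.H843.D23.main.2]) (by rw [Cfsg.Agent.H843.D23.main.1]) hR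

theorem data17 {R : Subgroup G} (hR : Nat.card R = 17) :
    Nat.card (centralizer (R : Set G)) ∣ 34 ∧ Nat.card (normalizer (R : Set G)) ∣ 544 := by
  have := finG
  exact data (by norm_num) (by rw [cardFi24]; norm_num)
    (X := zpowers Cfsg.Agent.H843.D17.D.x) (by rw [Nat.card_zpowers, Cfsg.Agent.H843.D17.order])
    (by rw [Cfsg.Agent.H843.D17.main.2]) (by rw [Cfsg.Agent.H843.D17.main.1]) hR

theorem le11 {R : Subgroup G} (hR : Nat.card R = 11) : Nat.card (normalizer (R : Set G)) ≤ 2640 := by
  have := finG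
  exact normalizer_le (by norm_num) (by rw [cardFi24]; norm_num)
    (X := zpowers Cfsg.Agent.H843.D11.D.x) (by rw [Nat.card_zpowers, Cfsg.Agent.H843.D11.order])
    (by rw [Cfsg.Agent.H843.D11.main]) hR

theorem le13 {R : Subgroup G} (hR : Nat.card R = 13) : Nat.card (normalizer (R : Set G)) ≤ 5616 := by
  have := finG
  exact normalizer_le (by norm_num) (by rw [cardFi24]; norm_num) card_X norm13 hR

/-- actions from `Fi23` -/
theorem acts_of_fi23 {p q : ℕ} (h : Acts p q Cfsg.Spor.Fi23) : Acts p q G := by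
  have hs := Cfsg.Agent.H435.Fpr.FiTwentyThree.simple
  have hcomm : _root_.commutator Cfsg.Spor.Fi23 = ⊤ := by
    rcases (inferInstance : (_root_.commutator Cfsg.Spor.Fi23).Normal).eq_bot_or_eq_top with h1 | h1
    · exfalso
      obtain ⟨g, y, -, -, -, h4⟩ := h
      have h5 := (commutator_eq_bot_iff_le_centralizer.1 h1) (mem_top y)
      exact h4 (mem_centralizer_iff.1 h5 g (mem_top g)).symm
    · exact h1
  have hmem : ∀ k, Cfsg.Agent.R08.FiTwentyFour.facts.phi k ∈ _root_.commutator Cfsg.Spor.Fi24 := by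
    intro k
    have h1 : k ∈ _root_.commutator Cfsg.Spor.Fi23 := by rw [hcomm]; exact mem_top _
    have h2 : (_root_.commutator Cfsg.Spor.Fi23).map Cfsg.Agent.R08.FiTwentyFour.facts.phi ≤
        _root_.commutator Cfsg.Spor.Fi24 := by
      unfold _root_.commutator
      rw [map_commutator]
      exact commutator_mono le_top le_top
    exact h2 ⟨k, h1, rfl⟩
  refine Acts.map (Cfsg.Agent.R08.FiTwentyFour.facts.phi.codRestrict (_root_.commutator Cfsg.Spor.Fi24) hmem) ?_ h
  intro a b hab
  exact Cfsg.Agent.R08.FiTwentyFour.facts.phi_injective (congrArg Subtype.val hab)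

theorem acts2 : Acts 2 17 G := by
  have := Cfsg.Agent.H435.Fpr.FiTwentyThree.fin
  exact acts_of_fi23 (acts_of Cfsg.Agent.H435.Fpr.FiTwentyThree.card (by decide +kernel) (by decide +kernel)
    (by decide +kernel) (fun _ hR => Cfsg.Agent.H961.SepFi23.data17 hR) 1 (by decide +kernel))

theorem acts3 : Acts 3 13 G := by
  have := Cfsg.Agent.H435.Fpr.FiTwentyThree.fin
  exact acts_of_fi23 (acts_of Cfsg.Agent.H435.Fpr.FiTwentyThree.card (by decide +kernel) (by decide +kernel)
    (by decide +kernel) (fun _ hR => Cfsg.Agent.H961.SepFi23.data13 hR) 2 (by decide +kernel))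

theorem acts5 : Acts 5 11 G := by
  have := Cfsg.Agent.H435.Fpr.FiTwentyThree.fin
  obtain ⟨R, hR⟩ := exists_card_eq (G := Cfsg.Spor.Fi23) (r := 11) (by decide +kernel)
    (by rw [Cfsg.Agent.H435.Fpr.FiTwentyThree.card]; decide +kernel)
  exact acts_of_fi23 (acts_of_card (by norm_num) (by norm_num) hR 1
    (by rw [(Cfsg.Agent.H961.SepFi23.data11 hR).2]; norm_num)
    (fun h => absurd (h.trans (Cfsg.Agent.H961.SepFi23.data11 hR).1) (by norm_num)))

theorem acts11 : Acts 11 23 G := by
  have := Cfsg.Agent.H435.Fpr.FiTwentyThree.fin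
  exact acts_of_fi23 (acts_of Cfsg.Agent.H435.Fpr.FiTwentyThree.card (by decide +kernel) (by decide +kernel)
    (by decide +kernel) (fun _ hR => Cfsg.Agent.H961.SepFi23.data23 hR) 1 (by decide +kernel))

theorem acts7 : Acts 7 29 G := by
  have := finG
  refine Acts.restrict index (by decide) (by decide) (acts_of_card (by norm_num) (by norm_num)
    (R := zpowers Cfsg.Agent.H843.D29.D.x) (by rw [Nat.card_zpowers, Cfsg.Agent.H843.D29.order]) 1 ?_ ?_)
  · rw [Cfsg.Agent.H843.D29.main.1]; norm_num
  · rw [Cfsg.Agent.H843.D29.main.2]; norm_num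

/-- the local data -/
def loc : List LD := [⟨29, 29, [(2, 2), (7, 1), (29, 1)]⟩, ⟨23, 46, [(2, 1), (11, 1), (23, 1)]⟩,
  ⟨17, 34, [(2, 5), (17, 1)]⟩]

theorem ctx (B : Base) : Ctx G l_fi24p n_fi24p o_fi24p loc where
  fin := fin
  simple := simple
  card := card
  val := v_fi24p
  nodup := nd_fi24p
  ords := ords_fi24p B
  loc := by
    have := fin
    have := simple
    intro ld hld
    simp only [loc, List.mem_cons, List.not_mem_nil, or_false] at hld
    rcases hld with rfl | rfl | rfl
    · exact loc_of_eq card (by decide +kernel) (by decide +kernel) (by decide +kernel) fun R hR => data29 hR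
    · exact loc_of_eq card (by decide +kernel) (by decide +kernel) (by decide +kernel) fun R hR => data23 hR
    · exact loc_of_eq card (by decide +kernel) (by decide +kernel) (by decide +kernel) fun R hR => data17 hR

theorem row2 (B : Base) : FprRow 3 1 2 G :=
  row_of_act2 (ctx B) (q := 17) (N := 544) (by decide +kernel) (by decide +kernel) (by decide +kernel) acts2
    (fun _ hR => Nat.le_of_dvd (by norm_num) (data17 hR).2) 110 0 lb_zero 0
    (by decide +kernel)

theorem row3 (B : Base) : FprRow 4 1 3 G :=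
  row_of_act2 (ctx B) (q := 13) (N := 5616) (by decide +kernel) (by decide +kernel) (by decide +kernel) acts3
    (fun _ hR => le13 hR) 2304 0 lb_zero 0
    (Cfsg.Agent.H715.Fpr.scheck_fast (by decide +kernel))

theorem row5 (B : Base) : FprRow 6 1 5 G :=
  row_of_act2 (ctx B) (q := 11) (N := 2640) (by decide +kernel) (by decide +kernel) (by decide +kernel) acts5
    (fun _ hR => le11 hR) 2880 0 lb_zero 0
    (Cfsg.Agent.H715.Fpr.scheck_fast (by decide +kernel))

theorem row7 (B : Base) : FprRow 8 1 7 G :=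
  row_of_act2 (ctx B) (q := 29) (N := 812) (by decide +kernel) (by decide +kernel) (by decide +kernel) acts7
    (fun _ hR => Nat.le_of_dvd (by norm_num) (data29 hR).2) 299 0 lb_zero 0
    (Cfsg.Agent.H715.Fpr.scheck_fast (by decide +kernel))

theorem row11 (B : Base) : FprRow 12 1 11 G :=
  row_of_act2 (ctx B) (q := 23) (N := 506) (by decide +kernel) (by decide +kernel) (by decide +kernel) acts11
    (fun _ hR => Nat.le_of_dvd (by norm_num) (data23 hR).2) 528 0 lb_zero 0
    (Cfsg.Agent.H715.Fpr.scheck_fast (by decide +kernel))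

theorem row13 (B : Base) : FprRow 14 1 13 G :=
  row_of_norm2 (ctx B) (by decide +kernel) (fun _ hR => le13 hR) 6048 0 lb_zero 0
    (Cfsg.Agent.H715.Fpr.scheck_fast (by decide +kernel))

theorem row17 (B : Base) : FprRow 18 1 17 G :=
  row_of_norm2 (ctx B) (by decide +kernel) (fun _ hR => Nat.le_of_dvd (by norm_num) (data17 hR).2) 576 0 lb_zero 0
    (Cfsg.Agent.H715.Fpr.scheck_fast (by decide +kernel))

theorem row23 (B : Base) : FprRow 24 1 23 G :=
  row_of_norm2 (ctx B) (by decide +kernel) (fun _ hR => Nat.le_of_dvd (by norm_num) (data23 hR).2) 528 0 lb_zero 0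
    (Cfsg.Agent.H715.Fpr.scheck_fast (by decide +kernel))

theorem row29 (B : Base) : FprRow 30 1 29 G :=
  row_of_norm2 (ctx B) (by decide +kernel) (fun _ hR => Nat.le_of_dvd (by norm_num) (data29 hR).2) 840 0 lb_zero 0
    (Cfsg.Agent.H715.Fpr.scheck_fast (by decide +kernel))

/-- **the rows of `Fi24'`** -/
theorem row (B : Base) {p : ℕ} (hp : p.Prime) (hd : p ∣ Nat.card G) : FprRow (p + 1) 1 p G := by
  have h1 := valid_mem v_fi24p hp (by rw [← card]; exact hd)
  simp only [l_fi24p, List.map_cons, List.map_nil, List.mem_cons, List.not_mem_nil, or_false] at h1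
  rcases h1 with rfl | rfl | rfl | rfl | rfl | rfl | rfl | rfl | rfl
  · exact row2 B
  · exact row3 B
  · exact row5 B
  · exact row7 B
  · exact row11 B
  · exact row13 B
  · exact row17 B
  · exact row23 B
  · exact row29 B

universe u in
theorem rowIso (B : Base) {S : Type u} [Group S] (h : Cfsg.Spor.IsoFi24' S) {p : ℕ} (hp : p.Prime)
    (hd : p ∣ Nat.card S) : FprRow (p + 1) 1 p S := by
  obtain ⟨e⟩ := h
  have := fin
  exact (row B hp (by rw [← Nat.card_congr e.toEquiv]; exact hd)).of_mulEquiv hp e.symm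

end Cfsg.Agent.H435.Fpr.FiTwentyFour
end

private theorem dce_1478cbf63d91 : _root_.True := by
  try have : _root_.True := by simp only [_root_.Cfsg.Agent.H435.Fpr.FiTwentyFour.loc.eq_1]
  try have : _root_.True := by simp only [_root_.Cfsg.Agent.H940.Eng.D.l_fi24p.eq_1]
  exact _root_.True.intro
end
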