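import Cfsg.Agent.H398.FPR.Rad_m3
import Cfsg.Agent.H400.TwoExcChev
import Cfsg.Agent.H86.SLtwo
import Cfsg.Agent.Nodes.RGDFoldSL
import Cfsg.Agent.H400.TwoExcE_mg
import Cfsg.Agent.H110.Fpr.FamL_m3
import Cfsg.Agent.H448.FprExc.RowG2_m3
import Cfsg.Agent.S1054
import Cfsg.Agent.ChevFast.E6
import Cfsg.Agent.ChevFast.E7
import Cfsg.Agent.ChevFast.E8
import Cfsg.Agent.ChevFast.F4
import Cfsg.Agent.ChevFast.Lin
import Cfsg.Agent.H398.FPR.Count
import Cfsg.Agent.H452.FprCyc
import Cfsg.Agent.H441.FPR.BitR_m3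
import Cfsg.Agent.H441.FPR.Row_m3
import Cfsg.Agent.H65.UnivE
import Cfsg.Agent.S1077
import Cfsg.Agent.Lib.Zsigmondy
import Cfsg.Agent.ChevalleyStructure.StEmbed
import Cfsg.Agent.Nodes.KindE
import Cfsg.Agent.H715.Fpr.Row4_m3
import Cfsg.Agent.H305.SepJ1
import Cfsg.Agent.H940.RowJ4
import Cfsg.Agent.S0713
import Cfsg.Agent.TypeM.Two
import Cfsg.Agent.TypeM.FactsMcL
import Cfsg.Agent.H444.ThLoc
import Cfsg.Agent.H444.FprTable
import Cfsg.Agent.S0033
import Cfsg.Agent.OddOrderLocal.FittingHall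
import Cfsg.Agent.H147.Fpr.CoOneNine
import Cfsg.Agent.H715.Fpr.M11_mg
import Cfsg.Agent.H715.Fpr.M23_m3
import Cfsg.Agent.H715.Fpr.M24
import Cfsg.Agent.H715.Fpr.HS
import Cfsg.Agent.H715.Fpr.J2
import Cfsg.Agent.H715.Fpr.J3
import Cfsg.Agent.H715.Fpr.McL
import Cfsg.Agent.H147.Fpr.Co3
import Cfsg.Agent.H147.Fpr.He
import Cfsg.Agent.H147.Fpr.RuOdd
import Cfsg.Agent.H147.Fpr.Suz
import Cfsg.Agent.H973.RG.ON
import Cfsg.Agent.H438.Fpr.HNC
import Cfsg.Agent.H438.Fpr.LyC
import Cfsg.Agent.H438.Fpr.TitsB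
import Cfsg.Agent.H433.Fpr.Fi22
import Cfsg.Agent.H433.Fpr.Fi23
import Cfsg.Agent.H435.Fpr.FiTwentyFour
import Cfsg.Agent.FastGrp
import Cfsg.Agent.Prune
set_option linter.all false

section
prune_inst 0x7f00000000000000000000000000000000000000000000000000000000000000000000000000000000000000000000000000000000000000000000000000000000000000000000000000000000000000003fffffffffffffffffffffffffffbeffbdffffffff

-- part: H435/Fpr/ExcThree
section
set_option linter.all false
open scoped Cfsg.Agent.FastGrp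

-- part: H400/FprOneW
section
/-!
# Fixed point ratios of `p`-elements: `e = 1`, weak Heisenberg structure (helper400, TEAM FPR)

`Hw R r`: `Q_r` has commutators in `X r`, `X r` is central, `Q_r` is not abelian (`F₄(2ᵃ)` is allowed).
-/

set_option autoImplicit false
set_option linter.unusedSectionVars false
set_option linter.unusedVariables false

namespace Cfsg.Agent.H400.Fpr

open CoxeterSystem Cfsg.Agent.ChevalleyStructure.CoxeterGeom Cfsg.Agent.Tits.Roots Cfsg.Agent.Tits.Core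
  Cfsg.Agent.Tits.Exchange Cfsg.Agent.Nodes.Reps Cfsg.Agent.Nodes.BNOf Cfsg.Agent.Nodes.StabComb
  Cfsg.Agent.Nodes.Bruhat Cfsg.Agent.Nodes.OppDec Cfsg.Agent.Nodes.PosPair Cfsg.Agent.Nodes.Coroot
  Cfsg.Agent.KFacts.RgdPar Cfsg.Agent.KFacts.RgdSL Cfsg.Agent.KFacts.RgdTI Cfsg.Agent.Nodes.LeviDec
open Cfsg.Agent.H400.TwoExc
open Cfsg.Agent.H398.FPR (CommFull UGood Pair FreeOn heis_uGood)
open Cfsg.Agent.H435.Fpr (PairM)
open scoped commutatorElement

variable {I W Y : Type*} [Fintype I] [DecidableEq I] [Group W] [Group Y] {M : CoxeterMatrix I}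
  {cs : CoxeterSystem M W} {A : I → I → ℤ} {h : IsCartan M A} {p : ℕ} {T : Subgroup Y} {n : I → Y}
  {X : (I → ℤ) → Subgroup Y}

structure Hw (R : RGD cs h p T n X) (r : I → ℤ) : Prop where
  L : LR R r
  com : ∀ s ∈ Gt cs h r, ∀ t ∈ Gt cs h r, ∀ u ∈ X s, ∀ v ∈ X t, ⁅u, v⁆ ∈ X r
  nab : ∃ s ∈ Gt cs h r, ∃ t ∈ Gt cs h r, ∃ u ∈ X s, ∃ v ∈ X t, u * v ≠ v * u

theorem mem_Gt_self [Finite W] {r : I → ℤ} (hr : IsRoot cs h r) : r ∈ Gt cs h r :=
  ⟨hr, by rw [cpr_self cs h hr]; norm_num⟩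

theorem Hs.hw {R : RGD cs h p T n X} {r : I → ℤ} [Finite W] (H : Hs R r) (hrk : ∃ s ∈ Gt cs h r, s ≠ r) :
    Hw R r where
  L := H.L
  com s hs t ht u hu v hv := H.comm_mem (H.X_le hs hu) (H.X_le ht hv)
  nab := by
    obtain ⟨s, hs, hsr⟩ := hrk
    obtain ⟨u, hu, hu1⟩ := (Subgroup.bot_or_exists_ne_one (X s)).resolve_left (X_ne_bot R hs.1)
    obtain ⟨w, hw, hw1⟩ := (Subgroup.bot_or_exists_ne_one (X r)).resolve_left (X_ne_bot R H.L.root)
    obtain ⟨v, hv, hvw⟩ := H.sur s hs hsr u hu hu1 w hw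
    refine ⟨s, hs, _, H.sub s hs hsr, u, hu, v, hv, fun h0 => hw1 ?_⟩
    rw [← hvw, commutatorElement_eq_one_iff_mul_comm]
    exact h0

theorem Hw.act {R : RGD cs h p T n X} {r : I → ℤ} [Finite W] (H : Hw R r) (w : W) : Hw R (rep cs h w r) := by
  have hr := H.L.root
  obtain ⟨g, hg⟩ := exists_rp cs R.nsys w
  have hback : ∀ s : I → ℤ, IsRoot cs h s → ∀ u ∈ X s, g⁻¹ * u * g ∈ X (rep cs h w⁻¹ s) := by
    intro s hs u hu
    have := R.conj_mem hg.inv hs hu
    rwa [inv_inv] at this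
  have hww : ∀ s : I → ℤ, rep cs h w (rep cs h w⁻¹ s) = s := by
    intro s
    rw [← rep_mul_apply, mul_inv_cancel, map_one, Module.End.one_apply]
  have hGt : ∀ s, s ∈ Gt cs h (rep cs h w r) → rep cs h w⁻¹ s ∈ Gt cs h r := by
    intro s hs
    refine ⟨hs.1.act _, ?_⟩
    have h1 := hs.2
    rwa [← hww s, cpr_rep cs h w _ hr] at h1
  have hGt' : ∀ s, s ∈ Gt cs h r → rep cs h w s ∈ Gt cs h (rep cs h w r) := by
    intro s hs
    refine ⟨hs.1.act _, ?_⟩
    rw [cpr_rep cs h w _ hr]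
    exact hs.2
  refine ⟨H.L.act w, ?_, ?_⟩
  · intro s hs t ht u hu v hv
    have h1 := H.com _ (hGt s hs) _ (hGt t ht) _ (hback s hs.1 u hu) _ (hback t ht.1 v hv)
    have h2 := R.conj_mem hg hr h1
    have h3 : g * ⁅g⁻¹ * u * g, g⁻¹ * v * g⁆ * g⁻¹ = ⁅u, v⁆ := by
      simp only [commutatorElement_def]; group
    rwa [h3] at h2
  · obtain ⟨s, hs, t, ht, u, hu, v, hv, huv⟩ := H.nab
    refine ⟨_, hGt' s hs, _, hGt' t ht, _, R.conj_mem hg hs.1 hu, _, R.conj_mem hg ht.1 hv, fun h0 => huv ?_⟩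
    calc u * v = g⁻¹ * ((g * u * g⁻¹) * (g * v * g⁻¹)) * g := by group
      _ = g⁻¹ * ((g * v * g⁻¹) * (g * u * g⁻¹)) * g := by rw [h0]
      _ = v * u := by group

theorem exists_neg_act [Finite W] {r : I → ℤ} (hr : IsRoot cs h r) : ∃ w : W, rep cs h w r = -r := by
  obtain ⟨v, i, rfl⟩ := hr
  refine ⟨Cfsg.Agent.Nodes.SubComb.rfl' cs v i, ?_⟩
  rw [rep_rfl'_eq, cpr_self cs h ((isRoot_sr cs h i).act v)]
  rw [two_smul]; abel

theorem Hw.neg {R : RGD cs h p T n X} {r : I → ℤ} [Finite W] (H : Hw R r) : Hw R (-r) := by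
  obtain ⟨w, hw⟩ := exists_neg_act (cs := cs) (h := h) H.L.root
  rw [← hw]
  exact H.act w

theorem c2_of_hw {R : RGD cs h p T n X} {r : I → ℤ} [Finite W] (H : Hw R r) : C2 (X r) (QQ cs h X r) := by
  have hr := H.L.root
  refine ⟨RGD.le_Sup (mem_Gt_self hr), ?_, ?_⟩
  · intro z hz g hg
    exact (H.L.comm' (RGD.Sup_mono (S' := Ge cs h r) (fun s hs => ⟨hs.1, hs.2.le⟩) hg) hz).symm
  · intro a ha b hb
    refine comm_mem_of_gen (fun s : Gt cs h r => X s.1)
      (fun z hz s v hv => (H.L.comm s.1 s.2.1 s.2.2.le v hv z hz).symm) ?_ a ha b hb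
    rintro ⟨s, hs⟩ ⟨t, ht⟩ u hu v hv
    exact H.com s hs t ht u hu v hv

theorem Lw_comm {R : RGD cs h p T n X} {r : I → ℤ} [Finite W] (L : LR R r) {x : Y} (hx : x ∈ L0 cs h X r) {z : Y}
    (hz : z ∈ X r ⊔ X (-r)) : x * z = z * x := by
  have hr := L.root
  obtain ⟨w, hw⟩ := exists_neg_act (cs := cs) (h := h) hr
  have H' : LR R (-r) := by rw [← hw]; exact L.act w
  have h1 : X r ⊔ X (-r) ≤ Subgroup.centralizer (L0 cs h X r : Set Y) := by
    refine sup_le ?_ ?_
    · intro z hz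
      rw [Subgroup.mem_centralizer_iff]
      intro y hy
      exact L.comm' (RGD.Sup_mono (S' := Ge cs h r) (fun s hs => ⟨hs.1, hs.2.ge⟩) hy) hz
    · intro z hz
      rw [Subgroup.mem_centralizer_iff]
      intro y hy
      refine H'.comm' (RGD.Sup_mono (S' := Ge cs h (-r)) (fun s hs => ⟨hs.1, ?_⟩) hy) hz
      rw [cpr_neg_right cs h _ hr, hs.2, neg_zero]
  exact Subgroup.mem_centralizer_iff.1 (h1 hz) x hx

theorem X_norm_QQ' {R : RGD cs h p T n X} {r : I → ℤ} (hr : IsRoot cs h r) [Finite W] {s : I → ℤ}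
    (hs : IsRoot cs h s) (h0 : 0 ≤ cpr cs h s r) {a b : Y} (ha : a ∈ X s) (hb : b ∈ QQ cs h X r) :
    a * b * a⁻¹ ∈ QQ cs h X r := by
  have hX : ∀ {t : I → ℤ}, t ∈ Gt cs h r → X t ≤ QQ cs h X r := fun ht => RGD.le_Sup (S := Gt cs h r) ht
  have h1 : QQ cs h X r ≤ (QQ cs h X r).comap (MulAut.conj a).toMonoidHom := by
    refine RGD.Sup_le fun t ht v hv => ?_
    show a * v * a⁻¹ ∈ QQ cs h X r
    by_cases hst : s = t
    · subst hst
      exact mul_mem (mul_mem (hX ht ha) (hX ht hv)) (inv_mem (hX ht ha))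
    by_cases hst' : s = -t
    · exfalso
      rw [hst', ← neg_one_smul ℤ t, cpr_smul cs h _ _ hr] at h0
      have := ht.2
      omega
    have h2 : a * v * a⁻¹ = ⁅a, v⁆ * v := by rw [commutatorElement_def]; group
    rw [h2]
    refine mul_mem ?_ (hX ht hv)
    refine (iSup_le ?_ : btw cs h X s t ≤ QQ cs h X r) (R.comm s t hs ht.1 hst hst' a ha v hv)
    rintro ⟨z, hz⟩
    obtain ⟨hz1, m, u, v, hm, hu, hv, he⟩ := hz
    refine hX ⟨hz1, ?_⟩
    have h3 := congrArg (fun y => cpr cs h y r) he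
    simp only [cpr_smul cs h _ _ hr, cpr_add cs h _ _ hr] at h3
    have h4 : 0 < v * cpr cs h t r := mul_pos hv ht.2
    have h5 : 0 ≤ u * cpr cs h s r := mul_nonneg hu.le h0
    by_contra h6
    push Not at h6
    have h7 : m * cpr cs h z r ≤ 0 := mul_nonpos_of_nonneg_of_nonpos hm.le h6
    omega
  exact h1 hb

theorem Lw_norm {R : RGD cs h p T n X} {r : I → ℤ} [Finite W] [Finite Y] (hr : IsRoot cs h r) {x : Y}
    (hx : x ∈ L0 cs h X r) : ∀ y ∈ QQ cs h X r, x * y * x⁻¹ ∈ QQ cs h X r := by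
  have h1 : L0 cs h X r ≤ Subgroup.normalizer (QQ cs h X r : Set Y) := by
    refine RGD.Sup_le fun s hs a ha => norm_iff.2 fun b hb => X_norm_QQ' (R := R) hr hs.1 hs.2.ge ha hb
  exact fun y hy => norm_iff.1 (h1 hx) y hy

/-- `Q_r` and `Q_{-r}` generate. -/
theorem sup_QQ_eq_top' {R : RGD cs h p T n X} {r : I → ℤ} [Finite W] [Finite Y] (L : LR R r)
    (hs : IsSimpleGroup Y) (hG1 : Cfsg.Agent.Nodes.RGDLib.G1 cs h X = ⊤) :
    QQ cs h X r ⊔ QQ cs h X (-r) = ⊤ := by
  have hr := L.root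
  obtain ⟨m, hm, hmX⟩ := exists_refl R hr
  have hcjQ := cj_QQ (R := R) hr hmX
  have hX2 : ∀ s, IsRoot cs h s → s ∈ Gt cs h r ∨ cpr cs h s r = 0 ∨ s ∈ Gt cs h (-r) := by
    intro s hs
    rcases lt_trichotomy (cpr cs h s r) 0 with h0 | h0 | h0
    · exact Or.inr (Or.inr ⟨hs, by rw [cpr_neg_right cs h _ hr]; omega⟩)
    · exact Or.inr (Or.inl h0)
    · exact Or.inl ⟨hs, h0⟩
  rw [← hcjQ]
  set K := QQ cs h X r ⊔ cj m (QQ cs h X r) with hK
  have hnorm : K.Normal := by
    have h1 : Cfsg.Agent.Nodes.RGDLib.G1 cs h X ≤ Subgroup.normalizer (K : Set Y) := by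
      refine RGD.Sup_le fun s hs => ?_
      rcases hX2 s hs with h0 | h0 | h0
      · exact ((RGD.le_Sup (S := Gt cs h r) h0).trans le_sup_left).trans Subgroup.le_normalizer
      · intro a ha
        have haL : a ∈ L0 cs h X r := RGD.le_Sup (S := {s | IsRoot cs h s ∧ cpr cs h s r = 0}) ⟨hs, h0⟩ ha
        have ham : a * m = m * a := Lw_comm L haL hm
        have h2 := Lw_norm (R := R) hr haL
        refine norm_iff.2 ?_
        have h3 : K ≤ K.comap (MulAut.conj a).toMonoidHom := by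
          refine sup_le (fun y hy => Subgroup.mem_sup_left (h2 y hy)) ?_
          rintro _ ⟨y, hy, rfl⟩
          show a * (m * y * m⁻¹) * a⁻¹ ∈ K
          have h4 : a * (m * y * m⁻¹) * a⁻¹ = m * (a * y * a⁻¹) * m⁻¹ := by
            calc a * (m * y * m⁻¹) * a⁻¹ = (a * m) * y * (a * m)⁻¹ := by group
              _ = (m * a) * y * (m * a)⁻¹ := by rw [ham]
              _ = _ := by group
          rw [h4]
          exact Subgroup.mem_sup_right (conj_mem_cj.2 (h2 y hy))
        exact fun y hy => h3 hy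
      · have h1 : X s ≤ cj m (QQ cs h X r) := by
          rw [hcjQ]
          exact RGD.le_Sup h0
        exact (h1.trans le_sup_right).trans Subgroup.le_normalizer
    rw [hG1, top_le_iff] at h1
    exact Subgroup.normalizer_eq_top_iff.1 h1
  rcases hs.eq_bot_or_eq_top_of_normal K hnorm with h1 | h1
  · exfalso
    have h2 : X r ≤ K := (RGD.le_Sup (S := Gt cs h r) (mem_Gt_self hr)).trans le_sup_left
    rw [h1, le_bot_iff] at h2
    exact X_ne_bot R hr h2
  · exact h1

/-- **`e = 1`**, weak structure. -/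
theorem one_hw {R : RGD cs h p T n X} {r : I → ℤ} [Finite W] [Finite Y] [Fact p.Prime] (H : Hw R r)
    (hs : IsSimpleGroup Y) (hG1 : Cfsg.Agent.Nodes.RGDLib.G1 cs h X = ⊤) {ℓ k M' : ℕ}
    (hℓ : ℓ.Prime) {x : Y} (hxT : x ∈ T) (hxk : x ^ ℓ ^ k = 1)
    (fr : ∀ s ∈ Gt cs h r, ∀ u ∈ X s, x * u * x⁻¹ = u → u = 1)
    (hQp : IsPGroup p (QQ cs h X r))
    (hM : ∀ t : ℕ, t ≠ 0 → p ^ t ≡ 1 [MOD ℓ] → M' ≤ p ^ t) (hMr : M' ≤ Nat.card (X r)) :
    UGood 1 M' x := by
  have hp : p.Prime := Fact.out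
  have hr := H.L.root
  have H' := H.neg
  have hc1 := c2_of_hw H
  have hc2 := c2_of_hw H'
  have nor : ∀ s, IsRoot cs h s → ∀ u ∈ X s, x * u * x⁻¹ ∈ X s := by
    intro s hs u hu
    rw [← R.tor s hs x hxT]
    exact conj_mem_cj.2 hu
  have hneg : ∀ s, s ∈ Gt cs h (-r) → -s ∈ Gt cs h r := by
    intro s hs
    have := hs.2
    rw [cpr_neg_right cs h _ hr] at this
    exact ⟨hs.1.neg, by rw [← neg_one_smul ℤ s, cpr_smul cs h _ _ hr]; omega⟩
  have f1 : FreeOn x (QQ cs h X r) := freeOn_of_roots (R := R) hc1 (mem_Gt_self hr) (fun s hs => nor s hs.1) fr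
  have f2 : FreeOn x (QQ cs h X (-r)) := freeOn_of_roots (R := R) hc2 (mem_Gt_self hr.neg)
    (fun s hs => nor s hs.1) (fun s hs => by
      have h1 := fr_neg R hxT (s := -s) hs.1.neg (fr (-s) (hneg s hs))
      rwa [neg_neg] at h1)
  obtain ⟨m, hm, hmX⟩ := exists_refl R hr
  have hcjQ := cj_QQ (R := R) hr hmX
  have hcj : cj m (X r) = X (-r) := by
    rw [hmX r hr, cpr_self cs h hr]
    congr 1
    rw [two_smul]; abel
  have hQp' : IsPGroup p (QQ cs h X (-r)) := by
    rw [← hcjQ]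
    exact hQp.map _
  have hcardr : Nat.card (X (-r)) = Nat.card (X r) := by
    rw [← hcj]
    exact (Nat.card_congr (Subgroup.equivMapOfInjective (X r) (MulAut.conj m).toMonoidHom
      (MulAut.conj m).injective).toEquiv).symm
  have hgen := sup_QQ_eq_top' H.L hs hG1
  have hna : ∀ {r' : I → ℤ} (H : Hw R r'), ¬ ∀ a ∈ QQ cs h X r', ∀ b ∈ QQ cs h X r', a * b = b * a := by
    intro r' H hab
    obtain ⟨s, hs, t, ht, u, hu, v, hv, huv⟩ := H.nab
    exact huv (hab _ (RGD.le_Sup (S := Gt cs h r') hs hu) _ (RGD.le_Sup (S := Gt cs h r') ht hv))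
  refine Cfsg.Agent.H398.FPR.heis_uGood f1 f2
    (PairM.of_pGroup hℓ hp hxk hQp f1.norm (FreeOn.commFull f1) hM)
    (PairM.of_pGroup hℓ hp hxk hQp' f2.norm (FreeOn.commFull f2) hM) hc1.le hc2.le
    hc1.cen hc2.cen ?_ ?_ (hna H) (hna H') hMr (by rw [hcardr]; exact hMr) ?_ ?_
  · intro a ha b hb
    exact hc1.com a ha b hb
  · intro a ha b hb
    exact hc2.com a ha b hb
  · intro K hK z hz hz1 hzK
    obtain ⟨m, hm, hmX⟩ := exists_refl_elt R hr hz hz1
    have hmK : m ∈ K := (sup_le (hc1.le.trans hK) (by rwa [Subgroup.zpowers_le])) hm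
    rw [← top_le_iff, ← hgen, ← cj_QQ (R := R) hr hmX]
    exact sup_le hK (cc_le hmK hK)
  · intro K hK z hz hz1 hzK
    have hz' : z ∈ X (-(-r)) := by rwa [neg_neg]
    obtain ⟨m, hm, hmX⟩ := exists_refl_elt R hr.neg hz' hz1
    have hmK : m ∈ K := (sup_le (hc2.le.trans hK) (by rwa [Subgroup.zpowers_le])) hm
    have h1 := cj_QQ (R := R) hr.neg hmX
    rw [neg_neg] at h1
    rw [← top_le_iff, ← hgen, ← h1]
    exact sup_le (cc_le hmK hK) hK

end Cfsg.Agent.H400.Fpr
end

-- part: H400/FprChevOne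
section
/-!
# Fixed point ratios of `p`-elements: the exceptional Chevalley groups, `e = 1` (helper400, TEAM FPR)
-/

set_option autoImplicit false
set_option linter.unusedSectionVars false
set_option linter.unusedVariables false

namespace Cfsg.Agent.H400.Fpr.Chev

open CoxeterSystem Cfsg.Agent.ChevalleyStructure.CoxeterGeom Cfsg.Agent.Tits.Roots Cfsg.Agent.Tits.Core
  Cfsg.Agent.Nodes.Reps Cfsg.Agent.Nodes.BNOf Cfsg.Agent.KFacts.RgdSL Cfsg.Agent.Nodes.RGDChev
  Cfsg.Agent.ChevalleyStructure.CoxeterGeomTypes Cfsg.Agent.Nodes.KindChev Cfsg.Agent.Nodes.Coroot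
  Cfsg.Agent.KFacts.RgdTI
open Cfsg.Lie Cfsg.Agent.ChevalleyStructure Cfsg.Agent.ChevalleyStructure.Elts
open Cfsg.Agent.H400.TwoExc Cfsg.Agent.H86.Par
open Cfsg.Agent.ChevalleyStructure.RootCombGood (car)
open Cfsg.Agent.H398.FPR (CommFull UGood Pair Good)
open Cfsg.Agent.Nodes.RGDFoldSL
open scoped commutatorElement MatrixGroups

universe u

section Cpr

variable {l : ℕ} {W : Type*} [Group W] [Finite W] {M : CoxeterMatrix (Fin l)} {cs : CoxeterSystem M W}
  {A : Fin l → Fin l → ℤ} {h : IsCartan M A}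

theorem cpr_coord {r : Fin l → ℤ} (hr : IsRoot cs h r) (i0 : Fin l)
    (hc : ∀ i, cpr cs h (sr i) r = if i = i0 then 1 else 0) (s : Fin l → ℤ) : cpr cs h s r = s i0 := by
  let f : (Fin l → ℤ) →+ ℤ := AddMonoidHom.mk' (fun x => cpr cs h x r) fun a b => cpr_add cs h a b hr
  have h1 : s = ∑ i, s i • (sr i : Fin l → ℤ) := by
    funext j
    rw [Finset.sum_apply]
    simp only [Pi.smul_apply, smul_eq_mul, sr, Pi.single_apply]
    simp
  have h2 : f s = ∑ i, s i • f (sr i) := by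
    conv_lhs => rw [h1]
    rw [map_sum]
    exact Finset.sum_congr rfl fun i _ => by rw [map_zsmul]
  have h3 : ∀ i, f (sr i) = if i = i0 then 1 else 0 := hc
  show f s = _
  rw [h2]
  simp only [h3, smul_eq_mul, mul_ite, mul_one, mul_zero]
  simp

end Cpr

section SL

variable {F : Type*} [Field F]

theorem hS_mul {c d : F} (hc : c ≠ 0) (hd : d ≠ 0) :
    (hS c : Matrix.SpecialLinearGroup (Fin 2) F) * hS d = hS (c * d) := by
  apply Subtype.ext
  change (hS c : Matrix.SpecialLinearGroup (Fin 2) F).1 * (hS d).1 = (hS (c * d)).1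
  have h1 : (hS c : Matrix.SpecialLinearGroup (Fin 2) F).1 = !![c, 0; 0, c⁻¹] := coe_hS hc
  have h2 : (hS d : Matrix.SpecialLinearGroup (Fin 2) F).1 = !![d, 0; 0, d⁻¹] := coe_hS hd
  have h3 : (hS (c * d) : Matrix.SpecialLinearGroup (Fin 2) F).1 = !![c * d, 0; 0, (c * d)⁻¹] :=
    coe_hS (mul_ne_zero hc hd)
  rw [h1, h2, h3]
  ext i j
  fin_cases i <;> fin_cases j <;> simp [mul_comm]

theorem hS_one : (hS 1 : Matrix.SpecialLinearGroup (Fin 2) F) = 1 := by
  apply Subtype.ext
  have h1 : (hS 1 : Matrix.SpecialLinearGroup (Fin 2) F).1 = !![1, 0; 0, 1⁻¹] := coe_hS one_ne_zero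
  rw [h1, inv_one]
  exact Matrix.one_fin_two.symm

theorem hS_pow {c : F} (hc : c ≠ 0) (i : ℕ) : (hS c : Matrix.SpecialLinearGroup (Fin 2) F) ^ i = hS (c ^ i) := by
  induction i with
  | zero => rw [pow_zero, pow_zero, hS_one]
  | succ i ih => rw [pow_succ, pow_succ, ih, hS_mul (pow_ne_zero i hc) hc]

end SL

section Chev

variable {D : ChevalleyDatum} {l : ℕ} {M : CoxeterMatrix (Fin l)} (hp : IsType D l M) {K : Type u} [Field K]
  {W : Type*} [Group W] {cs : CoxeterSystem M W}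

/-- the fixed points of a torus element on a root subgroup -/
theorem free_X [Finite K] {g : ↥(D.group K)} {c : K} {s : ℕ} (hs : s < D.nroots) {m : ℤ}
    (hg : ∀ t, (g : GL D.Idx K) * xG hp.inList s t * (g : GL D.Idx K)⁻¹ = xG hp.inList s (c ^ m * t))
    (hc : c ^ m ≠ 1) : ∀ u ∈ (XV D l K (vec D l s)).subgroupOf (D.group K), g * u * g⁻¹ = u → u = 1 := by
  rintro ⟨u, hu'⟩ hu hgu
  rw [Subgroup.mem_subgroupOf, XV_vec hp K hs, mem_rootSubgroup_iff hp.inList] at hu
  obtain ⟨t, rfl⟩ := hu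
  have h1 : (g : GL D.Idx K) * xG hp.inList s t * (g : GL D.Idx K)⁻¹ = xG hp.inList s t :=
    congrArg Subtype.val hgu
  rw [hg] at h1
  have h2 := xG_injective hp.inList hs h1
  have h3 : (c ^ m - 1) * t = 0 := by rw [sub_mul, one_mul, h2, sub_self]
  rcases mul_eq_zero.1 h3 with h4 | h4
  · exact absurd (sub_eq_zero.1 h4) hc
  · apply Subtype.ext
    show xG hp.inList s t = 1
    rw [h4, xG_zero]

/-- **`e = 1` for an exceptional Chevalley group.** -/
theorem one_chev [Finite K] [Finite W] {p : ℕ} [Fact p.Prime] [CharP K p] (hs : IsSimpleGroup ↥(D.group K))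
    (H : Hw (rgd (K := K) hp cs p) (vec D l (top D))) (i0 : Fin l)
    (hck : ∀ s < D.nroots, car D (top D) s = vec D l s i0) (hb : ∀ s < D.nroots, vec D l s i0 ≤ 2)
    (hcr : ∀ i, cpr cs hp.isCartan (sr i) (vec D l (top D)) = if i = i0 then 1 else 0)
    {ℓ : ℕ} (hℓ : ℓ.Prime) (hℓ2 : ℓ ≠ 2) (hd : ℓ ∣ Nat.card K - 1) :
    ∃ x : ↥(D.group K), x ^ ℓ = 1 ∧ ∀ M' : ℕ, (∀ t : ℕ, t ≠ 0 → p ^ t ≡ 1 [MOD ℓ] → M' ≤ p ^ t) →
      M' ≤ Nat.card K → UGood 1 M' x := by
  have : Fact ℓ.Prime := ⟨hℓ⟩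
  have hr := H.L.root
  obtain ⟨v, hv⟩ := exists_prime_orderOf_dvd_card' (G := Kˣ) ℓ (by rw [Nat.card_units]; exact hd)
  set c : K := (v : K) with hc
  have hc0 : c ≠ 0 := v.ne_zero
  have hcℓ : c ^ ℓ = 1 := by rw [hc, ← Units.val_pow_eq_pow_val, ← hv, pow_orderOf_eq_one, Units.val_one]
  have hc1 : c ≠ 1 := by
    intro h1
    have h2 : v = 1 := Units.ext h1
    rw [h2, orderOf_one] at hv
    exact hℓ.one_lt.ne hv
  have hc2 : c ^ 2 ≠ 1 := by
    intro h1
    have h2 : v ^ 2 = 1 := Units.ext (by rw [Units.val_pow_eq_pow_val, Units.val_one]; exact h1)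
    have h3 := orderOf_dvd_of_pow_eq_one h2
    rw [hv] at h3
    exact hℓ2 ((Nat.prime_dvd_prime_iff_eq hℓ Nat.prime_two).1 h3)
  have hmem : hG hp.inList (top D) c ∈ D.group K := hG_mem_group hp.inList _ _
  have htop : top D < D.nroots := top_lt hp.inList
  let x : ↥(D.group K) := ⟨hG hp.inList (top D) c, hmem⟩
  have hxℓ : x ^ ℓ = 1 := by
    apply Subtype.ext
    rw [Subgroup.coe_pow]
    show (hG hp.inList (top D) c) ^ ℓ = 1
    rw [← psi_hS hp.inList htop, ← map_pow, hS_pow hc0, hcℓ, hS_one, map_one]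
  refine ⟨x, hxℓ, fun M' hM hMr => ?_⟩
  have hcardX : Nat.card ((XV D l K (vec D l (top D))).subgroupOf (D.group K)) = Nat.card K := by
    rw [Nat.card_congr (Subgroup.subgroupOfEquivOfLe (XV_le_group hp _)).toEquiv, XV_vec hp K htop]
    exact card_rootSubgroup hp htop
  have hQp : IsPGroup p (QQ cs hp.isCartan (fun x => (XV D l K x).subgroupOf (D.group K)) (vec D l (top D))) := by
    refine IsPGroup.to_le (rgd (K := K) hp cs p).isPGroup_Upos ?_
    refine RGD.Sup_mono (Gt_subset_pos hr fun i => ?_)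
    rw [hcr]
    split_ifs <;> norm_num
  refine one_hw (k := 1) H hs (G1_eq_top hp cs) hℓ (x := x) ?_ (by rw [pow_one]; exact hxℓ) ?_ hQp hM
    (by rw [hcardX]; exact hMr)
  · exact Subgroup.mem_subgroupOf.2 (hG_mem_diagonal hp.inList htop hc0)
  · intro s hs
    obtain ⟨r, hr', rfl⟩ := (isRoot_iff hp cs _).1 hs.1
    have h1 := hs.2
    rw [cpr_coord hr i0 hcr] at h1
    have h2 := hb r hr'
    refine free_X hp hr' (m := car D (top D) r) (fun t => hG_top_conj hp.inList hc0 hr' t) ?_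
    rw [hck r hr']
    have h3 : vec D l r i0 = 1 ∨ vec D l r i0 = 2 := by omega
    rcases h3 with h3 | h3
    · rw [h3, zpow_one]; exact hc1
    · rw [h3]
      intro h4
      apply hc2
      have h5 : (2 : ℤ) = ((2 : ℕ) : ℤ) := rfl
      rw [h5, zpow_natCast] at h4
      exact h4

end Chev

end Cfsg.Agent.H400.Fpr.Chev
end

-- part: H400/FprChevRows
section
/-!
# Fixed point ratios of `p`-elements: `G₂, F₄, E₆, E₇, E₈`, `e = 1` (helper400, TEAM FPR)
-/

set_option autoImplicit false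
set_option linter.unusedSectionVars false
set_option linter.unusedVariables false

namespace Cfsg.Agent.H400.Fpr.Chev

open CoxeterSystem Cfsg.Agent.ChevalleyStructure.CoxeterGeom Cfsg.Agent.Tits.Roots Cfsg.Agent.Tits.Core
  Cfsg.Agent.Nodes.Reps Cfsg.Agent.Nodes.BNOf Cfsg.Agent.KFacts.RgdSL Cfsg.Agent.Nodes.RGDChev
  Cfsg.Agent.ChevalleyStructure.CoxeterGeomTypes Cfsg.Agent.Nodes.KindChev Cfsg.Agent.Nodes.Coroot
  Cfsg.Agent.KFacts.RgdTI
open Cfsg.Lie Cfsg.Agent.ChevalleyStructure Cfsg.Agent.ChevalleyStructure.Elts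
open Cfsg.Agent.H400.TwoExc Cfsg.Agent.H86.Par
open Cfsg.Agent.ChevalleyStructure.RootCombGood (car)
open Cfsg.Agent.H398.FPR (CommFull UGood Pair Good)
open Cfsg.Agent.H400.Fpr (cpr_val)
open scoped commutatorElement MatrixGroups

universe u

section Hw

variable {D : ChevalleyDatum} {l : ℕ} {M : CoxeterMatrix (Fin l)} (hp : IsType D l M) {K : Type u} [Field K]
  {W : Type*} [Group W] {cs : CoxeterSystem M W}

/-- the weak Heisenberg structure from the tables -/
theorem hw_chev [Finite K] [Finite W] {R : ℕ} {m : ℤ} (hN : chkN D = true) (hS : chkS D l R m = true)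
    (hR : R < D.nroots) {d : Fin l → ℤ} (H : GR cs hp.isCartan d (vec D l R)) (p : ℕ)
    [Fact p.Prime] [CharP K p] {a b : ℕ} (ha : a < D.nroots) (hb : b < D.nroots)
    (hab : vec D l a + vec D l b = vec D l R) (hab1 : a ≠ b) (hab2 : a ≠ D.neg b) {C : ℤ} (hC : C = 1 ∨ C = -1)
    (hcom : D.commTerms b a = [(R, C, 1, 1)])
    (ha' : 0 < qf (cartanOf D l) d (vec D l a) (vec D l R)) (hb' : 0 < qf (cartanOf D l) d (vec D l b) (vec D l R)) :
    Hw (rgd (K := K) hp cs p) (vec D l R) := by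
  have hnil : ∀ x y, IsRoot cs hp.isCartan x → IsRoot cs hp.isCartan y → x ≠ -y → ¬ IsRoot cs hp.isCartan (x + y) →
      ∀ u ∈ (XV D l K x).subgroupOf (D.group K), ∀ v ∈ (XV D l K y).subgroupOf (D.group K), u * v = v * u := by
    rintro x y hx hy hne hxy ⟨u, hu'⟩ hu ⟨v, hv'⟩ hv
    exact Subtype.ext (commX hp hN hx hy hne hxy hu hv)
  have hcp : ∀ s, (0 < cpr cs hp.isCartan s (vec D l R) ↔ 0 < qf (cartanOf D l) d s (vec D l R)) := fun s =>
    (cpr_sign H.hd H.rr (H.qf_pos H.rr) s).2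
  refine ⟨⟨H.rr, ?_⟩, ?_, ?_⟩
  · intro x hx h0 u hu v hv
    refine hnil x _ hx H.rr ?_ (H.add_not_root hx h0) u hu v hv
    rintro rfl
    rw [cpr_neg cs _ _ H.rr, cpr_self cs _ H.rr] at h0
    omega
  · intro s hs t ht u hu v hv
    have h1 : u * v = v * u → ⁅u, v⁆ ∈ (XV D l K (vec D l R)).subgroupOf (D.group K) := by
      intro h1
      rw [commutatorElement_eq_one_iff_mul_comm.2 h1]; exact one_mem _
    by_cases hst : s + t = vec D l R
    · obtain ⟨u, hu'⟩ := u
      obtain ⟨v, hv'⟩ := v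
      obtain ⟨a, ha, rfl⟩ := (isRoot_iff hp cs _).1 hs.1
      obtain ⟨b, hb, rfl⟩ := (isRoot_iff hp cs _).1 ht.1
      rw [Subgroup.mem_subgroupOf, XV_vec hp K ha, mem_rootSubgroup_iff hp.inList] at hu
      rw [Subgroup.mem_subgroupOf, XV_vec hp K hb, mem_rootSubgroup_iff hp.inList] at hv
      obtain ⟨t, rfl⟩ := hu
      obtain ⟨u, rfl⟩ := hv
      obtain ⟨C, -, h1⟩ := commS hp (K := K) hS ha hb hst
      rw [Subgroup.mem_subgroupOf, XV_vec hp K hR]
      show ⁅xG hp.inList a t, xG hp.inList b u⁆ ∈ _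
      rw [h1]
      exact xG_mem_rootSubgroup hp.inList _ _
    · apply h1
      have hne : s ≠ -t := by
        rintro rfl
        have h2 := hs.2
        have h3 := ht.2
        rw [cpr_neg cs _ _ H.rr] at h2
        omega
      by_cases hsr : s = vec D l R
      · subst hsr
        refine hnil _ _ hs.1 ht.1 hne ?_ u hu v hv
        rw [add_comm]
        exact H.add_not_root ht.1 ht.2.le
      by_cases htr : t = vec D l R
      · subst htr
        exact hnil _ _ hs.1 ht.1 hne (H.add_not_root hs.1 hs.2.le) u hu v hv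
      have h2 := H.cpr_one hs.1 hsr hs.2
      have h3 := H.cpr_one ht.1 htr ht.2
      have h4 : cpr cs hp.isCartan (s + t) (vec D l R) = 2 := by rw [cpr_add cs _ _ _ H.rr, h2, h3]; norm_num
      refine hnil _ _ hs.1 ht.1 hne (fun h5 => ?_) u hu v hv
      have h6 := H.cpr_one h5 hst (by omega)
      omega
  · refine ⟨_, ⟨isRoot_vec hp cs ha, (hcp _).2 ha'⟩, _, ⟨isRoot_vec hp cs hb, (hcp _).2 hb'⟩,
      ⟨xG hp.inList a 1, xG_mem_group hp.inList _ _⟩, ?_, ⟨xG hp.inList b 1, xG_mem_group hp.inList _ _⟩, ?_, ?_⟩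
    · rw [Subgroup.mem_subgroupOf, XV_vec hp K ha]
      exact xG_mem_rootSubgroup hp.inList _ _
    · rw [Subgroup.mem_subgroupOf, XV_vec hp K hb]
      exact xG_mem_rootSubgroup hp.inList _ _
    · intro h0
      have h1 : xG hp.inList a (1 : K) * xG hp.inList b 1 = xG hp.inList b 1 * xG hp.inList a 1 :=
        congrArg Subtype.val h0
      have h2 := comm_xG hp (K := K) hb ha hab1 hab2 (-1) (-1)
      have h3 : D.commWord K b a (-1) (-1) = [(R, -(C : K))] := by
        show (D.commTerms b a).map _ = _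
        rw [hcom]
        simp
      rw [h3, ← xG_inv, ← xG_inv, inv_inv, inv_inv, wordG_cons, wordG_nil, mul_one] at h2
      rw [commutatorElement_def] at h2
      have h4 : xG hp.inList R (-(C : K)) = 1 := by
        rw [← h2, h1]; group
      have h5 : xG hp.inList R (-(C : K)) = xG hp.inList R 0 := by rw [h4, xG_zero]
      have h6 := xG_injective hp.inList hR h5
      rcases hC with rfl | rfl
      · simp at h6
      · simp at h6

end Hw

section Rows

open CoxeterSystem

variable {K : Type u} [Field K]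

/-- **`G₂(q)`, `e = 1`.** -/
theorem one_G2 [Finite K] {p : ℕ} [Fact p.Prime] [CharP K p] (hs : IsSimpleGroup ↥(chevG2.group K)) {ℓ : ℕ}
    (hℓ : ℓ.Prime) (hℓ2 : ℓ ≠ 2) (hd : ℓ ∣ Nat.card K - 1) :
    ∃ x : ↥(chevG2.group K), x ^ ℓ = 1 ∧ ∀ M' : ℕ, (∀ t : ℕ, t ≠ 0 → p ^ t ≡ 1 [MOD ℓ] → M' ≤ p ^ t) →
      M' ≤ Nat.card K → UGood 1 M' x := by
  have hp : IsType chevG2 2 CoxeterMatrix.G₂ := by simp [IsType, typeList]
  let cs : CoxeterSystem CoxeterMatrix.G₂ CoxeterMatrix.G₂.Group := CoxeterMatrix.G₂.toCoxeterSystem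
  have hW : Finite CoxeterMatrix.G₂.Group := finite_W hp cs
  have hG := grG cs hp
  have hv : vec chevG2 2 11 = toV [3, 2] := by decide +kernel
  have ht : top chevG2 = 11 := by decide +kernel
  refine one_chev (cs := cs) hp hs ?_ 1 (by decide +kernel) (by decide +kernel) ?_ hℓ hℓ2 hd
  · rw [ht]
    exact hw_chev hp (m := 3) chkNG chkSG (by decide +kernel) (d := toV dlG2c) (by rw [hv]; exact hG) p
      (a := 10) (b := 6) (by decide +kernel) (by decide +kernel) (by decide +kernel) (by decide +kernel)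
      (by decide +kernel) (C := 1) (Or.inl rfl) (by decide +kernel) (by decide +kernel) (by decide +kernel)
  · intro i
    rw [ht, hv]
    fin_cases i
    · exact cpr_val hG.hd hG.rr (c := 0) (by decide +kernel) (by decide +kernel)
    · exact cpr_val hG.hd hG.rr (c := 1) (by decide +kernel) (by decide +kernel)

/-- **`F₄(q)`, `e = 1`.** -/
theorem one_F4 [Finite K] {p : ℕ} [Fact p.Prime] [CharP K p] (hs : IsSimpleGroup ↥(chevF4.group K)) {ℓ : ℕ}
    (hℓ : ℓ.Prime) (hℓ2 : ℓ ≠ 2) (hd : ℓ ∣ Nat.card K - 1) :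
    ∃ x : ↥(chevF4.group K), x ^ ℓ = 1 ∧ ∀ M' : ℕ, (∀ t : ℕ, t ≠ 0 → p ^ t ≡ 1 [MOD ℓ] → M' ≤ p ^ t) →
      M' ≤ Nat.card K → UGood 1 M' x := by
  have hp : IsType chevF4 4 CoxeterMatrix.F₄ := by simp [IsType, typeList]
  let cs : CoxeterSystem CoxeterMatrix.F₄ CoxeterMatrix.F₄.Group := CoxeterMatrix.F₄.toCoxeterSystem
  have hW : Finite CoxeterMatrix.F₄.Group := finite_W hp cs
  have hG := grF cs hp
  have hv : vec chevF4 4 47 = toV [2, 4, 3, 2] := by decide +kernel
  have ht : top chevF4 = 47 := by decide +kernel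
  refine one_chev (cs := cs) hp hs ?_ 3 (by (delta Cfsg.Agent.ChevalleyStructure.RootCombGood.car Cfsg.Agent.ChevalleyStructure.RootCombGood.co; rewrite [Cfsg.Agent.ChevFast.F4.cartan, Cfsg.Agent.ChevFast.F4.coroot]; decide +kernel)) (by decide +kernel) ?_ hℓ hℓ2 hd
  · rw [ht]
    exact hw_chev hp (m := 2) chkNF chkSF (by decide +kernel) (d := toV dlF4c) (by rw [hv]; exact hG) p
      (a := 46) (b := 24) (by decide +kernel) (by decide +kernel) (by decide +kernel) (by decide +kernel)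
      (by decide +kernel) (C := 1) (Or.inl rfl) (by decide +kernel) (by (delta Cfsg.Agent.ChevalleyStructure.CoxeterGeomTypes.cartanOf; rewrite [Cfsg.Agent.ChevFast.F4.cartan]; decide +kernel)) (by decide +kernel)
  · intro i
    rw [ht, hv]
    fin_cases i
    · exact cpr_val hG.hd hG.rr (c := 0) (by decide +kernel) (by (delta Cfsg.Agent.ChevalleyStructure.CoxeterGeomTypes.cartanOf; rewrite [Cfsg.Agent.ChevFast.F4.cartan]; decide +kernel))
    · exact cpr_val hG.hd hG.rr (c := 0) (by (delta Cfsg.Agent.ChevalleyStructure.CoxeterGeomTypes.cartanOf; rewrite [Cfsg.Agent.ChevFast.F4.cartan]; decide +kernel)) (by decide +kernel)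
    · exact cpr_val hG.hd hG.rr (c := 0) (by (delta Cfsg.Agent.ChevalleyStructure.CoxeterGeomTypes.cartanOf; rewrite [Cfsg.Agent.ChevFast.F4.cartan]; decide +kernel)) (by (delta Cfsg.Agent.ChevalleyStructure.CoxeterGeomTypes.cartanOf; rewrite [Cfsg.Agent.ChevFast.F4.cartan]; decide +kernel))
    · exact cpr_val hG.hd hG.rr (c := 1) (by (delta Cfsg.Agent.ChevalleyStructure.CoxeterGeomTypes.cartanOf; rewrite [Cfsg.Agent.ChevFast.F4.cartan]; decide +kernel)) (by decide +kernel)

end Rows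

end Cfsg.Agent.H400.Fpr.Chev
end

-- part: H400/FprChevRowsE
section
/-!
# Fixed point ratios of `p`-elements: `E₆, E₇, E₈`, `e = 1` (helper400, TEAM FPR)
-/

set_option autoImplicit false
set_option linter.unusedSectionVars false
set_option linter.unusedVariables false

namespace Cfsg.Agent.H400.Fpr.Chev

open CoxeterSystem Cfsg.Agent.ChevalleyStructure.CoxeterGeom Cfsg.Agent.Tits.Roots Cfsg.Agent.Tits.Core
  Cfsg.Agent.Nodes.Reps Cfsg.Agent.Nodes.BNOf Cfsg.Agent.KFacts.RgdSL Cfsg.Agent.Nodes.RGDChev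
  Cfsg.Agent.ChevalleyStructure.CoxeterGeomTypes Cfsg.Agent.Nodes.KindChev Cfsg.Agent.Nodes.Coroot
  Cfsg.Agent.KFacts.RgdTI
open Cfsg.Lie Cfsg.Agent.ChevalleyStructure Cfsg.Agent.ChevalleyStructure.Elts
open Cfsg.Agent.H400.TwoExc Cfsg.Agent.H86.Par
open Cfsg.Agent.ChevalleyStructure.RootCombGood (car)
open Cfsg.Agent.H398.FPR (CommFull UGood Pair Good)
open scoped commutatorElement MatrixGroups

universe u

theorem one_E {D : ChevalleyDatum} {l : ℕ} {M : CoxeterMatrix (Fin l)} (hp : IsType D l M) {K : Type u} [Field K]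
    [Finite K] {p : ℕ} [Fact p.Prime] [CharP K p] (h4 : ∀ i j, M i j ≠ 4) (h6 : ∀ i j, M i j ≠ 6) (i0 : Fin l)
    (hck : ∀ s < D.nroots, car D (top D) s = vec D l s i0) (hb : ∀ s < D.nroots, vec D l s i0 ≤ 2)
    (hcr : ∀ i, pairing (cartanOf D l) i (vec D l (top D)) = if i = i0 then 1 else 0)
    (hs : IsSimpleGroup ↥(D.group K)) {ℓ : ℕ} (hℓ : ℓ.Prime) (hℓ2 : ℓ ≠ 2) (hd : ℓ ∣ Nat.card K - 1) :
    ∃ x : ↥(D.group K), x ^ ℓ = 1 ∧ ∀ M' : ℕ, (∀ t : ℕ, t ≠ 0 → p ^ t ≡ 1 [MOD ℓ] → M' ≤ p ^ t) →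
      M' ≤ Nat.card K → UGood 1 M' x := by
  let cs : CoxeterSystem M M.Group := M.toCoxeterSystem
  have hW : Finite M.Group := finite_W hp cs
  have hSL : SL cs hp.isCartan := fun _ _ hx hy => Nodes.SimplyLaced.cpr_symm cs _ h4 h6 hx hy
  have hr : IsRoot cs hp.isCartan (vec D l (top D)) := isRoot_vec hp cs (top_lt hp.inList)
  have h1 : ∀ i, cpr cs hp.isCartan (sr i) (vec D l (top D)) = if i = i0 then 1 else 0 := by
    intro i
    rw [hSL _ _ (isRoot_sr cs _ i) hr, cpr_sr]
    exact hcr i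
  have H : Hs (rgd (K := K) hp cs p) (vec D l (top D)) := by
    refine Hs.of_SL _ hSL hr (isRoot_sr cs _ i0) ?_
    rw [cpr_sr, hcr, if_pos rfl]
  refine one_chev hp hs (Cfsg.Agent.H400.Fpr.Hs.hw H ⟨sr i0, ⟨isRoot_sr cs _ i0, ?_⟩, ?_⟩) i0 hck hb h1 hℓ hℓ2 hd
  · rw [h1, if_pos rfl]; norm_num
  · intro h2
    have h3 := h1 i0
    rw [if_pos rfl, h2, cpr_self cs _ hr] at h3
    norm_num at h3

/-- The pairings with the highest coroot are coefficients, from the fundamental roots alone. -/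
theorem hck_of {D : ChevalleyDatum} {l : ℕ} {M : CoxeterMatrix (Fin l)} (hp : IsType D l M) (r : ℕ) (i0 : Fin l)
    (h : ∀ j : Fin l, ∑ k : Fin l, Cfsg.Agent.ChevalleyStructure.RootCombGood.co D r k * cartanOf D l k j =
      if j = i0 then 1 else 0) :
    ∀ s < D.nroots, car D r s = vec D l s i0 := by
  intro s hs
  have h1 : car D r s = ∑ k : Fin l, Cfsg.Agent.ChevalleyStructure.RootCombGood.co D r k * D.cartan k s := by
    unfold car
    rw [hp.rank_eq, Finset.sum_range]
  rw [h1]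
  simp only [← pairing_vec hp _ hs, pairing, Finset.mul_sum]
  rw [Finset.sum_comm]
  have h2 : ∀ j : Fin l, (∑ k : Fin l, Cfsg.Agent.ChevalleyStructure.RootCombGood.co D r k *
      (cartanOf D l k j * vec D l s j)) = if j = i0 then vec D l s i0 else 0 := by
    intro j
    have h3 : (∑ k : Fin l, Cfsg.Agent.ChevalleyStructure.RootCombGood.co D r k *
      (cartanOf D l k j * vec D l s j)) = (∑ k : Fin l, Cfsg.Agent.ChevalleyStructure.RootCombGood.co D r k *
      cartanOf D l k j) * vec D l s j := by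
      rw [Finset.sum_mul]
      exact Finset.sum_congr rfl fun k _ => (mul_assoc _ _ _).symm
    rw [h3, h j]
    by_cases hj : j = i0
    · rw [if_pos hj, if_pos hj, hj, one_mul]
    · rw [if_neg hj, if_neg hj, zero_mul]
  simp only [h2, Finset.sum_ite_eq', Finset.mem_univ, if_true]

section Rows

variable {K : Type u} [Field K]

/-- **`E₆(q)`, `e = 1`.** -/
theorem one_E6 [Finite K] {p : ℕ} [Fact p.Prime] [CharP K p] (hs : IsSimpleGroup ↥(chevE6.group K)) {ℓ : ℕ}
    (hℓ : ℓ.Prime) (hℓ2 : ℓ ≠ 2) (hd : ℓ ∣ Nat.card K - 1) :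
    ∃ x : ↥(chevE6.group K), x ^ ℓ = 1 ∧ ∀ M' : ℕ, (∀ t : ℕ, t ≠ 0 → p ^ t ≡ 1 [MOD ℓ] → M' ≤ p ^ t) →
      M' ≤ Nat.card K → UGood 1 M' x :=
  one_E (l := 6) (M := CoxeterMatrix.E₆) (by simp [IsType, typeList]) ne_E6.1 ne_E6.2 1
    (hck_of (M := CoxeterMatrix.E₆) (by simp [IsType, typeList]) _ 1 (by (delta Cfsg.Agent.ChevalleyStructure.CoxeterGeomTypes.cartanOf Cfsg.Agent.ChevalleyStructure.RootCombGood.co; rewrite [Cfsg.Agent.ChevFast.E6.cartan, Cfsg.Agent.ChevFast.E6.coroot]; decide +kernel)))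
    (by decide +kernel) (by (delta Cfsg.Agent.ChevalleyStructure.CoxeterGeomTypes.cartanOf; rewrite [Cfsg.Agent.ChevFast.E6.cartan]; decide +kernel)) hs hℓ hℓ2 hd

/-- **`E₇(q)`, `e = 1`.** -/
theorem one_E7 [Finite K] {p : ℕ} [Fact p.Prime] [CharP K p] (hs : IsSimpleGroup ↥(chevE7.group K)) {ℓ : ℕ}
    (hℓ : ℓ.Prime) (hℓ2 : ℓ ≠ 2) (hd : ℓ ∣ Nat.card K - 1) :
    ∃ x : ↥(chevE7.group K), x ^ ℓ = 1 ∧ ∀ M' : ℕ, (∀ t : ℕ, t ≠ 0 → p ^ t ≡ 1 [MOD ℓ] → M' ≤ p ^ t) →
      M' ≤ Nat.card K → UGood 1 M' x :=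
  one_E (l := 7) (M := CoxeterMatrix.E₇) (by simp [IsType, typeList]) ne_E7.1 ne_E7.2 0
    (hck_of (M := CoxeterMatrix.E₇) (by simp [IsType, typeList]) _ 0 (by (delta Cfsg.Agent.ChevalleyStructure.CoxeterGeomTypes.cartanOf Cfsg.Agent.ChevalleyStructure.RootCombGood.co; rewrite [Cfsg.Agent.ChevFast.E7.cartan, Cfsg.Agent.ChevFast.E7.coroot]; decide +kernel)))
    (by decide +kernel) (by (delta Cfsg.Agent.ChevalleyStructure.CoxeterGeomTypes.cartanOf; rewrite [Cfsg.Agent.ChevFast.E7.cartan]; decide +kernel)) hs hℓ hℓ2 hd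

/-- **`E₈(q)`, `e = 1`.** -/
theorem one_E8 [Finite K] {p : ℕ} [Fact p.Prime] [CharP K p] (hs : IsSimpleGroup ↥(chevE8.group K)) {ℓ : ℕ}
    (hℓ : ℓ.Prime) (hℓ2 : ℓ ≠ 2) (hd : ℓ ∣ Nat.card K - 1) :
    ∃ x : ↥(chevE8.group K), x ^ ℓ = 1 ∧ ∀ M' : ℕ, (∀ t : ℕ, t ≠ 0 → p ^ t ≡ 1 [MOD ℓ] → M' ≤ p ^ t) →
      M' ≤ Nat.card K → UGood 1 M' x :=
  one_E (l := 8) (M := CoxeterMatrix.E₈) (by simp [IsType, typeList]) ne_E8.1 ne_E8.2 7
    (hck_of (M := CoxeterMatrix.E₈) (by simp [IsType, typeList]) _ 7 (by (delta Cfsg.Agent.ChevalleyStructure.CoxeterGeomTypes.cartanOf Cfsg.Agent.ChevalleyStructure.RootCombGood.co; rewrite [Cfsg.Agent.ChevFast.E8.cartan, Cfsg.Agent.ChevFast.E8.coroot]; decide +kernel)))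
    (by decide +kernel) (by (delta Cfsg.Agent.ChevalleyStructure.CoxeterGeomTypes.cartanOf; rewrite [Cfsg.Agent.ChevFast.E8.cartan]; decide +kernel)) hs hℓ hℓ2 hd

end Rows

end Cfsg.Agent.H400.Fpr.Chev
end

-- part: H435/Fpr/ExcThree
section
/-!
# Exceptional groups, `q ≥ 8` even, `p = 3 ∣ q + 1`: growth through the long root `SL₂(q)`
-/

set_option autoImplicit false
set_option linter.unusedSectionVars false

namespace Cfsg.Agent.H435.Fpr.Exc

open CoxeterSystem Cfsg.Agent.ChevalleyStructure.CoxeterGeom Cfsg.Agent.Tits.Roots Cfsg.Agent.Tits.Core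
  Cfsg.Agent.Nodes.Reps Cfsg.Agent.Nodes.BNOf Cfsg.Agent.KFacts.RgdSL Cfsg.Agent.Nodes.RGDChev
  Cfsg.Agent.ChevalleyStructure.CoxeterGeomTypes Cfsg.Agent.Nodes.KindChev Cfsg.Agent.Nodes.Coroot
  Cfsg.Agent.KFacts.RgdTI
open Cfsg.Lie Cfsg.Agent.ChevalleyStructure Cfsg.Agent.ChevalleyStructure.Elts
open Cfsg.Agent.H400.TwoExc Cfsg.Agent.H86.Par
open Cfsg.Agent.ChevalleyStructure.RootCombGood (car)
open Cfsg.Agent.H398.FPR (CommFull UGood Pair Good growth_uGood)
open Cfsg.Agent.Nodes.RGDFoldSL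
open Cfsg.Agent.H400.Fpr Cfsg.Agent.H400.Fpr.Chev
open Cfsg.Agent.H409 (FprRow)
open scoped commutatorElement MatrixGroups

universe u

section Chev

variable {D : ChevalleyDatum} {l : ℕ} {M : CoxeterMatrix (Fin l)} (hp : IsType D l M) {K : Type u} [Field K]
  {W : Type*} [Group W] {cs : CoxeterSystem M W}

include hp in
theorem rootSubgroup_le' (r : ℕ) : D.rootSubgroup K r ≤ D.group K := by
  intro g hg
  obtain ⟨t, rfl⟩ := (mem_rootSubgroup_iff hp.inList _ _).1 hg
  exact xG_mem_group hp.inList _ _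

theorem psi_mem_group (g : Matrix.SpecialLinearGroup (Fin 2) K) :
    psi hp.inList K (top D) g ∈ D.group K :=
  (sup_le (rootSubgroup_le' hp _) (rootSubgroup_le' hp _) :
    D.rootSubgroup K (top D) ⊔ D.rootSubgroup K (D.neg (top D)) ≤ D.group K)
    (psi_mem hp.inList (top_lt hp.inList) g)

/-- the long root `SL₂` -/
noncomputable def phi : Matrix.SpecialLinearGroup (Fin 2) K →* ↥(D.group K) :=
  (psi hp.inList K (top D)).codRestrict (D.group K) (psi_mem_group hp)

/-- **`e = 1` for an exceptional Chevalley group**, the element is in the long root `SL₂`. -/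
theorem one_chev' [Finite K] [Finite W] {p : ℕ} [Fact p.Prime] [CharP K p] (hs : IsSimpleGroup ↥(D.group K))
    (H : Hw (rgd (K := K) hp cs p) (vec D l (top D))) (i0 : Fin l)
    (hck : ∀ s < D.nroots, car D (top D) s = vec D l s i0) (hb : ∀ s < D.nroots, vec D l s i0 ≤ 2)
    (hcr : ∀ i, cpr cs hp.isCartan (sr i) (vec D l (top D)) = if i = i0 then 1 else 0)
    {ℓ : ℕ} (hℓ : ℓ.Prime) (hℓ2 : ℓ ≠ 2) (hd : ℓ ∣ Nat.card K - 1) :
    ∃ x : ↥(D.group K), x ∈ (phi (K := K) hp).range ∧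
      ∀ M' : ℕ, (∀ t : ℕ, t ≠ 0 → p ^ t ≡ 1 [MOD ℓ] → M' ≤ p ^ t) →
      M' ≤ Nat.card K → UGood 1 M' x := by
  have : Fact ℓ.Prime := ⟨hℓ⟩
  have hr := H.L.root
  obtain ⟨v, hv⟩ := exists_prime_orderOf_dvd_card' (G := Kˣ) ℓ (by rw [Nat.card_units]; exact hd)
  set c : K := (v : K) with hc
  have hc0 : c ≠ 0 := v.ne_zero
  have hcℓ : c ^ ℓ = 1 := by rw [hc, ← Units.val_pow_eq_pow_val, ← hv, pow_orderOf_eq_one, Units.val_one]
  have hc1 : c ≠ 1 := by
    intro h1
    have h2 : v = 1 := Units.ext h1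
    rw [h2, orderOf_one] at hv
    exact hℓ.one_lt.ne hv
  have hc2 : c ^ 2 ≠ 1 := by
    intro h1
    have h2 : v ^ 2 = 1 := Units.ext (by rw [Units.val_pow_eq_pow_val, Units.val_one]; exact h1)
    have h3 := orderOf_dvd_of_pow_eq_one h2
    rw [hv] at h3
    exact hℓ2 ((Nat.prime_dvd_prime_iff_eq hℓ Nat.prime_two).1 h3)
  have hmem : hG hp.inList (top D) c ∈ D.group K := hG_mem_group hp.inList _ _
  have htop : top D < D.nroots := top_lt hp.inList
  let x : ↥(D.group K) := ⟨hG hp.inList (top D) c, hmem⟩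
  have hxℓ : x ^ ℓ = 1 := by
    apply Subtype.ext
    rw [Subgroup.coe_pow]
    show (hG hp.inList (top D) c) ^ ℓ = 1
    rw [← psi_hS hp.inList htop, ← map_pow, hS_pow hc0, hcℓ, hS_one, map_one]
  refine ⟨x, ⟨hS c, Subtype.ext (psi_hS hp.inList htop c)⟩, fun M' hM hMr => ?_⟩
  have hcardX : Nat.card ((XV D l K (vec D l (top D))).subgroupOf (D.group K)) = Nat.card K := by
    rw [Nat.card_congr (Subgroup.subgroupOfEquivOfLe (XV_le_group hp _)).toEquiv, XV_vec hp K htop]
    exact card_rootSubgroup hp htop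
  have hQp : IsPGroup p (QQ cs hp.isCartan (fun x => (XV D l K x).subgroupOf (D.group K)) (vec D l (top D))) := by
    refine IsPGroup.to_le (rgd (K := K) hp cs p).isPGroup_Upos ?_
    refine RGD.Sup_mono (Gt_subset_pos hr fun i => ?_)
    rw [hcr]
    split_ifs <;> norm_num
  refine one_hw (k := 1) H hs (G1_eq_top hp cs) hℓ (x := x) ?_ (by rw [pow_one]; exact hxℓ) ?_ hQp hM
    (by rw [hcardX]; exact hMr)
  · exact Subgroup.mem_subgroupOf.2 (hG_mem_diagonal hp.inList htop hc0)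
  · intro s hs
    obtain ⟨r, hr', rfl⟩ := (isRoot_iff hp cs _).1 hs.1
    have h1 := hs.2
    rw [cpr_coord hr i0 hcr] at h1
    have h2 := hb r hr'
    refine free_X hp hr' (m := car D (top D) r) (fun t => hG_top_conj hp.inList hc0 hr' t) ?_
    rw [hck r hr']
    have h3 : vec D l r i0 = 1 ∨ vec D l r i0 = 2 := by omega
    rcases h3 with h3 | h3
    · rw [h3, zpow_one]; exact hc1
    · rw [h3]
      intro h4
      apply hc2
      have h5 : (2 : ℤ) = ((2 : ℕ) : ℤ) := rfl
      rw [h5, zpow_natCast] at h4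
      exact h4

/-- A prime divisor of `q - 1` for `q ≥ 8`, `3 ∣ q + 1`. -/
theorem exists_prime_eight {q a : ℕ} (hq : q = 2 ^ a) (h8 : 8 ≤ q) (h3 : 3 ∣ q + 1) :
    ∃ ℓ : ℕ, ℓ.Prime ∧ ℓ ≠ 2 ∧ ℓ ∣ q - 1 ∧ ∀ t : ℕ, t ≠ 0 → 2 ^ t ≡ 1 [MOD ℓ] → 8 ≤ 2 ^ t := by
  have hℓ : (Nat.minFac (q - 1)).Prime := Nat.minFac_prime (by omega)
  have hd := Nat.minFac_dvd (q - 1)
  obtain ⟨ℓ, hℓe⟩ : ∃ ℓ, ℓ = Nat.minFac (q - 1) := ⟨_, rfl⟩
  rw [← hℓe] at hℓ hd
  have hodd : ¬ 2 ∣ q - 1 := by
    have ha : a ≠ 0 := by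
      rintro rfl
      rw [pow_zero] at hq
      omega
    obtain ⟨b, rfl⟩ := Nat.exists_eq_succ_of_ne_zero ha
    rw [pow_succ] at hq
    omega
  have h3' : ¬ 3 ∣ q - 1 := by omega
  refine ⟨ℓ, hℓ, ?_, hd, ?_⟩
  · rintro rfl
    exact hodd hd
  · intro t ht hmod
    by_contra hlt
    have ht3 : t < 3 := by
      by_contra h
      apply hlt
      calc 8 = 2 ^ 3 := by norm_num
        _ ≤ 2 ^ t := Nat.pow_le_pow_right (by norm_num) (by omega)
    have h1 := (Nat.modEq_iff_dvd' Nat.one_le_two_pow).1 hmod.symm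
    interval_cases t
    · exact ht rfl
    · norm_num at h1
      exact hℓ.one_lt.ne' h1
    · norm_num at h1
      apply h3'
      rcases (Nat.dvd_prime Nat.prime_three).1 h1 with h2 | h2
      · exact absurd h2 hℓ.one_lt.ne'
      · rwa [h2] at hd

/-- an element of order three -/
theorem exists_order_three [CharP K 2] :
    ∃ x0 : Matrix.SpecialLinearGroup (Fin 2) K, orderOf x0 = 3 := by
  have h2F : (2 : K) = 0 := by
    have := CharP.cast_eq_zero K 2
    exact_mod_cast this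
  have h11 : (1 : K) + 1 = 0 := by rw [one_add_one_eq_two, h2F]
  have hdet : (!![(0 : K), 1; 1, 1] : Matrix (Fin 2) (Fin 2) K).det = 1 := by
    rw [Matrix.det_fin_two_of]
    linear_combination (-1 : K) * h2F
  have : Fact (Nat.Prime 3) := ⟨Nat.prime_three⟩
  refine ⟨⟨!![(0 : K), 1; 1, 1], hdet⟩, orderOf_eq_prime ?_ ?_⟩
  · apply Subtype.ext
    change (!![(0 : K), 1; 1, 1] : Matrix (Fin 2) (Fin 2) K) ^ 3 = 1
    rw [pow_succ, pow_succ, pow_one]
    ext i j
    fin_cases i <;> fin_cases j <;> simp [h11]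
  · intro h
    have h1 := congrFun (congrFun (congrArg Subtype.val h) 0) 1
    change (1 : K) = (1 : Matrix (Fin 2) (Fin 2) K) 0 1 at h1
    simp at h1

/-- **`p = 3`, `q ≥ 8` even.** -/
theorem three_chev [Finite K] [Finite W] [CharP K 2] (hs : IsSimpleGroup ↥(D.group K))
    (H : Hw (rgd (K := K) hp cs 2) (vec D l (top D))) (i0 : Fin l)
    (hck : ∀ s < D.nroots, car D (top D) s = vec D l s i0) (hb : ∀ s < D.nroots, vec D l s i0 ≤ 2)
    (hcr : ∀ i, cpr cs hp.isCartan (sr i) (vec D l (top D)) = if i = i0 then 1 else 0)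
    (h8 : 8 ≤ Nat.card K) (h3 : 3 ∣ Nat.card K + 1) :
    ∃ x : ↥(D.group K), x ^ 3 = 1 ∧ UGood 1 4 x := by
  have := Fintype.ofFinite K
  obtain ⟨a, -, ha⟩ := FiniteField.card K 2
  obtain ⟨ℓ, hℓ, hℓ2, hd, hM⟩ := exists_prime_eight (q := Nat.card K)
    (by rw [Nat.card_eq_fintype_card]; exact ha) h8 h3
  obtain ⟨y, hy, hyU⟩ := one_chev' hp hs H i0 hck hb hcr hℓ hℓ2 hd
  have hfin : Finite (Matrix.SpecialLinearGroup (Fin 2) K) := inferInstance
  have : Fact (Nat.Prime 3) := ⟨Nat.prime_three⟩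
  obtain ⟨x0, hx0⟩ := exists_order_three (K := K)
  refine ⟨phi hp x0, by rw [← map_pow, ← hx0, pow_orderOf_eq_one, map_one], ?_⟩
  have h7 := Cfsg.Agent.H452.FprJ1.sl_ugood (F := K) (by rw [← Nat.card_eq_fintype_card]; exact h8)
    (by rw [← Nat.card_eq_fintype_card]; exact h3) hx0
  have h7' := h7.of_surjective (phi (K := K) hp).rangeRestrict_surjective
  have hg := growth_uGood (K := (phi (K := K) hp).range) (x := phi hp x0) ⟨x0, rfl⟩ hy (by norm_num)
    h7' (hyU 8 hM h8)
  exact hg.mono (by norm_num) (by norm_num)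

end Chev

section Rows

variable {K : Type u} [Field K]

theorem row_of_exists {G : Type*} [Group G] (h : ∃ x : G, x ^ 3 = 1 ∧ UGood 1 4 x) :
    FprRow (3 + 1) 1 3 G := by
  obtain ⟨x, hx, hU⟩ := h
  intro H hH
  obtain ⟨m, -, hm⟩ := (Nat.dvd_prime_pow Nat.prime_three).1
    (orderOf_dvd_of_pow_eq_one (show x ^ 3 ^ 1 = 1 by rw [pow_one, hx]))
  exact ⟨x, ⟨m, hm⟩, hU H hH⟩

/-- **`G₂(q)`, `p = 3`.** -/
theorem three_G2 [Finite K] [CharP K 2] (h8 : 8 ≤ Nat.card K) (h3 : 3 ∣ Nat.card K + 1) :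
    FprRow (3 + 1) 1 3 ↥(chevG2.group K) := by
  have hp : IsType chevG2 2 CoxeterMatrix.G₂ := by simp [IsType, typeList]
  let cs : CoxeterSystem CoxeterMatrix.G₂ CoxeterMatrix.G₂.Group := CoxeterMatrix.G₂.toCoxeterSystem
  have hW : Finite CoxeterMatrix.G₂.Group := finite_W hp cs
  have hG := grG cs hp
  have hv : vec chevG2 2 11 = toV [3, 2] := by decide +kernel
  have ht : top chevG2 = 11 := by decide +kernel
  have := Fintype.ofFinite K
  have hs : IsSimpleGroup ↥(chevG2.group K) :=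
    (Cfsg.Agent.H448.FprExc.simple_G2 (by rw [← Nat.card_eq_fintype_card]; omega)).1
  refine row_of_exists (three_chev (cs := cs) hp hs ?_ 1 (by decide +kernel) (by decide +kernel) ?_ h8 h3)
  · rw [ht]
    exact hw_chev hp (m := 3) chkNG chkSG (by decide +kernel) (d := toV dlG2c) (by rw [hv]; exact hG) 2
      (a := 10) (b := 6) (by decide +kernel) (by decide +kernel) (by decide +kernel) (by decide +kernel)
      (by decide +kernel) (C := 1) (Or.inl rfl) (by decide +kernel) (by decide +kernel) (by decide +kernel)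
  · intro i
    rw [ht, hv]
    fin_cases i
    · exact cpr_val hG.hd hG.rr (c := 0) (by decide +kernel) (by decide +kernel)
    · exact cpr_val hG.hd hG.rr (c := 1) (by decide +kernel) (by decide +kernel)

/-- **`F₄(q)`, `p = 3`.** -/
theorem three_F4 [Finite K] [CharP K 2] (h8 : 8 ≤ Nat.card K) (h3 : 3 ∣ Nat.card K + 1) :
    FprRow (3 + 1) 1 3 ↥(chevF4.group K) := by
  have hp : IsType chevF4 4 CoxeterMatrix.F₄ := by simp [IsType, typeList]
  let cs : CoxeterSystem CoxeterMatrix.F₄ CoxeterMatrix.F₄.Group := CoxeterMatrix.F₄.toCoxeterSystem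
  have hW : Finite CoxeterMatrix.F₄.Group := finite_W hp cs
  have hG := grF cs hp
  have hv : vec chevF4 4 47 = toV [2, 4, 3, 2] := by decide +kernel
  have ht : top chevF4 = 47 := by decide +kernel
  have := Fintype.ofFinite K
  have hs : IsSimpleGroup ↥(chevF4.group K) := (Cfsg.Agent.S1054.result (F := K) chevF4 (by simp)).1
  refine row_of_exists (three_chev (cs := cs) hp hs ?_ 3 (by (delta Cfsg.Agent.ChevalleyStructure.RootCombGood.car Cfsg.Agent.ChevalleyStructure.RootCombGood.co; rewrite [Cfsg.Agent.ChevFast.F4.cartan, Cfsg.Agent.ChevFast.F4.coroot]; decide +kernel)) (by decide +kernel) ?_ h8 h3)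
  · rw [ht]
    exact hw_chev hp (m := 2) chkNF chkSF (by decide +kernel) (d := toV dlF4c) (by rw [hv]; exact hG) 2
      (a := 46) (b := 24) (by decide +kernel) (by decide +kernel) (by decide +kernel) (by decide +kernel)
      (by decide +kernel) (C := 1) (Or.inl rfl) (by decide +kernel) (by decide +kernel) (by decide +kernel)
  · intro i
    rw [ht, hv]
    fin_cases i
    · exact cpr_val hG.hd hG.rr (c := 0) (by decide +kernel) (by decide +kernel)
    · exact cpr_val hG.hd hG.rr (c := 0) (by decide +kernel) (by decide +kernel)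
    · exact cpr_val hG.hd hG.rr (c := 0) (by decide +kernel) (by decide +kernel)
    · exact cpr_val hG.hd hG.rr (c := 1) (by decide +kernel) (by decide +kernel)

end Rows

end Cfsg.Agent.H435.Fpr.Exc
end
end

-- part: H441/FPR/GrowD_mg
section
set_option linter.all false
open scoped Cfsg.Agent.FastGrp

-- part: H441/FPR/GrowA
section
/-!
# Growth through the image of a covering group
-/

set_option autoImplicit false

namespace Cfsg.Agent.H441.FPR.Grow

open Subgroup MulAction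
open scoped commutatorElement
open Cfsg.Agent.H398.FPR (UGood Good growth_uGood)
open Cfsg.Agent.H409 (FprRow fix_le_of_map)

/-- a small centraliser -/
theorem uGood_direct {G : Type*} [Group G] [Finite G] {x : G} {b c i : ℕ}
    (hc : Nat.card (centralizer ({x} : Set G)) ≤ c) (hi : ∀ H : Subgroup G, H ≠ ⊤ → i ≤ H.index)
    (h : b * c ≤ i) : UGood 1 b x := by
  intro H hH
  refine Cfsg.Agent.H398.FPR.ratio_of_bound H hc (i := Nat.card H) ?_ ?_
  · exact Nat.card_le_card_of_injective (fun y : {y : H // orderOf y = orderOf x} => y.1) Subtype.val_injective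
  · rw [one_mul, ← H.card_mul_index, ← mul_assoc, mul_comm (Nat.card H)]
    exact Nat.mul_le_mul_right _ (h.trans (hi H hH))

/-- **A torus containing the centralisers.** -/
theorem uGood_torus {G : Type*} [Group G] [Finite G] {p : ℕ} [hp : Fact p.Prime] {T : Subgroup G} {N d i b : ℕ}
    (h1 : Nat.card ↥T ∣ N) (h2 : N ∣ d * Nat.card ↥T) (hpN : p ∣ N) (hpd : ¬ p ∣ d) (hN : 0 < N)
    (hcent : ∀ y ∈ T, orderOf y = p → Subgroup.centralizer {y} ≤ T) (hi : ∀ H : Subgroup G, H ≠ ⊤ → i ≤ H.index)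
    (h : b * N ≤ i) : ∃ y : G, orderOf y = p ∧ UGood 1 b y := by
  have h3 : p ∣ Nat.card ↥T := (hp.out.dvd_mul.1 (hpN.trans h2)).resolve_left hpd
  obtain ⟨y, hy⟩ := exists_prime_orderOf_dvd_card' p h3
  have hy' : orderOf (y : G) = p := by rw [← hy]; exact Subgroup.orderOf_coe y
  exact ⟨y, hy', uGood_direct ((Nat.card_le_card_of_injective _ (Subgroup.inclusion_injective (hcent _ y.2 hy'))).trans
    (Nat.le_of_dvd hN h1)) hi h⟩

/-- the fixed point ratio of a quotient by a central subgroup -/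
theorem uGood_of_quot {R Q : Type*} [Group R] [Finite R] [Group Q] [Finite Q] (ρ : R →* Q) (hρ : Function.Surjective ρ)
    (hcen : ρ.ker ≤ Subgroup.center R) (hperf : commutator R = ⊤) {b : ℕ} {x : R} (h : UGood 1 b (ρ x)) : UGood 1 b x := by
  intro H hH
  by_cases hH' : H.map ρ = ⊤
  · exfalso
    apply hH
    have hsup : ∀ r : R, ∃ y ∈ H, ∃ z ∈ Subgroup.center R, r = y * z := by
      intro r
      obtain ⟨y, hy, e⟩ : ρ r ∈ H.map ρ := by rw [hH']; trivial
      refine ⟨y, hy, y⁻¹ * r, hcen ?_, by group⟩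
      rw [MonoidHom.mem_ker, map_mul, map_inv, e, inv_mul_cancel]
    rw [eq_top_iff, ← hperf, commutator_def, Subgroup.commutator_le]
    intro r _ s _
    obtain ⟨y, hy, z, hz, rfl⟩ := hsup r
    obtain ⟨y', hy', z', hz', rfl⟩ := hsup s
    have e1 := Subgroup.mem_center_iff.1 hz
    have e2 := Subgroup.mem_center_iff.1 hz'
    have e : ⁅y * z, y' * z'⁆ = ⁅y, y'⁆ := by
      simp only [commutatorElement_def]
      calc y * z * (y' * z') * (y * z)⁻¹ * (y' * z')⁻¹ =
          y * (z * (y' * z')) * z⁻¹ * y⁻¹ * z'⁻¹ * y'⁻¹ := by group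
        _ = y * ((y' * z') * z) * z⁻¹ * y⁻¹ * z'⁻¹ * y'⁻¹ := by rw [e1 (y' * z')]
        _ = y * y' * (z' * y⁻¹) * z'⁻¹ * y'⁻¹ := by group
        _ = y * y' * (y⁻¹ * z') * z'⁻¹ * y'⁻¹ := by rw [e2 y⁻¹]
        _ = _ := by group
    rw [e, commutatorElement_def]
    exact mul_mem (mul_mem (mul_mem hy hy') (inv_mem hy)) (inv_mem hy')
  · refine fix_le_of_map ρ hρ (Ω := R ⧸ H) (Ω' := Q ⧸ H.map ρ)
      (Quotient.map' ρ (fun a b hab => by
        rw [QuotientGroup.leftRel_apply] at hab ⊢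
        rw [← map_inv, ← map_mul]
        exact ⟨_, hab, rfl⟩)) ?_ x (h _ hH')
    intro g ω
    induction ω using QuotientGroup.induction_on with
    | H r =>
      show ((ρ (g * r) : Q) : Q ⧸ H.map ρ) = ρ g • ((ρ r : Q) : Q ⧸ H.map ρ)
      rw [map_mul]
      rfl

/-- **Lifting to the image of a covering group.** -/
theorem exists_lift {S G Q : Type*} [Group S] [Group G] [Finite G] [Group Q] [Finite Q] (f : S →* G) (θ : S →* Q)
    (hθ : Function.Surjective θ) (hker : f.ker ≤ θ.ker) (hcen : θ.ker ≤ Subgroup.center S) (hperf : commutator S = ⊤)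
    {p : ℕ} (hp : p.Prime) {x6 : Q} (hx6 : orderOf x6 = p) {b : ℕ} (hb : UGood 1 b x6) :
    ∃ x, ∃ hx : x ∈ f.range, (∃ k, x ^ p ^ k = 1) ∧ UGood 1 b (⟨x, hx⟩ : f.range) := by
  have hfR : Finite f.range := inferInstance
  have hker' : f.rangeRestrict.ker ≤ θ.ker := by rw [MonoidHom.ker_rangeRestrict]; exact hker
  let ρ : f.range →* Q := f.rangeRestrict.liftOfSurjective f.rangeRestrict_surjective ⟨θ, hker'⟩
  have hρ : ∀ s, ρ (f.rangeRestrict s) = θ s := fun s =>
    f.rangeRestrict.liftOfRightInverse_comp_apply (Function.surjInv f.rangeRestrict_surjective)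
      (Function.rightInverse_surjInv f.rangeRestrict_surjective) ⟨θ, hker'⟩ s
  have hρs : Function.Surjective ρ := by
    intro y
    obtain ⟨s, rfl⟩ := hθ y
    exact ⟨_, hρ s⟩
  have hρc : ρ.ker ≤ Subgroup.center f.range := by
    intro r hr
    obtain ⟨s, rfl⟩ := f.rangeRestrict_surjective r
    rw [MonoidHom.mem_ker, hρ] at hr
    rw [Subgroup.mem_center_iff]
    intro g
    obtain ⟨t, rfl⟩ := f.rangeRestrict_surjective g
    rw [← map_mul, ← map_mul, Subgroup.mem_center_iff.1 (hcen hr) t]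
  have hperf' : commutator f.range = ⊤ := by
    have h1 := Subgroup.map_commutator (⊤ : Subgroup S) ⊤ f.rangeRestrict
    rw [← commutator_def, hperf, ← MonoidHom.range_eq_map, MonoidHom.range_eq_top.2 f.rangeRestrict_surjective] at h1
    rw [commutator_def]
    exact h1.symm
  obtain ⟨s, hs⟩ := hθ x6
  set! r := f.rangeRestrict s with hr
  have hrx : ρ r = x6 := by rw [hr, hρ, hs]
  have ho : orderOf r ≠ 0 := (orderOf_pos r).ne'
  obtain ⟨a, n', hn', hoy⟩ := Nat.exists_eq_pow_mul_and_not_dvd ho p hp.ne_one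
  have hcop : Nat.Coprime p n' := (Nat.Prime.coprime_iff_not_dvd hp).2 hn'
  obtain ⟨u, hu1, hu2⟩ := Nat.chineseRemainder hcop 1 0
  have hnu : n' ∣ u := Nat.modEq_zero_iff_dvd.1 hu2
  have hxu : ρ (r ^ u) = x6 := by
    rw [map_pow, hrx]
    have h1 : x6 ^ u = x6 ^ 1 := pow_eq_pow_iff_modEq.2 (by rw [hx6]; exact hu1)
    rw [h1, pow_one]
  refine ⟨(r ^ u : f.range), (r ^ u).2, ⟨a, ?_⟩, ?_⟩
  · obtain ⟨c, rfl⟩ := hnu
    have h1 : (r ^ (n' * c)) ^ p ^ a = 1 := by
      rw [← pow_mul]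
      have : n' * c * p ^ a = (p ^ a * n') * c := by ring
      rw [this, ← hoy, pow_mul, pow_orderOf_eq_one, one_pow]
    have h2 := congrArg (fun z : f.range => (z : G)) h1
    exact h2
  · exact uGood_of_quot ρ hρs hρc hperf' (by rw [hxu]; exact hb)

/-- **Growth.** -/
theorem row_of_growth {G : Type*} [Group G] [Finite G] {p : ℕ} (hp : p.Prime) {K : Subgroup G} {x y : G} (hx : x ∈ K)
    (hy : y ∈ K) (hxp : ∃ k, x ^ p ^ k = 1) (hK : UGood 1 (2 * (p + 1)) (⟨x, hx⟩ : K)) (hyG : UGood 1 (2 * (p + 1)) y) :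
    FprRow (p + 1) 1 p G := by
  have h1 := growth_uGood hx hy (by omega) hK hyG
  obtain ⟨k, hk⟩ := hxp
  obtain ⟨m, -, hm⟩ := (Nat.dvd_prime_pow hp).1 (orderOf_dvd_of_pow_eq_one hk)
  have h2 : UGood 1 (p + 1) x := by
    refine h1.mono (by positivity) ?_
    rw [one_mul]
    have : 2 * (p + 1) + 2 * (p + 1) - 1 ≤ 4 * (p + 1) := by omega
    calc (2 * (p + 1) + 2 * (p + 1) - 1) * (p + 1) ≤ 4 * (p + 1) * (p + 1) := Nat.mul_le_mul_right _ this
      _ = 2 * (p + 1) * (2 * (p + 1)) := by ring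
  exact fun H hH => ⟨x, ⟨m, hm⟩, h2 H hH⟩

/-- conjugates and generators of the same cyclic group -/
theorem uGood_conj {G : Type*} [Group G] [Finite G] {a b : ℕ} {x : G} (h : UGood a b x) (g : G) : UGood a b (g * x * g⁻¹) := by
  intro H hH
  have h1 := h H hH
  refine le_trans (Nat.mul_le_mul_left _ ?_) h1
  refine Nat.card_le_card_of_injective (fun z : fixedBy (G ⧸ H) (g * x * g⁻¹) => (⟨g⁻¹ • z.1, ?_⟩ : fixedBy (G ⧸ H) x)) ?_
  · have h2 := z.2
    rw [mem_fixedBy] at h2 ⊢
    rw [mul_smul, mul_smul] at h2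
    rw [← eq_inv_smul_iff] at h2
    exact h2
  · intro z w hzw
    exact Subtype.ext (smul_left_cancel _ (congrArg Subtype.val hzw))

theorem uGood_of_zpowers {G : Type*} [Group G] [Finite G] {a b : ℕ} {x y : G} (h : UGood a b x)
    (hxy : x ∈ zpowers y) : UGood a b y := by
  intro H hH
  refine le_trans (Nat.mul_le_mul_left _ ?_) (h H hH)
  refine Nat.card_mono (Set.toFinite _) ?_
  intro z hz
  rw [mem_fixedBy] at hz ⊢
  have h1 : zpowers y ≤ stabilizer G z := by rw [zpowers_le]; exact hz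
  exact h1 hxy

end Cfsg.Agent.H441.FPR.Grow
end

-- part: H441/FPR/GrowB
section
/-!
# Growth through the image of a covering group: the main lemma
-/

set_option autoImplicit false

namespace Cfsg.Agent.H441.FPR.Grow

open Subgroup MulAction
open scoped commutatorElement
open Cfsg.Agent.H398.FPR (UGood Good growth_uGood)
open Cfsg.Agent.H409 (FprRow fix_le_of_map)

theorem ker_le {S G Q : Type*} [Group S] [Group G] [Group Q] (hQ : IsSimpleGroup Q) (f : S →* G) (θ : S →* Q)
    (hθ : Function.Surjective θ) (hk : θ.ker ≤ Subgroup.center S) (hperf : commutator S = ⊤) {s : S} (hs : f s ≠ 1) :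
    f.ker ≤ θ.ker := by
  have hn : (f.ker.map θ).Normal := Subgroup.Normal.map inferInstance θ hθ
  rcases hn.eq_bot_or_eq_top with h | h
  · intro x hx
    have h1 : θ x ∈ f.ker.map θ := ⟨x, hx, rfl⟩
    rw [h] at h1
    exact h1
  · exfalso
    have hc : ∀ x y : S, f x * f y = f y * f x := by
      intro x y
      have h1 : θ x ∈ f.ker.map θ := by rw [h]; exact Subgroup.mem_top _
      obtain ⟨n, hn, e⟩ := h1
      have h2 : n⁻¹ * x ∈ θ.ker := by rw [MonoidHom.mem_ker, map_mul, map_inv, e, inv_mul_cancel]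
      have h2' := hk h2
      rw [Subgroup.mem_center_iff] at h2'
      have h3 := congrArg f (h2' y)
      have h4 : f n = 1 := hn
      simp only [map_mul, map_inv, h4, inv_one, one_mul] at h3
      exact h3.symm
    have h1 : commutator S ≤ f.ker := by
      rw [commutator_def, Subgroup.commutator_le]
      intro x _ y _
      rw [MonoidHom.mem_ker, map_commutatorElement, commutatorElement_eq_one_iff_mul_comm]
      exact hc x y
    rw [hperf] at h1
    exact hs (h1 (Subgroup.mem_top _))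

theorem card_dvd {S G Q : Type*} [Group S] [Group G] [Finite G] [Group Q] [Finite Q] (f : S →* G) (θ : S →* Q)
    (hθ : Function.Surjective θ) (hker : f.ker ≤ θ.ker) : Nat.card Q ∣ Nat.card f.range := by
  have hker' : f.rangeRestrict.ker ≤ θ.ker := by rw [MonoidHom.ker_rangeRestrict]; exact hker
  let ρ : f.range →* Q := f.rangeRestrict.liftOfSurjective f.rangeRestrict_surjective ⟨θ, hker'⟩
  have hρ : ∀ s, ρ (f.rangeRestrict s) = θ s := fun s =>
    f.rangeRestrict.liftOfRightInverse_comp_apply (Function.surjInv f.rangeRestrict_surjective)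
      (Function.rightInverse_surjInv f.rangeRestrict_surjective) ⟨θ, hker'⟩ s
  have hρs : Function.Surjective ρ := by
    intro y
    obtain ⟨s, rfl⟩ := hθ y
    exact ⟨_, hρ s⟩
  exact Subgroup.card_dvd_of_surjective ρ hρs

theorem mem_zpowers_of_cyclic {A : Type*} [Group A] [Finite A] [IsCyclic A] {l : ℕ} (hl : 0 < l) {a b : A}
    (ha : orderOf a = l) (hb : b ^ l = 1) : b ∈ zpowers a := by
  classical
  have := Fintype.ofFinite A
  have h1 := IsCyclic.card_pow_eq_one_le (α := A) hl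
  have h2 : ((zpowers a : Subgroup A) : Set A).toFinset ⊆ Finset.univ.filter fun x : A => x ^ l = 1 := by
    intro x hx
    rw [Set.mem_toFinset] at hx
    rw [Finset.mem_filter]
    refine ⟨Finset.mem_univ _, ?_⟩
    obtain ⟨k, rfl⟩ := hx
    have e : (a ^ k) ^ l = (a ^ l) ^ k := by rw [← zpow_natCast, ← zpow_natCast, ← zpow_mul, ← zpow_mul, mul_comm]
    show (a ^ k) ^ l = 1
    rw [e, ← ha, pow_orderOf_eq_one, one_zpow]
  have h3 : (Finset.univ.filter fun x : A => x ^ l = 1).card ≤ ((zpowers a : Subgroup A) : Set A).toFinset.card := by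
    refine h1.trans ?_
    rw [Set.toFinset_card, ← Nat.card_eq_fintype_card]
    have : Nat.card ↥(zpowers a) = l := by rw [Nat.card_zpowers, ha]
    exact this.ge
  have h4 := Finset.eq_of_subset_of_card_le h2 h3
  have h5 : b ∈ Finset.univ.filter fun x : A => x ^ l = 1 := Finset.mem_filter.2 ⟨Finset.mem_univ _, hb⟩
  rw [← h4, Set.mem_toFinset] at h5
  exact h5

theorem exists_conj_mem {G : Type*} [Group G] [Finite G] {l : ℕ} [hl : Fact l.Prime] (P : Sylow l G) {y : G}
    (hy : orderOf y = l) : ∃ g : G, g * y * g⁻¹ ∈ (P : Subgroup G) := by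
  have h1 : IsPGroup l (zpowers y) := IsPGroup.of_card (n := 1) (by rw [Nat.card_zpowers, hy, pow_one])
  obtain ⟨P1, hP1⟩ := h1.exists_le_sylow
  obtain ⟨g, rfl⟩ := MulAction.exists_smul_eq G P1 P
  refine ⟨g, ?_⟩
  rw [Sylow.coe_subgroup_smul]
  exact Subgroup.smul_mem_pointwise_smul y (MulAut.conj g) (P1 : Subgroup G) (hP1 (mem_zpowers y))

theorem orderOf_cj {G : Type*} [Group G] (g y : G) : orderOf (g * y * g⁻¹) = orderOf y :=
  orderOf_injective (MulAut.conj g).toMonoidHom (MulEquiv.injective _) y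

theorem exists_conj_zpowers {G : Type*} [Group G] [Finite G] {l : ℕ} [hl : Fact l.Prime] {P : Sylow l G}
    (hP : IsCyclic (P : Subgroup G)) {y y' : G} (hy : orderOf y = l) (hy' : orderOf y' = l) :
    ∃ g, y ∈ zpowers (g * y' * g⁻¹) := by
  obtain ⟨g1, h1⟩ := exists_conj_mem P hy
  obtain ⟨g2, h2⟩ := exists_conj_mem P hy'
  have o1 : orderOf (g1 * y * g1⁻¹) = l := by rw [orderOf_cj, hy]
  have o2 : orderOf (g2 * y' * g2⁻¹) = l := by rw [orderOf_cj, hy']
  have h3 := mem_zpowers_of_cyclic (A := (P : Subgroup G)) hl.out.pos (a := ⟨_, h2⟩) (b := ⟨_, h1⟩)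
    (by rw [Subgroup.orderOf_mk, o2]) (by
      apply Subtype.ext
      show (g1 * y * g1⁻¹) ^ l = 1
      rw [← o1]
      exact pow_orderOf_eq_one _)
  obtain ⟨k, hk⟩ := h3
  have h4 : (g2 * y' * g2⁻¹) ^ k = g1 * y * g1⁻¹ := congrArg Subtype.val hk
  refine ⟨g1⁻¹ * g2, k, ?_⟩
  show (g1⁻¹ * g2 * y' * (g1⁻¹ * g2)⁻¹) ^ k = y
  have h5 : g1⁻¹ * g2 * y' * (g1⁻¹ * g2)⁻¹ = g1⁻¹ * (g2 * y' * g2⁻¹) * (g1⁻¹)⁻¹ := by group
  rw [h5, conj_zpow, h4]
  group

/-- **Growth, main lemma.** -/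
theorem growth_main {S G Q : Type*} [Group S] [Group G] [Finite G] [Group Q] [Finite Q] (hQ : IsSimpleGroup Q)
    (f : S →* G) (θ : S →* Q) (hθ : Function.Surjective θ) (hk : θ.ker ≤ Subgroup.center S)
    (hperf : commutator S = ⊤) {s : S} (hs : f s ≠ 1) {p l : ℕ} (hp : p.Prime) [hl : Fact l.Prime] {x6 : Q}
    (hx6 : orderOf x6 = p) (hb : UGood 1 (2 * (p + 1)) x6) (hlQ : l ∣ Nat.card Q) {P : Sylow l G}
    (hP : IsCyclic (P : Subgroup G)) {y : G} (hy : orderOf y = l) (hyG : UGood 1 (2 * (p + 1)) y) :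
    FprRow (p + 1) 1 p G := by
  have hker := ker_le hQ f θ hθ hk hperf hs
  obtain ⟨x, hx, hxp, hxK⟩ := exists_lift f θ hθ hker hk hperf hp hx6 hb
  obtain ⟨y', hy'⟩ := exists_prime_orderOf_dvd_card' l (hlQ.trans (card_dvd f θ hθ hker))
  have hy'' : orderOf (y' : G) = l := by rw [← hy']; exact Subgroup.orderOf_coe y'
  obtain ⟨g, hg⟩ := exists_conj_zpowers hP hy hy''
  have h1 := uGood_conj (uGood_of_zpowers hyG hg) g⁻¹
  have h2 : g⁻¹ * (g * (y' : G) * g⁻¹) * g⁻¹⁻¹ = y' := by group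
  rw [h2] at h1
  exact row_of_growth hp hx y'.2 hxp hxK h1

end Cfsg.Agent.H441.FPR.Grow
end

-- part: H441/FPR/GrowC
section
/-!
# Growth: `E₇(q)`, `q` of order `12`
-/

set_option autoImplicit false
set_option linter.unusedSectionVars false
set_option linter.unusedVariables false
set_option maxRecDepth 100000

namespace Cfsg.Agent.H441.FPR.Grow

open CoxeterSystem Cfsg.Agent.ChevalleyStructure.CoxeterGeom Cfsg.Agent.Tits.Roots Cfsg.Agent.Tits.Core
  Cfsg.Agent.Nodes.Reps Cfsg.Agent.Nodes.BNOf Cfsg.Agent.Nodes.Coroot Cfsg.Agent.Nodes.LeviDec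
  Cfsg.Agent.Nodes.PosPair Cfsg.Agent.Nodes.StabComb Cfsg.Agent.Nodes.KindChev Cfsg.Agent.KFacts.RgdCent
  Cfsg.Agent.Nodes.Bruhat Cfsg.Agent.Nodes.OppDec Cfsg.Agent.Tits.Exchange
  Cfsg.Agent.KFacts.RgdPar Cfsg.Agent.KFacts.RgdSL Cfsg.Agent.KFacts.RgdTI Cfsg.Agent.Nodes.RGDChev
  Cfsg.Agent.ChevalleyStructure.CoxeterGeomTypes
open Cfsg.Lie Cfsg.Agent.ChevalleyStructure Cfsg.Agent.ChevalleyStructure.Elts Cfsg.Agent.ChevalleyStructure.NPerm
open Cfsg.Agent.KFacts.RgdChevCoord Cfsg.Agent.Nodes.ChevCls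
open Cfsg.Agent.H400.TwoExc Cfsg.Agent.H400.Fpr
open Cfsg.Agent.H398.FPR (UGood Good)
open Cfsg.Agent.H409 (FprRow)
open Cfsg.Agent.H79.SimpleGen
open Cfsg.Agent.H400
open Cfsg.Agent.H441.FPR.Heis Cfsg.Agent.H441.FPR.Bit
open Cfsg.Agent.ChevalleyStructure.StEmbed

universe u

variable {K : Type u} [Field K] [Fintype K]

/-- a primitive prime divisor of `r ^ (m a) - 1` for `q = r ^ a` -/
theorem exists_zsig {r a m : ℕ} (hr : 2 ≤ r) (ha : 0 < a) (hm : 7 ≤ m) :
    ∃ l : ℕ, l.Prime ∧ l ≠ r ∧ m < l ∧ orderOf ((r ^ a : ℕ) : ZMod l) = m ∧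
      (∀ t : ℕ, t ≠ 0 → r ^ t ≡ 1 [MOD l] → (r ^ a) ^ m ≤ r ^ t) := by
  have h7 : 7 ≤ m * a := hm.trans (Nat.le_mul_of_pos_right _ ha)
  obtain ⟨l, hl, h1, h2, h3⟩ := Cfsg.Agent.Lib.Zsigmondy.exists_primitive (a := r) (n := m * a) hr (by omega)
    (by omega) (by omega)
  have hlr : l ≠ r := by rintro rfl; exact h3 dvd_rfl
  have hmod : ∀ t, r ^ t ≡ 1 [MOD l] ↔ m * a ∣ t := by
    intro t
    rw [← h1 t, Nat.ModEq.comm, Nat.modEq_iff_dvd' (Nat.one_le_pow _ _ (by omega))]
  have hml : m < l := by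
    have h4 : m * a ≤ l - 1 := Nat.le_of_dvd (by have := hl.two_le; omega) h2
    have h5 : m ≤ m * a := Nat.le_mul_of_pos_right _ ha
    have := hl.two_le
    omega
  refine ⟨l, hl, hlr, hml, ?_, ?_⟩
  · have : Fact l.Prime := ⟨hl⟩
    have key : ∀ t, ((r ^ a : ℕ) : ZMod l) ^ t = 1 ↔ m ∣ t := by
      intro t
      have e1 : ((r ^ a : ℕ) : ZMod l) ^ t = ((r ^ (a * t) : ℕ) : ZMod l) := by push_cast; rw [← pow_mul]
      rw [e1, ← Nat.cast_one (R := ZMod l), ZMod.natCast_eq_natCast_iff, hmod, mul_comm m a,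
        Nat.mul_dvd_mul_iff_left ha]
    apply Nat.dvd_antisymm
    · exact orderOf_dvd_of_pow_eq_one ((key m).2 dvd_rfl)
    · exact (key _).1 (pow_orderOf_eq_one _)
  · intro t ht h4
    rw [hmod] at h4
    rw [← pow_mul, mul_comm a m]
    exact Nat.pow_le_pow_right (by omega) (Nat.le_of_dvd (Nat.pos_of_ne_zero ht) h4)

/-- cyclic Sylow subgroups -/
theorem syl_cyc {c : ChevalleyDatum × List ℕ}
    (hc : c ∈ [(Cfsg.Lie.chevG2, [2, 6]), (Cfsg.Lie.chevB2, [2, 4]), (Cfsg.Lie.chevD4, [2, 4, 4, 6]), (Cfsg.Lie.chevF4, [2, 6, 8, 12]),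
      (Cfsg.Lie.chevE6, [2, 5, 6, 8, 9, 12]), (Cfsg.Lie.chevE7, [2, 6, 8, 10, 12, 14, 18]), (Cfsg.Lie.chevE8, [2, 8, 12, 14, 18, 20, 24, 30])])
    {p e : ℕ} [Fact p.Prime] (hpq : ¬ p ∣ Fintype.card K) (hpW : ¬ p ∣ c.2.prod) (hd : p ∣ Nat.card ↥(c.1.group K))
    (he : orderOf (Fintype.card K : ZMod p) = e)
    (hf : (c.2.filter (fun x => e ∣ x)).length = 1) (P : Sylow p ↥(c.1.group K)) :
    (IsCyclic (P : Subgroup ↥(c.1.group K)) :) := by
  have h1 := Cfsg.Agent.S2378.result rfl c hc p hpq hpW hd P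
  rw [he] at h1
  generalize (c.2.filter (fun x => e ∣ x)).length = k at hf h1
  subst hf
  obtain ⟨f⟩ := h1
  exact isCyclic_of_injective (f.trans (MulEquiv.funUnique (Fin 1) _)).toMonoidHom (MulEquiv.injective _)

/-- the homomorphism to `E₇(q)` is not trivial -/
theorem f67_ne (θ7 : chevE7.SteinbergGroup K →* ↥(chevE7.group K))
    (he7 : ∀ (r : ℕ) (t : K), r < chevE7.nroots → ((θ7 (chevE7.stGen K r t) : ↥(chevE7.group K)) : GL chevE7.Idx K) = chevE7.x K r t) :
    (θ7.comp (hom emb67 K)) (chevE6.stGen K 0 1) ≠ 1 := by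
  intro h2
  have h0 : (0 : ℕ) < chevE6.nroots := by decide +kernel
  have h7 : ι67 0 < chevE7.nroots := by decide +kernel
  rw [MonoidHom.comp_apply, hom_stGen emb67 h0] at h2
  have h3 := he7 (ι67 0) 1 h7
  rw [h2] at h3
  have hD : InList chevE7 := by simp
  have h4 : xG (F := K) hD (ι67 0) 1 = 1 := Units.ext h3.symm
  exact one_ne_zero ((xG_eq_one_iff hD h7 _).1 h4)

/-- an element of order `l`, `l` of order `8`, with small ratios -/
theorem e7_y : ∃ l : ℕ, l.Prime ∧ 8 < l ∧ ¬ l ∣ Fintype.card K ∧ orderOf (Fintype.card K : ZMod l) = 8 ∧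
    ∃ y : ↥(chevE7.group K), orderOf y = l ∧ ∀ p, p + 3 ≤ Fintype.card K ^ 4 → UGood 1 (2 * (p + 1)) y := by
  have hK1 : 1 < Fintype.card K := Fintype.one_lt_card
  have hfin : Finite ↥(chevE7.group K) := inferInstance
  have hsimp := Cfsg.Agent.S1054.result (F := K) chevE7 (by simp)
  have hsim : IsSimpleGroup ↥(chevE7.group K) := hsimp.1
  have hcen : Subgroup.center ↥(chevE7.group K) = ⊥ := center_eq_bot hsimp.2
  let cs : CoxeterSystem CoxeterMatrix.E₇ _ := CoxeterMatrix.E₇.toCoxeterSystem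
  have hT : IsType chevE7 7 CoxeterMatrix.E₇ := by simp [IsType, typeList]
  have hW : Finite CoxeterMatrix.E₇.Group := finite_W hT cs
  obtain ⟨r, hrK⟩ := CharP.exists K
  have hr := CharP.char_is_prime K r
  have : Fact r.Prime := ⟨hr⟩
  obtain ⟨a, -, ha⟩ := FiniteField.card K r
  have HD := hd_E7 (K := K) cs r
  rcases Nat.lt_or_ge 2 (Fintype.card K) with hK | hK
  · obtain ⟨l, hl, hlr, hl8, hlo, hM⟩ := exists_zsig (m := 8) hr.two_le a.pos (by norm_num)
    rw [← ha] at hlo hM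
    have hlK : ¬ l ∣ Fintype.card K := by
      rw [ha]
      intro h
      exact hlr ((Nat.prime_dvd_prime_iff_eq hl hr).1 (hl.dvd_of_dvd_pow h))
    have hlq : ¬ l ∣ Fintype.card K - 1 := by
      intro h1
      have h2 : (Fintype.card K : ZMod l) = 1 := by
        have h3 := (ZMod.natCast_eq_zero_iff _ _).2 h1
        rwa [Nat.cast_sub Fintype.card_pos, Nat.cast_one, sub_eq_zero] at h3
      rw [h2, orderOf_one] at hlo
      omega
    obtain ⟨x, hx, hxo⟩ := e7_x (m := 8) cs hl hlr hlq hlo (by decide) dvd_rfl hT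
    have key := uGood_x (M' := Fintype.card K ^ 8) HD hsim hcen hK hl hlr hx hxo hM (Nat.one_le_pow _ _ (by omega))
    refine ⟨l, hl, hl8, hlK, hlo, x, hxo, fun p hp => key.mono (by omega) ?_⟩
    have h1 : 81 ≤ Fintype.card K ^ 4 := by
      calc 81 = 3 ^ 4 := by norm_num
        _ ≤ _ := Nat.pow_le_pow_left hK 4
    have h2 : Fintype.card K ^ 8 = Fintype.card K ^ 4 * Fintype.card K ^ 4 := by ring
    have h3 : 81 * Fintype.card K ^ 4 ≤ Fintype.card K ^ 8 := by
      rw [h2]
      exact Nat.mul_le_mul_right _ h1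
    omega
  · have hK2 : Fintype.card K = 2 := by omega
    have h2 : r = 2 := by
      rw [hK2] at ha
      exact (card_two hr ha).1
    subst h2
    obtain ⟨x, hx, j, hj, hx1, hcard⟩ := b17_x cs 2 (by exact_mod_cast CharP.cast_eq_zero K 2) hT
    have ho8 : orderOf ((2 : ℕ) : ZMod 17) = 8 := by
      have : Fact (Nat.Prime 17) := ⟨by norm_num⟩
      refine (orderOf_eq_iff (by norm_num)).2 ⟨by decide, ?_⟩
      intro m hm hm0
      interval_cases m <;> decide
    have hM : ∀ t : ℕ, t ≠ 0 → 2 ^ t ≡ 1 [MOD 17] → 2 ^ 8 ≤ 2 ^ t := by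
      intro t ht h1
      have h2 : ((2 : ℕ) : ZMod 17) ^ t = 1 := by
        have := (ZMod.natCast_eq_natCast_iff _ _ _).2 h1
        push_cast at this ⊢
        exact this
      have h3 := Nat.le_of_dvd (Nat.pos_of_ne_zero ht) (orderOf_dvd_of_pow_eq_one h2)
      rw [ho8] at h3
      exact Nat.pow_le_pow_right (by norm_num) h3
    have h17 : Nat.Prime 17 := by norm_num
    have hxo : orderOf x = 17 := by
      obtain ⟨i, -, hi⟩ := (Nat.dvd_prime_pow h17).1 (orderOf_dvd_of_pow_eq_one hj)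
      have hG := Cfsg.Agent.S1064.result (F := K) hK2
      norm_num only [_root_.one_mul] at hG
      have hdv := orderOf_dvd_natCard x
      rcases Nat.lt_or_ge i 2 with h1 | h1
      · have h3 : i ≠ 0 := by
          rintro rfl
          rw [pow_zero] at hi
          exact hx1 (orderOf_eq_one_iff.1 hi)
        have h4 : i = 1 := by omega
        rw [hi, h4, pow_one]
      · exfalso
        have h3 : 17 ^ 2 ∣ orderOf x := by rw [hi]; exact pow_dvd_pow 17 h1
        have h4 := h3.trans hdv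
        rw [hG] at h4
        revert h4
        norm_num
    rw [hK2] at hcard
    have key := uGood_small (M' := 2 ^ 8) HD.hs hsim hcen (G1_eq_top hT cs) h17 (by norm_num) hx hj hx1
      (isPGroup_QQ HD.toHB) hcard (by norm_num) hM (by norm_num)
    refine ⟨17, h17, by norm_num, by rw [hK2]; norm_num, by rw [hK2]; exact ho8, x, hxo, fun p hp => key.mono (by norm_num) ?_⟩
    rw [hK2] at hp
    norm_num at hp ⊢
    omega

/-- **`E₇(q)`, `q` of order `12`.** -/
theorem e7_twelve {p : ℕ} (hp : p.Prime) (ho : orderOf (Fintype.card K : ZMod p) = 12) :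
    FprRow (p + 1) 1 p ↥(chevE7.group K) := by
  have : Fact p.Prime := ⟨hp⟩
  have hs6 := (Cfsg.Agent.S1054.result (F := K) chevE6 (by simp)).1
  have hs7 := (Cfsg.Agent.S1054.result (F := K) chevE7 (by simp)).1
  obtain ⟨l, hl, hl8, hlK, hlo, y, hyo, hy⟩ := e7_y (K := K)
  have : Fact l.Prime := ⟨hl⟩
  obtain ⟨q, hF⟩ : ∃ q, Fintype.card K = q := ⟨_, rfl⟩
  have hq2 : 2 ≤ q := by rw [← hF]; exact Fintype.one_lt_card
  rw [hF] at ho hlK hlo hy
  have hi : ∀ H : Subgroup ↥(chevE6.group K), H ≠ ⊤ → 2 * q ^ 11 ≤ H.index := fun H hH => by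
    rw [← hF]; exact Cfsg.Agent.H934.HeisE6.two_mul_le hs6 H hH
  obtain ⟨N, hN, hN0, hN1⟩ := Cfsg.Agent.H448.FprExc.exists_N12 hq2
  have hpN := Cfsg.Agent.H448.FprExc.dvd_12 ho hN
  have hp8 := Cfsg.Agent.H448.FprExc.le_of_ord hp (by norm_num) ho
  obtain ⟨T, -, h1, h2, h3⟩ := Cfsg.Agent.H448.FprExc.torus12 hF hN hp (by omega) hpN
  have h4 : 2 ^ 2 ≤ q ^ 2 := Nat.pow_le_pow_left hq2 2
  have h5 := Nat.le_of_dvd hN0 hpN
  obtain ⟨x6, hx6, hb⟩ := uGood_torus (b := 2 * (p + 1)) h1 h2 (hpN.mul_left _) (fun h => by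
      have := Nat.le_of_dvd (by norm_num) h
      omega) (Nat.mul_pos (by omega) hN0) h3 hi (by
    have h6 : q ^ 2 + q + 1 ≤ 2 * q ^ 2 := by nlinarith only [hN, hp8, h5]
    calc 2 * (p + 1) * ((q ^ 2 + q + 1) * N) ≤ 2 * (q ^ 4) * ((2 * q ^ 2) * q ^ 4) :=
          Nat.mul_le_mul (Nat.mul_le_mul_left _ (by omega)) (Nat.mul_le_mul h6 (by omega))
      _ = 2 * (2 * q ^ 10) := by ring
      _ ≤ 2 * (q * q ^ 10) := Nat.mul_le_mul_left _ (Nat.mul_le_mul_right _ hq2)
      _ = 2 * q ^ 11 := by ring)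
  obtain ⟨θ6, hs6', hk6, he6⟩ := Cfsg.Agent.S1077.result (K := K) chevE6 (by simp)
  obtain ⟨θ7, hs7', hk7, he7⟩ := Cfsg.Agent.S1077.result (K := K) chevE7 (by simp)
  have hperf := Cfsg.Agent.H65.UnivE.Typ.perfect Cfsg.Agent.H65.UnivE.typE6 K
  -- the prime `l` divides the order of `E₆(q)`
  have hlq8 : l ∣ q ^ 8 - 1 := dvd_of_ord (by omega) (by rw [hlo])
  have hl6 : l ∣ Nat.card ↥(chevE6.group K) := by
    have h7 := Cfsg.Agent.S1063.result (F := K) hF
    have h8 : l ∣ Nat.gcd 3 (q - 1) * Nat.card ↥(chevE6.group K) := by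
      rw [h7]
      exact Dvd.dvd.mul_right (Dvd.dvd.mul_right (Dvd.dvd.mul_left hlq8 _) _) _
    refine ((hl.dvd_mul).1 h8).resolve_left fun h9 => ?_
    have := Nat.le_of_dvd (by norm_num) (h9.trans (Nat.gcd_dvd_left _ _))
    omega
  have hl7 : l ∣ Nat.card ↥(chevE7.group K) := by rw [← hyo]; exact orderOf_dvd_natCard y
  obtain ⟨P⟩ : Nonempty (Sylow l ↥(chevE7.group K)) := inferInstance
  have hP := syl_cyc (K := K) (c := (chevE7, [2, 6, 8, 10, 12, 14, 18])) (by simp) (p := l) (e := 8) (by rwa [hF])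
    (by
      show ¬ l ∣ 2 * (6 * (8 * (10 * (12 * (14 * (18 * 1))))))
      intro h9
      have h10 : l ∣ 2 ^ 10 * 3 ^ 4 * 5 * 7 := by
        have : 2 * (6 * (8 * (10 * (12 * (14 * (18 * 1)))))) = 2 ^ 10 * 3 ^ 4 * 5 * 7 := by norm_num
        rwa [this] at h9
      rcases (hl.dvd_mul).1 h10 with h11 | h11
      · rcases (hl.dvd_mul).1 h11 with h12 | h12
        · rcases (hl.dvd_mul).1 h12 with h13 | h13
          · have := Nat.le_of_dvd (by norm_num) (hl.dvd_of_dvd_pow h13); omega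
          · have := Nat.le_of_dvd (by norm_num) (hl.dvd_of_dvd_pow h13); omega
        · have := Nat.le_of_dvd (by norm_num) h12; omega
      · have := Nat.le_of_dvd (by norm_num) h11; omega) hl7 (by rw [hF]; exact hlo) (by decide) P
  exact growth_main hs6 (θ7.comp (hom emb67 K)) θ6 hs6' hk6.le hperf (f67_ne θ7 he7) hp hx6 hb hl6 hP hyo
    (hy p (by omega))

end Cfsg.Agent.H441.FPR.Grow
end

-- part: H441/FPR/GrowD
section
/-!
# Growth: `E₈(q)`, `q` a power of `3`, `p = 757`
-/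

set_option autoImplicit false
set_option linter.unusedSectionVars false
set_option linter.unusedVariables false
set_option maxRecDepth 100000

namespace Cfsg.Agent.H441.FPR.Grow

open CoxeterSystem Cfsg.Agent.ChevalleyStructure.CoxeterGeom Cfsg.Agent.Tits.Roots Cfsg.Agent.Tits.Core
  Cfsg.Agent.Nodes.Reps Cfsg.Agent.Nodes.BNOf Cfsg.Agent.Nodes.Coroot Cfsg.Agent.Nodes.LeviDec
  Cfsg.Agent.Nodes.PosPair Cfsg.Agent.Nodes.StabComb Cfsg.Agent.Nodes.KindChev Cfsg.Agent.KFacts.RgdCent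
  Cfsg.Agent.Nodes.Bruhat Cfsg.Agent.Nodes.OppDec Cfsg.Agent.Tits.Exchange
  Cfsg.Agent.KFacts.RgdPar Cfsg.Agent.KFacts.RgdSL Cfsg.Agent.KFacts.RgdTI Cfsg.Agent.Nodes.RGDChev
  Cfsg.Agent.ChevalleyStructure.CoxeterGeomTypes
open Cfsg.Lie Cfsg.Agent.ChevalleyStructure Cfsg.Agent.ChevalleyStructure.Elts Cfsg.Agent.ChevalleyStructure.NPerm
open Cfsg.Agent.KFacts.RgdChevCoord Cfsg.Agent.Nodes.ChevCls
open Cfsg.Agent.H400.TwoExc Cfsg.Agent.H400.Fpr
open Cfsg.Agent.H398.FPR (UGood Good)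
open Cfsg.Agent.H409 (FprRow)
open Cfsg.Agent.H79.SimpleGen
open Cfsg.Agent.H400
open Cfsg.Agent.H441.FPR.Heis Cfsg.Agent.H441.FPR.Bit
open Cfsg.Agent.ChevalleyStructure.StEmbed

universe u

variable {K : Type u} [Field K] [Fintype K]

/-- the homomorphism to `E₈(q)` is not trivial -/
theorem f78_ne (θ8 : chevE8.SteinbergGroup K →* ↥(chevE8.group K))
    (he8 : ∀ (r : ℕ) (t : K), r < chevE8.nroots → ((θ8 (chevE8.stGen K r t) : ↥(chevE8.group K)) : GL chevE8.Idx K) = chevE8.x K r t) :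
    (θ8.comp (hom emb78 K)) (chevE7.stGen K 0 1) ≠ 1 := by
  intro h2
  have h0 : (0 : ℕ) < chevE7.nroots := by decide +kernel
  have h7 : ι78 0 < chevE8.nroots := by decide +kernel
  rw [MonoidHom.comp_apply, hom_stGen emb78 h0] at h2
  have h3 := he8 (ι78 0) 1 h7
  rw [h2] at h3
  have hD : InList chevE8 := by simp
  have h4 : xG (F := K) hD (ι78 0) 1 = 1 := Units.ext h3.symm
  exact one_ne_zero ((xG_eq_one_iff hD h7 _).1 h4)

/-- an element of order `l`, `l` of order `14`, with small ratios -/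
theorem e8_y (hK : 2 < Fintype.card K) : ∃ l : ℕ, l.Prime ∧ 14 < l ∧ ¬ l ∣ Fintype.card K ∧
    orderOf (Fintype.card K : ZMod l) = 14 ∧
    ∃ y : ↥(chevE8.group K), orderOf y = l ∧ ∀ b, 58 * b ≤ Fintype.card K ^ 14 + 57 → UGood 1 b y := by
  have hK1 : 1 < Fintype.card K := Fintype.one_lt_card
  have hfin : Finite ↥(chevE8.group K) := inferInstance
  have hsimp := Cfsg.Agent.S1054.result (F := K) chevE8 (by simp)
  have hsim : IsSimpleGroup ↥(chevE8.group K) := hsimp.1
  have hcen : Subgroup.center ↥(chevE8.group K) = ⊥ := center_eq_bot hsimp.2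
  let cs : CoxeterSystem CoxeterMatrix.E₈ _ := CoxeterMatrix.E₈.toCoxeterSystem
  have hT : IsType chevE8 8 CoxeterMatrix.E₈ := by simp [IsType, typeList]
  have hW : Finite CoxeterMatrix.E₈.Group := finite_W hT cs
  obtain ⟨r, hrK⟩ := CharP.exists K
  have hr := CharP.char_is_prime K r
  have : Fact r.Prime := ⟨hr⟩
  obtain ⟨a, -, ha⟩ := FiniteField.card K r
  have HD := hd_E8 (K := K) cs r
  obtain ⟨l, hl, hlr, hl8, hlo, hM⟩ := exists_zsig (m := 14) hr.two_le a.pos (by norm_num)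
  rw [← ha] at hlo hM
  have hlK : ¬ l ∣ Fintype.card K := by
    rw [ha]
    intro h
    exact hlr ((Nat.prime_dvd_prime_iff_eq hl hr).1 (hl.dvd_of_dvd_pow h))
  have hlq : ¬ l ∣ Fintype.card K - 1 := by
    intro h1
    have h2 : (Fintype.card K : ZMod l) = 1 := by
      have h3 := (ZMod.natCast_eq_zero_iff _ _).2 h1
      rwa [Nat.cast_sub Fintype.card_pos, Nat.cast_one, sub_eq_zero] at h3
    rw [h2, orderOf_one] at hlo
    omega
  obtain ⟨x, hx, hxo⟩ := e8_x (m := 14) cs hl hlr hlq hlo (by decide) dvd_rfl hT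
  have key := uGood_x (M' := Fintype.card K ^ 14) HD hsim hcen hK hl hlr hx hxo hM (Nat.one_le_pow _ _ (by omega))
  refine ⟨l, hl, hl8, hlK, hlo, x, hxo, fun b hb => key.mono (by omega) ?_⟩
  omega

/-- **`E₈(q)`, `q` of order `9` modulo `p`, `p ≤ 757`, `q > 2`.** -/
theorem e8_nine_small {p : ℕ} (hp : p.Prime) (ho : orderOf (Fintype.card K : ZMod p) = 9) (hK : 2 < Fintype.card K)
    (h757 : p ≤ 757) : FprRow (p + 1) 1 p ↥(chevE8.group K) := by
  have : Fact p.Prime := ⟨hp⟩
  have hs7 := (Cfsg.Agent.S1054.result (F := K) chevE7 (by simp)).1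
  have hs8 := (Cfsg.Agent.S1054.result (F := K) chevE8 (by simp)).1
  obtain ⟨l, hl, hl8, hlK, hlo, y, hyo, hy⟩ := e8_y (K := K) hK
  have : Fact l.Prime := ⟨hl⟩
  obtain ⟨q, hF⟩ : ∃ q, Fintype.card K = q := ⟨_, rfl⟩
  rw [hF] at ho hlK hlo hy hK
  have hi : ∀ H : Subgroup ↥(chevE7.group K), H ≠ ⊤ → 2 * q ^ 17 ≤ H.index := fun H hH => by
    rw [← hF]; exact Cfsg.Agent.H934.HeisE7.two_mul_le hs7 H hH
  have hp8 := Cfsg.Agent.H448.FprExc.le_of_ord hp (by norm_num) ho
  obtain ⟨M, hM, hM0, hM1⟩ : ∃ M : ℕ, (M : ℤ) = -1 + (q : ℤ) - (q : ℤ) ^ 3 + (q : ℤ) ^ 4 - (q : ℤ) ^ 6 + (q : ℤ) ^ 7 ∧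
      0 < M ∧ M ≤ q ^ 8 := by
    obtain ⟨a, rfl⟩ : ∃ a, q = a + 1 := ⟨q - 1, by omega⟩
    have h1 : 0 < a := by omega
    refine ⟨a * (1 + (a + 1) ^ 3 + (a + 1) ^ 6), by push_cast; ring, by (clear * - h1; positivity), ?_⟩
    have h2 : 1 + (a + 1) ^ 3 + (a + 1) ^ 6 ≤ (a + 1) ^ 7 := by
      have h3 : (a + 1) ^ 7 = (a + 1) * (a + 1) ^ 6 := by ring
      have h4 : 2 * (a + 1) ^ 6 ≤ (a + 1) * (a + 1) ^ 6 := Nat.mul_le_mul_right _ (by omega)
      have h5 : (a + 1) ^ 6 = (a + 1) ^ 3 * (a + 1) ^ 3 := by ring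
      have h6 : 2 ^ 3 ≤ (a + 1) ^ 3 := Nat.pow_le_pow_left (by omega) 3
      have h7 : 2 ^ 3 * (a + 1) ^ 3 ≤ (a + 1) ^ 3 * (a + 1) ^ 3 := Nat.mul_le_mul_right _ h6
      omega
    calc a * (1 + (a + 1) ^ 3 + (a + 1) ^ 6) ≤ (a + 1) * (a + 1) ^ 7 := Nat.mul_le_mul (by omega) h2
      _ = (a + 1) ^ 8 := by ring
  obtain ⟨N, hN⟩ : ∃ N : ℕ, (N : ℤ) = 1 + (q : ℤ) ^ 3 + (q : ℤ) ^ 6 := ⟨1 + q ^ 3 + q ^ 6, by push_cast; ring⟩
  have hpN := Cfsg.Agent.H448.FprExc.dvd_9' ho hN
  obtain ⟨T, -, h1, h2, h3⟩ := Cfsg.Agent.H448.FprExc.torus9s hF hN hM hp (by omega) hpN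
  have hpM : p ∣ M := by
    have h4 : (p : ℤ) ∣ (N : ℤ) := Int.natCast_dvd_natCast.2 hpN
    have h5 : (M : ℤ) = (N : ℤ) * ((q : ℤ) - 1) := by rw [hM, hN]; ring
    have h6 : (p : ℤ) ∣ (M : ℤ) := by rw [h5]; exact h4.mul_right _
    exact Int.natCast_dvd_natCast.1 h6
  have h37 : 2187 ≤ q ^ 7 := by
    calc 2187 = 3 ^ 7 := by norm_num
      _ ≤ _ := Nat.pow_le_pow_left hK 7
  obtain ⟨x7, hx7, hb⟩ := uGood_torus (b := 2 * (p + 1)) h1 h2 hpM (fun h => by
      have := Nat.le_of_dvd (by norm_num) h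
      omega) hM0 h3 hi (by
    calc 2 * (p + 1) * M ≤ 2 * q ^ 7 * q ^ 8 := Nat.mul_le_mul (Nat.mul_le_mul_left _ (by omega)) hM1
      _ = 2 * q ^ 15 := by ring
      _ ≤ 2 * q ^ 17 := Nat.mul_le_mul_left _ (Nat.pow_le_pow_right (by omega) (by norm_num)))
  obtain ⟨θ7, hs7', hk7, he7⟩ := Cfsg.Agent.S1077.result (K := K) chevE7 (by simp)
  obtain ⟨θ8, hs8', hk8, he8⟩ := Cfsg.Agent.S1077.result (K := K) chevE8 (by simp)
  have hperf := Cfsg.Agent.H65.UnivE.Typ.perfect Cfsg.Agent.H65.UnivE.typE7 K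
  -- the prime `l` divides the order of `E₇(q)`
  have hlq14 : l ∣ q ^ 14 - 1 := dvd_of_ord (by omega) (by rw [hlo])
  have hl7 : l ∣ Nat.card ↥(chevE7.group K) := by
    have h7 := Cfsg.Agent.S1064.result (F := K) hF
    have h8 : l ∣ Nat.gcd 2 (q - 1) * Nat.card ↥(chevE7.group K) := by
      rw [h7]
      exact Dvd.dvd.mul_right (Dvd.dvd.mul_left hlq14 _) _
    refine ((hl.dvd_mul).1 h8).resolve_left fun h9 => ?_
    have := Nat.le_of_dvd (by norm_num) (h9.trans (Nat.gcd_dvd_left _ _))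
    omega
  have hl8' : l ∣ Nat.card ↥(chevE8.group K) := by rw [← hyo]; exact orderOf_dvd_natCard y
  obtain ⟨P⟩ : Nonempty (Sylow l ↥(chevE8.group K)) := inferInstance
  have hP := syl_cyc (K := K) (c := (chevE8, [2, 8, 12, 14, 18, 20, 24, 30])) (by simp only [_root_.List.mem_cons, _root_.Prod.mk.injEq, _root_.List.cons.injEq, _root_.Nat.reduceEqDiff, _root_.reduceCtorEq, _root_.and_self, _root_.and_false, _root_.List.cons_ne_self, _root_.List.not_mem_nil, _root_.or_false, _root_.or_true]) (p := l) (e := 14) (by rwa [hF])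
    (by
      show ¬ l ∣ 2 * (8 * (12 * (14 * (18 * (20 * (24 * (30 * 1)))))))
      intro h9
      have h10 : l ∣ 2 ^ 14 * 3 ^ 5 * 5 ^ 2 * 7 := by
        have : 2 * (8 * (12 * (14 * (18 * (20 * (24 * (30 * 1))))))) = 2 ^ 14 * 3 ^ 5 * 5 ^ 2 * 7 := by norm_num
        rwa [this] at h9
      rcases (hl.dvd_mul).1 h10 with h11 | h11
      · rcases (hl.dvd_mul).1 h11 with h12 | h12
        · rcases (hl.dvd_mul).1 h12 with h13 | h13
          · have := Nat.le_of_dvd (by norm_num) (hl.dvd_of_dvd_pow h13); omega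
          · have := Nat.le_of_dvd (by norm_num) (hl.dvd_of_dvd_pow h13); omega
        · have := Nat.le_of_dvd (by norm_num) (hl.dvd_of_dvd_pow h12); omega
      · have := Nat.le_of_dvd (by norm_num) h11; omega) hl8' (by rw [hF]; exact hlo) (by decide) P
  refine growth_main hs7 (θ8.comp (hom emb78 K)) θ7 hs7' hk7.le hperf (f78_ne θ8 he8) hp hx7 hb hl7 hP hyo
    (hy _ ?_)
  have h14 : q ^ 14 = q ^ 7 * q ^ 7 := by ring
  have h15 : 2187 * 2187 ≤ q ^ 7 * q ^ 7 := Nat.mul_le_mul h37 h37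
  omega

/-- **`E₈(q)`, order `9`.** -/
theorem e8_nine_all {p : ℕ} (hp : p.Prime) (hpK : (p : K) ≠ 0) (ho : orderOf (Fintype.card K : ZMod p) = 9) :
    FprRow (p + 1) 1 p ↥(chevE8.group K) := by
  by_cases h : p = 757 ∧ (3 : K) = 0
  · obtain ⟨rfl, h3⟩ := h
    refine e8_nine_small hp ho ?_ le_rfl
    have h1 : 1 < Fintype.card K := Fintype.one_lt_card
    rcases Nat.lt_or_ge 2 (Fintype.card K) with h2 | h2
    · exact h2
    · exfalso
      have h4 : Fintype.card K = 2 := by omega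
      have h5 : ((Fintype.card K : ℕ) : K) = 0 := Nat.cast_card_eq_zero K
      rw [h4] at h5
      have h6 : (1 : K) = 0 := by push_cast at h5; linear_combination h3 - h5
      exact one_ne_zero h6
  · refine e8_nine' hp hpK ho ?_
    by_cases h1 : p = 757
    · exact Or.inr fun h2 => h ⟨h1, h2⟩
    · exact Or.inl h1

end Cfsg.Agent.H441.FPR.Grow
end

-- part: H452/FprTabE6_3
section
/-!
# Table: `E6`, `SL_3(2)`
-/

set_option autoImplicit false
set_option maxRecDepth 100000

namespace Cfsg.Agent.H452.HeisC.TE6_3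

open Cfsg.Lie Cfsg.Agent.TitsThree.KExcRT Cfsg.Agent.H441.FPR

def r : Fin (0 + 3) → Fin (0 + 3) → ℕ := ![![0, 11, 12], ![60, 0, 36], ![59, 35, 0]]
def wp : List (Fin (0 + 3) × Fin (0 + 3)) := [(2, 0), (1, 2), (0, 1)]
def B : Fin (0 + 4) → Matrix (Fin (0 + 3)) (Fin (0 + 3)) (ZMod 2) := ![!![1, 1, 0; 0, 1, 1; 1, 1, 1], !![1,
  0, 1; 1, 0, 0; 0, 1, 0], !![1, 1, 1; 1, 0, 1; 1, 0, 0], !![1, 1, 0; 0, 1, 1; 1, 1, 1]]
def P : List (ℕ × ℕ) := [(46, 1), (47, 2), (48, 3), (49, 4), (50, 5), (51, 6), (52, 7), (53, 8), (54, 9),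
  (62, 17), (63, 18), (64, 19), (65, 20), (66, 21), (67, 22), (68, 23), (69, 24), (70, 25)]
def M : List (ℕ × List (ℕ × ℕ)) := [(11, [(63, 46), (65, 47), (66, 48), (68, 50), (69, 51), (70, 53)]), (36,
  [(48, 49), (51, 52), (53, 54), (62, 63), (64, 65), (67, 68)]), (59, [(46, 62), (47, 64), (49, 66), (50,
  67), (52, 69), (54, 70)])]
def M' : List (ℕ × List (ℕ × ℕ)) := [(11, [(18, 1), (20, 2), (21, 3), (23, 5), (24, 6), (25, 8)]), (36, [(3,
  4), (6, 7), (8, 9), (17, 18), (19, 20), (22, 23)]), (59, [(1, 17), (2, 19), (4, 21), (5, 22), (7, 24), (9,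
  25)])]
def w : List ℕ := [59, 36, 11]
def V : List (ℕ × List ℕ) := [(46, [46, 63]), (47, [47, 65]), (48, [48, 66]), (49, [48, 49]), (50, [50,
  68]), (51, [51, 69]), (52, [51, 52]), (53, [53, 70]), (54, [53, 54]), (62, [46]), (63, [62]), (64, [47]),
  (65, [64]), (66, [49]), (67, [50]), (68, [67]), (69, [52]), (70, [54])]
def V' : List (ℕ × List ℕ) := [(1, [1, 18]), (2, [2, 20]), (3, [3, 21]), (4, [3, 4]), (5, [5, 23]), (6, [6,
  24]), (7, [6, 7]), (8, [8, 25]), (9, [8, 9]), (17, [1]), (18, [17]), (19, [2]), (20, [19]), (21, [4]),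
  (22, [5]), (23, [22]), (24, [7]), (25, [9])]
def bs : Fin 7 → ℕ := ![46, 47, 48, 49, 50, 51, 52]
def cs : Fin 7 → ℕ := ![70, 69, 68, 67, 66, 65, 64]
def bs' : Fin 7 → ℕ := ![1, 2, 3, 4, 5, 6, 7]
def cs' : Fin 7 → ℕ := ![25, 24, 23, 22, 21, 20, 19]
def steps : List (ℕ × ℕ) := [(1, 69), (2, 66), (2, 68), (2, 70), (3, 67), (3, 69), (4, 68), (5, 69), (6,
  54), (17, 65)]

theorem h : HOK chevE6 71 (P.map Prod.fst) M w V bs cs where
  zlt := by decide +kernel
  gam := by unfold isNil; rw [Fc.ct_eq, Fc.ng_eq]; decide +kernel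
  blk := by unfold isNil; rw [Fc.ct_eq, Fc.ng_eq]; decide +kernel
  act := by unfold isOne isNil; rw [Fc.ct_eq, Fc.ng_eq]; decide +kernel
  pair := by unfold isLe; rw [Fc.ct_eq, Fc.ng_eq]; decide +kernel
  wW := by decide +kernel
  V1 := by decide +kernel
  V2 := by decide +kernel
  bc := by unfold isOne; rw [Fc.ct_eq, Fc.ng_eq]; decide +kernel
  bc' := by unfold isNil; rw [Fc.ct_eq, Fc.ng_eq]; decide +kernel

theorem h' : HOK chevE6 0 (P.map Prod.snd) M' w V' bs' cs' where
  zlt := by decide +kernel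
  gam := by unfold isNil; rw [Fc.ct_eq, Fc.ng_eq]; decide +kernel
  blk := by unfold isNil; rw [Fc.ct_eq, Fc.ng_eq]; decide +kernel
  act := by unfold isOne isNil; rw [Fc.ct_eq, Fc.ng_eq]; decide +kernel
  pair := by unfold isLe; rw [Fc.ct_eq, Fc.ng_eq]; decide +kernel
  wW := by decide +kernel
  V1 := by decide +kernel
  V2 := by decide +kernel
  bc := by unfold isOne; rw [Fc.ct_eq, Fc.ng_eq]; decide +kernel
  bc' := by unfold isNil; rw [Fc.ct_eq, Fc.ng_eq]; decide +kernel

theorem tab : TOK chevE6 r (1) wp B 71 0 P M M' w V V' bs cs bs' cs' steps where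
  he := by decide
  ra := by decide +kernel
  rb := Fc.rtb_of (by decide +kernel)
  rc := Fc.rtc_of (by decide +kernel)
  rn := by rw [Fc.ng_eq]; decide +kernel
  hw := by decide +kernel
  hne := by decide +kernel
  B0 := by decide +kernel
  hB := by decide +kernel
  hBk := by decide +kernel
  h := h
  h' := h'
  hP := by unfold isOne; rw [Fc.ct_eq, Fc.ng_eq]; decide +kernel
  hg := by delta GenOK gall gstep; rw [Fc.ct_eq, Fc.ng_eq]; decide +kernel
  hN := by decide

end Cfsg.Agent.H452.HeisC.TE6_3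
end

-- part: H452/FprTabE7_3
section
/-!
# Table: `E7`, `SL_3(2)`
-/

set_option autoImplicit false
set_option maxRecDepth 100000

namespace Cfsg.Agent.H452.HeisC.TE7_3

open Cfsg.Lie Cfsg.Agent.TitsThree.KExcRT Cfsg.Agent.H441.FPR

def r : Fin (0 + 3) → Fin (0 + 3) → ℕ := ![![0, 33, 34], ![92, 0, 64], ![91, 61, 0]]
def wp : List (Fin (0 + 3) × Fin (0 + 3)) := [(2, 0), (1, 2), (0, 1)]
def B : Fin (0 + 4) → Matrix (Fin (0 + 3)) (Fin (0 + 3)) (ZMod 2) := ![!![1, 1, 0; 0, 1, 1; 1, 1, 1], !![1,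
  0, 1; 1, 0, 0; 0, 1, 0], !![1, 1, 1; 1, 0, 1; 1, 0, 0], !![1, 1, 0; 0, 1, 1; 1, 1, 1]]
def P : List (ℕ × ℕ) := [(93, 1), (94, 2), (95, 3), (96, 4), (97, 5), (99, 7), (100, 8), (101, 9), (103,
  11), (104, 12), (107, 15), (108, 16), (109, 17), (110, 18), (113, 21), (114, 22), (116, 24), (117, 25),
  (118, 26), (120, 28), (121, 29), (122, 30), (123, 31), (124, 32)]
def M : List (ℕ × List (ℕ × ℕ)) := [(33, [(108, 93), (114, 94), (117, 95), (118, 96), (121, 99), (122, 100),
  (123, 103), (124, 109)]), (64, [(96, 97), (100, 101), (103, 104), (107, 108), (109, 110), (113, 114),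
  (116, 117), (120, 121)]), (91, [(93, 107), (94, 113), (95, 116), (97, 118), (99, 120), (101, 122), (104,
  123), (110, 124)])]
def M' : List (ℕ × List (ℕ × ℕ)) := [(33, [(16, 1), (22, 2), (25, 3), (26, 4), (29, 7), (30, 8), (31, 11),
  (32, 17)]), (64, [(4, 5), (8, 9), (11, 12), (15, 16), (17, 18), (21, 22), (24, 25), (28, 29)]), (91, [(1,
  15), (2, 21), (3, 24), (5, 26), (7, 28), (9, 30), (12, 31), (18, 32)])]
def w : List ℕ := [91, 64, 33]
def V : List (ℕ × List ℕ) := [(93, [93, 108]), (94, [94, 114]), (95, [95, 117]), (96, [96, 118]), (97, [96,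
  97]), (99, [99, 121]), (100, [100, 122]), (101, [100, 101]), (103, [103, 123]), (104, [103, 104]), (107,
  [93]), (108, [107]), (109, [109, 124]), (110, [109, 110]), (113, [94]), (114, [113]), (116, [95]), (117,
  [116]), (118, [97]), (120, [99]), (121, [120]), (122, [101]), (123, [104]), (124, [110])]
def V' : List (ℕ × List ℕ) := [(1, [1, 16]), (2, [2, 22]), (3, [3, 25]), (4, [4, 26]), (5, [4, 5]), (7, [7,
  29]), (8, [8, 30]), (9, [8, 9]), (11, [11, 31]), (12, [11, 12]), (15, [1]), (16, [15]), (17, [17, 32]),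
  (18, [17, 18]), (21, [2]), (22, [21]), (24, [3]), (25, [24]), (26, [5]), (28, [7]), (29, [28]), (30, [9]),
  (31, [12]), (32, [18])]
def bs : Fin 7 → ℕ := ![93, 94, 95, 96, 97, 99, 100]
def cs : Fin 7 → ℕ := ![124, 123, 122, 121, 120, 118, 117]
def bs' : Fin 7 → ℕ := ![1, 2, 3, 4, 5, 7, 8]
def cs' : Fin 7 → ℕ := ![32, 31, 30, 29, 28, 26, 25]
def steps : List (ℕ × ℕ) := [(1, 113), (1, 123), (2, 122), (2, 124), (3, 118), (3, 121), (3, 123), (4, 101),
  (4, 120), (4, 122), (5, 121), (7, 122), (12, 124), (24, 121), (36, 88), (37, 89)]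

theorem h : HOK chevE7 125 (P.map Prod.fst) M w V bs cs where
  zlt := by decide +kernel
  gam := by unfold isNil; rw [Fc.ct_eq, Fc.ng_eq]; decide +kernel
  blk := by unfold isNil; rw [Fc.ct_eq, Fc.ng_eq]; decide +kernel
  act := by unfold isOne isNil; rw [Fc.ct_eq, Fc.ng_eq]; decide +kernel
  pair := by unfold isLe; rw [Fc.ct_eq, Fc.ng_eq]; decide +kernel
  wW := by decide +kernel
  V1 := by decide +kernel
  V2 := by decide +kernel
  bc := by unfold isOne; rw [Fc.ct_eq, Fc.ng_eq]; decide +kernel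
  bc' := by unfold isNil; rw [Fc.ct_eq, Fc.ng_eq]; decide +kernel

theorem h' : HOK chevE7 0 (P.map Prod.snd) M' w V' bs' cs' where
  zlt := by decide +kernel
  gam := by unfold isNil; rw [Fc.ct_eq, Fc.ng_eq]; decide +kernel
  blk := by unfold isNil; rw [Fc.ct_eq, Fc.ng_eq]; decide +kernel
  act := by unfold isOne isNil; rw [Fc.ct_eq, Fc.ng_eq]; decide +kernel
  pair := by unfold isLe; rw [Fc.ct_eq, Fc.ng_eq]; decide +kernel
  wW := by decide +kernel
  V1 := by decide +kernel
  V2 := by decide +kernel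
  bc := by unfold isOne; rw [Fc.ct_eq, Fc.ng_eq]; decide +kernel
  bc' := by unfold isNil; rw [Fc.ct_eq, Fc.ng_eq]; decide +kernel

theorem tab : TOK chevE7 r (1) wp B 125 0 P M M' w V V' bs cs bs' cs' steps where
  he := by decide
  ra := by decide +kernel
  rb := Fc.rtb_of (by decide +kernel)
  rc := Fc.rtc_of (by decide +kernel)
  rn := by rw [Fc.ng_eq]; decide +kernel
  hw := by decide +kernel
  hne := by decide +kernel
  B0 := by decide +kernel
  hB := by decide +kernel
  hBk := by decide +kernel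
  h := h
  h' := h'
  hP := by unfold isOne; rw [Fc.ct_eq, Fc.ng_eq]; decide +kernel
  hg := by delta GenOK gall gstep; rw [Fc.ct_eq, Fc.ng_eq]; decide +kernel
  hN := by decide

end Cfsg.Agent.H452.HeisC.TE7_3
end

-- part: H452/FprTabE8_3
section
/-!
# Table: `E8`, `SL_3(2)`
-/

set_option autoImplicit false
set_option maxRecDepth 100000

namespace Cfsg.Agent.H452.HeisC.TE8_3

open Cfsg.Lie Cfsg.Agent.TitsThree.KExcRT Cfsg.Agent.H441.FPR

def r : Fin (0 + 3) → Fin (0 + 3) → ℕ := ![![0, 13, 20], ![226, 0, 162], ![219, 77, 0]]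
def wp : List (Fin (0 + 3) × Fin (0 + 3)) := [(2, 0), (1, 2), (0, 1)]
def B : Fin (0 + 4) → Matrix (Fin (0 + 3)) (Fin (0 + 3)) (ZMod 2) := ![!![1, 1, 0; 0, 1, 1; 1, 1, 1], !![1,
  0, 1; 1, 0, 0; 0, 1, 0], !![1, 1, 1; 1, 0, 1; 1, 0, 0], !![1, 1, 0; 0, 1, 1; 1, 1, 1]]
def P : List (ℕ × ℕ) := [(120, 1), (122, 2), (125, 3), (129, 4), (134, 5), (140, 6), (146, 7), (151, 8),
  (155, 9), (158, 10), (160, 11), (161, 12), (168, 14), (173, 15), (177, 16), (180, 17), (182, 18), (183,
  19), (220, 56), (221, 57), (222, 59), (223, 62), (224, 66), (225, 71), (227, 78), (228, 79), (229, 81),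
  (230, 84), (231, 88), (232, 93), (233, 99), (234, 105), (235, 110), (236, 114), (237, 117), (238, 119)]
def M : List (ℕ × List (ℕ × ℕ)) := [(13, [(227, 120), (228, 122), (229, 125), (230, 129), (231, 134), (232,
  140), (233, 146), (234, 151), (235, 155), (236, 158), (237, 160), (238, 161)]), (162, [(140, 168), (151,
  173), (155, 177), (158, 180), (160, 182), (161, 183), (220, 227), (221, 228), (222, 229), (223, 230),
  (224, 231), (225, 233)]), (219, [(120, 220), (122, 221), (125, 222), (129, 223), (134, 224), (146, 225),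
  (168, 232), (173, 234), (177, 235), (180, 236), (182, 237), (183, 238)])]
def M' : List (ℕ × List (ℕ × ℕ)) := [(13, [(78, 1), (79, 2), (81, 3), (84, 4), (88, 5), (93, 6), (99, 7),
  (105, 8), (110, 9), (114, 10), (117, 11), (119, 12)]), (162, [(6, 14), (8, 15), (9, 16), (10, 17), (11,
  18), (12, 19), (56, 78), (57, 79), (59, 81), (62, 84), (66, 88), (71, 99)]), (219, [(1, 56), (2, 57), (3,
  59), (4, 62), (5, 66), (7, 71), (14, 93), (15, 105), (16, 110), (17, 114), (18, 117), (19, 119)])]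
def w : List ℕ := [219, 162, 13]
def V : List (ℕ × List ℕ) := [(120, [120, 227]), (122, [122, 228]), (125, [125, 229]), (129, [129, 230]),
  (134, [134, 231]), (140, [140, 232]), (146, [146, 233]), (151, [151, 234]), (155, [155, 235]), (158, [158,
  236]), (160, [160, 237]), (161, [161, 238]), (168, [140, 168]), (173, [151, 173]), (177, [155, 177]),
  (180, [158, 180]), (182, [160, 182]), (183, [161, 183]), (220, [120]), (221, [122]), (222, [125]), (223,
  [129]), (224, [134]), (225, [146]), (227, [220]), (228, [221]), (229, [222]), (230, [223]), (231, [224]),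
  (232, [168]), (233, [225]), (234, [173]), (235, [177]), (236, [180]), (237, [182]), (238, [183])]
def V' : List (ℕ × List ℕ) := [(1, [1, 78]), (2, [2, 79]), (3, [3, 81]), (4, [4, 84]), (5, [5, 88]), (6, [6,
  93]), (7, [7, 99]), (8, [8, 105]), (9, [9, 110]), (10, [10, 114]), (11, [11, 117]), (12, [12, 119]), (14,
  [6, 14]), (15, [8, 15]), (16, [9, 16]), (17, [10, 17]), (18, [11, 18]), (19, [12, 19]), (56, [1]), (57,
  [2]), (59, [3]), (62, [4]), (66, [5]), (71, [7]), (78, [56]), (79, [57]), (81, [59]), (84, [62]), (88,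
  [66]), (93, [14]), (99, [71]), (105, [15]), (110, [16]), (114, [17]), (117, [18]), (119, [19])]
def bs : Fin 7 → ℕ := ![120, 122, 125, 129, 134, 140, 146]
def cs : Fin 7 → ℕ := ![238, 237, 236, 235, 234, 233, 232]
def bs' : Fin 7 → ℕ := ![1, 2, 3, 4, 5, 6, 7]
def cs' : Fin 7 → ℕ := ![119, 117, 114, 110, 105, 99, 93]
def steps : List (ℕ × ℕ) := [(1, 237), (2, 236), (2, 238), (3, 235), (3, 237), (4, 234), (4, 236), (5, 232),
  (5, 233), (5, 235), (6, 225), (6, 234), (7, 234), (14, 233)]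

theorem h : HOK chevE8 239 (P.map Prod.fst) M w V bs cs where
  zlt := by decide +kernel
  gam := by unfold isNil; rw [Fc.ct_eq, Fc.ng_eq]; decide +kernel
  blk := by unfold isNil; rw [Fc.ct_eq, Fc.ng_eq]; decide +kernel
  act := by unfold isOne isNil; rw [Fc.ct_eq, Fc.ng_eq]; decide +kernel
  pair := by unfold isLe; rw [Fc.ct_eq, Fc.ng_eq]; decide +kernel
  wW := by decide +kernel
  V1 := by decide +kernel
  V2 := by decide +kernel
  bc := by unfold isOne; rw [Fc.ct_eq, Fc.ng_eq]; decide +kernel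
  bc' := by unfold isNil; rw [Fc.ct_eq, Fc.ng_eq]; decide +kernel

theorem h' : HOK chevE8 0 (P.map Prod.snd) M' w V' bs' cs' where
  zlt := by decide +kernel
  gam := by unfold isNil; rw [Fc.ct_eq, Fc.ng_eq]; decide +kernel
  blk := by unfold isNil; rw [Fc.ct_eq, Fc.ng_eq]; decide +kernel
  act := by unfold isOne isNil; rw [Fc.ct_eq, Fc.ng_eq]; decide +kernel
  pair := by unfold isLe; rw [Fc.ct_eq, Fc.ng_eq]; decide +kernel
  wW := by decide +kernel
  V1 := by decide +kernel
  V2 := by decide +kernel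
  bc := by unfold isOne; rw [Fc.ct_eq, Fc.ng_eq]; decide +kernel
  bc' := by unfold isNil; rw [Fc.ct_eq, Fc.ng_eq]; decide +kernel

theorem tab : TOK chevE8 r (1) wp B 239 0 P M M' w V V' bs cs bs' cs' steps where
  he := by decide
  ra := by decide +kernel
  rb := Fc.rtb_of (by decide +kernel)
  rc := Fc.rtc_of (by decide +kernel)
  rn := by rw [Fc.ng_eq]; decide +kernel
  hw := by decide +kernel
  hne := by decide +kernel
  B0 := by decide +kernel
  hB := by decide +kernel
  hBk := by decide +kernel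
  h := h
  h' := h'
  hP := by unfold isOne; rw [Fc.ct_eq, Fc.ng_eq]; decide +kernel
  hg := by delta GenOK gall gstep; rw [Fc.ct_eq, Fc.ng_eq]; decide +kernel
  hN := by decide

end Cfsg.Agent.H452.HeisC.TE8_3
end

-- part: H452/FprTabE6_5
section
/-!
# Table: `E6`, `SL_5(2)`
-/

set_option autoImplicit false
set_option maxRecDepth 100000

namespace Cfsg.Agent.H452.HeisC.TE6_5

open Cfsg.Lie Cfsg.Agent.TitsThree.KExcRT Cfsg.Agent.H441.FPR

def r : Fin (2 + 3) → Fin (2 + 3) → ℕ := ![![0, 11, 12, 13, 14], ![60, 0, 36, 38, 41], ![59, 35, 0, 37, 40],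
  ![58, 33, 34, 0, 39], ![57, 30, 31, 32, 0]]
def wp : List (Fin (2 + 3) × Fin (2 + 3)) := [(4, 2), (0, 3), (3, 1), (2, 0), (1, 4)]
def B : Fin (2 + 4) → Matrix (Fin (2 + 3)) (Fin (2 + 3)) (ZMod 2) := ![!![1, 1, 0, 1, 1; 0, 1, 0, 0, 1; 1,
  0, 1, 0, 0; 0, 1, 0, 1, 1; 1, 0, 1, 0, 1], !![0, 1, 1, 0, 0; 1, 1, 1, 0, 0; 0, 1, 1, 1, 1; 1, 0, 1, 1, 1;
  1, 1, 0, 1, 0], !![1, 0, 0, 1, 1; 1, 1, 1, 1, 1; 1, 1, 1, 1, 0; 0, 1, 1, 1, 0; 0, 0, 1, 1, 1], !![1, 1, 0,
  1, 0; 1, 1, 0, 1, 1; 1, 1, 1, 0, 0; 0, 1, 1, 1, 1; 1, 0, 1, 1, 1], !![0, 1, 1, 1, 0; 1, 1, 0, 0, 1; 1, 1,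
  1, 0, 1; 1, 1, 1, 1, 1; 1, 1, 1, 1, 0], !![1, 1, 0, 1, 1; 0, 1, 0, 0, 1; 1, 0, 1, 0, 0; 0, 1, 0, 1, 1; 1,
  0, 1, 0, 1]]
def P : List (ℕ × ℕ) := [(46, 1), (47, 2), (48, 3), (49, 4), (50, 5), (51, 6), (52, 7), (53, 8), (54, 9),
  (55, 10), (61, 16), (62, 17), (63, 18), (64, 19), (65, 20), (66, 21), (67, 22), (68, 23), (69, 24), (70,
  25)]
def M : List (ℕ × List (ℕ × ℕ)) := [(13, [(61, 46), (64, 48), (65, 49), (67, 51), (68, 52), (70, 55)]), (31,
  [(48, 46), (53, 50), (55, 52), (64, 61), (66, 63), (70, 68)]), (33, [(49, 47), (52, 50), (55, 53), (63,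
  61), (66, 64), (69, 67)]), (41, [(46, 49), (50, 54), (51, 55), (61, 65), (62, 66), (67, 70)]), (59, [(46,
  62), (47, 64), (49, 66), (50, 67), (52, 69), (54, 70)])]
def M' : List (ℕ × List (ℕ × ℕ)) := [(13, [(16, 1), (19, 3), (20, 4), (22, 6), (23, 7), (25, 10)]), (31,
  [(3, 1), (8, 5), (10, 7), (19, 16), (21, 18), (25, 23)]), (33, [(4, 2), (7, 5), (10, 8), (18, 16), (21,
  19), (24, 22)]), (41, [(1, 4), (5, 9), (6, 10), (16, 20), (17, 21), (22, 25)]), (59, [(1, 17), (2, 19),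
  (4, 21), (5, 22), (7, 24), (9, 25)])]
def w : List ℕ := [31, 13, 33, 59, 41]
def V : List (ℕ × List ℕ) := [(46, [48]), (47, [49, 62]), (48, [63, 64]), (49, [65]), (50, [53]), (51, [54,
  67]), (52, [68]), (53, [53, 55, 68]), (54, [50, 54, 69]), (55, [51, 55]), (61, [48, 63]), (62, [46, 49,
  65]), (63, [47, 66]), (64, [47, 64]), (65, [48, 61, 65]), (66, [62, 66]), (67, [54, 67, 69]), (68, [51,
  55, 68, 70]), (69, [52, 53, 69]), (70, [54, 70])]
def V' : List (ℕ × List ℕ) := [(1, [3]), (2, [4, 17]), (3, [18, 19]), (4, [20]), (5, [8]), (6, [9, 22]), (7,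
  [23]), (8, [8, 10, 23]), (9, [5, 9, 24]), (10, [6, 10]), (16, [3, 18]), (17, [1, 4, 20]), (18, [2, 21]),
  (19, [2, 19]), (20, [3, 16, 20]), (21, [17, 21]), (22, [9, 22, 24]), (23, [6, 10, 23, 25]), (24, [7, 8,
  24]), (25, [9, 25])]
def bs : Fin 11 → ℕ := ![46, 47, 48, 49, 50, 51, 52, 53, 54, 55, 61]
def cs : Fin 11 → ℕ := ![70, 69, 68, 67, 66, 65, 64, 63, 62, 61, 55]
def bs' : Fin 11 → ℕ := ![1, 2, 3, 4, 5, 6, 7, 8, 9, 10, 16]
def cs' : Fin 11 → ℕ := ![25, 24, 23, 22, 21, 20, 19, 18, 17, 16, 10]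
def steps : List (ℕ × ℕ) := [(1, 69), (2, 66), (2, 68), (2, 70), (3, 67), (3, 69), (4, 68), (5, 55), (5,
  69), (16, 66)]

theorem h : HOK chevE6 71 (P.map Prod.fst) M w V bs cs where
  zlt := by decide +kernel
  gam := by unfold isNil; rw [Fc.ct_eq, Fc.ng_eq]; decide +kernel
  blk := by unfold isNil; rw [Fc.ct_eq, Fc.ng_eq]; decide +kernel
  act := by unfold isOne isNil; rw [Fc.ct_eq, Fc.ng_eq]; decide +kernel
  pair := by unfold isLe; rw [Fc.ct_eq, Fc.ng_eq]; decide +kernel
  wW := by decide +kernel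
  V1 := by decide +kernel
  V2 := by decide +kernel
  bc := by unfold isOne; rw [Fc.ct_eq, Fc.ng_eq]; decide +kernel
  bc' := by unfold isNil; rw [Fc.ct_eq, Fc.ng_eq]; decide +kernel

theorem h' : HOK chevE6 0 (P.map Prod.snd) M' w V' bs' cs' where
  zlt := by decide +kernel
  gam := by unfold isNil; rw [Fc.ct_eq, Fc.ng_eq]; decide +kernel
  blk := by unfold isNil; rw [Fc.ct_eq, Fc.ng_eq]; decide +kernel
  act := by unfold isOne isNil; rw [Fc.ct_eq, Fc.ng_eq]; decide +kernel
  pair := by unfold isLe; rw [Fc.ct_eq, Fc.ng_eq]; decide +kernel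
  wW := by decide +kernel
  V1 := by decide +kernel
  V2 := by decide +kernel
  bc := by unfold isOne; rw [Fc.ct_eq, Fc.ng_eq]; decide +kernel
  bc' := by unfold isNil; rw [Fc.ct_eq, Fc.ng_eq]; decide +kernel

theorem tab : TOK chevE6 r (1) wp B 71 0 P M M' w V V' bs cs bs' cs' steps where
  he := by decide
  ra := by decide +kernel
  rb := Fc.rtb_of (by decide +kernel)
  rc := Fc.rtc_of (by decide +kernel)
  rn := by rw [Fc.ng_eq]; decide +kernel
  hw := by decide +kernel
  hne := by decide +kernel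
  B0 := by decide +kernel
  hB := by decide +kernel
  hBk := by decide +kernel
  h := h
  h' := h'
  hP := by unfold isOne; rw [Fc.ct_eq, Fc.ng_eq]; decide +kernel
  hg := by delta GenOK gall gstep; rw [Fc.ct_eq, Fc.ng_eq]; decide +kernel
  hN := by decide

end Cfsg.Agent.H452.HeisC.TE6_5
end

-- part: H452/FprTabE7_5
section
/-!
# Table: `E7`, `SL_5(2)`
-/

set_option autoImplicit false
set_option maxRecDepth 100000

namespace Cfsg.Agent.H452.HeisC.TE7_5

open Cfsg.Lie Cfsg.Agent.TitsThree.KExcRT Cfsg.Agent.H441.FPR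

def r : Fin (2 + 3) → Fin (2 + 3) → ℕ := ![![0, 33, 34, 36, 39], ![92, 0, 64, 67, 71], ![91, 61, 0, 66, 70],
  ![89, 58, 59, 0, 69], ![86, 54, 55, 56, 0]]
def wp : List (Fin (2 + 3) × Fin (2 + 3)) := [(4, 2), (0, 3), (3, 1), (2, 0), (1, 4)]
def B : Fin (2 + 4) → Matrix (Fin (2 + 3)) (Fin (2 + 3)) (ZMod 2) := ![!![1, 1, 0, 1, 1; 0, 1, 0, 0, 1; 1,
  0, 1, 0, 0; 0, 1, 0, 1, 1; 1, 0, 1, 0, 1], !![0, 1, 1, 0, 0; 1, 1, 1, 0, 0; 0, 1, 1, 1, 1; 1, 0, 1, 1, 1;
  1, 1, 0, 1, 0], !![1, 0, 0, 1, 1; 1, 1, 1, 1, 1; 1, 1, 1, 1, 0; 0, 1, 1, 1, 0; 0, 0, 1, 1, 1], !![1, 1, 0,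
  1, 0; 1, 1, 0, 1, 1; 1, 1, 1, 0, 0; 0, 1, 1, 1, 1; 1, 0, 1, 1, 1], !![0, 1, 1, 1, 0; 1, 1, 0, 0, 1; 1, 1,
  1, 0, 1; 1, 1, 1, 1, 1; 1, 1, 1, 1, 0], !![1, 1, 0, 1, 1; 0, 1, 0, 0, 1; 1, 0, 1, 0, 0; 0, 1, 0, 1, 1; 1,
  0, 1, 0, 1]]
def P : List (ℕ × ℕ) := [(93, 1), (94, 2), (95, 3), (96, 4), (97, 5), (99, 7), (100, 8), (101, 9), (102,
  10), (103, 11), (104, 12), (105, 13), (106, 14), (107, 15), (108, 16), (109, 17), (110, 18), (111, 19),
  (112, 20), (113, 21), (114, 22), (115, 23), (116, 24), (117, 25), (118, 26), (120, 28), (121, 29), (122,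
  30), (123, 31), (124, 32)]
def M : List (ℕ × List (ℕ × ℕ)) := [(36, [(105, 93), (111, 94), (116, 96), (117, 97), (120, 100), (121,
  101), (123, 106), (124, 112)]), (55, [(96, 94), (103, 99), (106, 101), (107, 102), (115, 110), (116, 111),
  (118, 114), (123, 121)]), (58, [(97, 95), (101, 99), (106, 103), (108, 105), (112, 109), (114, 111), (118,
  116), (122, 120)]), (71, [(94, 97), (99, 104), (100, 106), (102, 108), (109, 115), (111, 117), (113, 118),
  (120, 123)]), (91, [(93, 107), (94, 113), (95, 116), (97, 118), (99, 120), (101, 122), (104, 123), (110,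
  124)])]
def M' : List (ℕ × List (ℕ × ℕ)) := [(36, [(13, 1), (19, 2), (24, 4), (25, 5), (28, 8), (29, 9), (31, 14),
  (32, 20)]), (55, [(4, 2), (11, 7), (14, 9), (15, 10), (23, 18), (24, 19), (26, 22), (31, 29)]), (58, [(5,
  3), (9, 7), (14, 11), (16, 13), (20, 17), (22, 19), (26, 24), (30, 28)]), (71, [(2, 5), (7, 12), (8, 14),
  (10, 16), (17, 23), (19, 25), (21, 26), (28, 31)]), (91, [(1, 15), (2, 21), (3, 24), (5, 26), (7, 28), (9,
  30), (12, 31), (18, 32)])]
def w : List ℕ := [55, 36, 58, 91, 71]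
def V : List (ℕ × List ℕ) := [(93, [105]), (94, [96]), (95, [97, 113]), (96, [114, 116]), (97, [117]), (99,
  [103]), (100, [104, 120]), (101, [121]), (102, [107]), (103, [103, 106, 121]), (104, [99, 104, 122]),
  (105, [105, 108]), (106, [100, 106]), (107, [93, 107]), (108, [102, 108]), (109, [112]), (110, [115]),
  (111, [96, 114]), (112, [124]), (113, [94, 97, 117]), (114, [95, 118]), (115, [109, 115]), (116, [95,
  116]), (117, [96, 111, 117]), (118, [113, 118]), (120, [104, 120, 122]), (121, [100, 106, 121, 123]),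
  (122, [101, 103, 122]), (123, [104, 123]), (124, [110, 124])]
def V' : List (ℕ × List ℕ) := [(1, [13]), (2, [4]), (3, [5, 21]), (4, [22, 24]), (5, [25]), (7, [11]), (8,
  [12, 28]), (9, [29]), (10, [15]), (11, [11, 14, 29]), (12, [7, 12, 30]), (13, [13, 16]), (14, [8, 14]),
  (15, [1, 15]), (16, [10, 16]), (17, [20]), (18, [23]), (19, [4, 22]), (20, [32]), (21, [2, 5, 25]), (22,
  [3, 26]), (23, [17, 23]), (24, [3, 24]), (25, [4, 19, 25]), (26, [21, 26]), (28, [12, 28, 30]), (29, [8,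
  14, 29, 31]), (30, [9, 11, 30]), (31, [12, 31]), (32, [18, 32])]
def bs : Fin 11 → ℕ := ![93, 94, 95, 96, 97, 99, 100, 101, 102, 103, 104]
def cs : Fin 11 → ℕ := ![124, 123, 122, 121, 120, 118, 117, 116, 115, 114, 113]
def bs' : Fin 11 → ℕ := ![1, 2, 3, 4, 5, 7, 8, 9, 10, 11, 12]
def cs' : Fin 11 → ℕ := ![32, 31, 30, 29, 28, 26, 25, 24, 23, 22, 21]
def steps : List (ℕ × ℕ) := [(1, 123), (2, 122), (2, 124), (3, 118), (3, 121), (3, 123), (4, 120), (4, 122),
  (5, 121), (7, 122), (9, 115), (10, 116)]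

theorem h : HOK chevE7 125 (P.map Prod.fst) M w V bs cs where
  zlt := by decide +kernel
  gam := by unfold isNil; rw [Fc.ct_eq, Fc.ng_eq]; decide +kernel
  blk := by unfold isNil; rw [Fc.ct_eq, Fc.ng_eq]; decide +kernel
  act := by unfold isOne isNil; rw [Fc.ct_eq, Fc.ng_eq]; decide +kernel
  pair := by unfold isLe; rw [Fc.ct_eq, Fc.ng_eq]; decide +kernel
  wW := by decide +kernel
  V1 := by decide +kernel
  V2 := by decide +kernel
  bc := by unfold isOne; rw [Fc.ct_eq, Fc.ng_eq]; decide +kernel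
  bc' := by unfold isNil; rw [Fc.ct_eq, Fc.ng_eq]; decide +kernel

theorem h' : HOK chevE7 0 (P.map Prod.snd) M' w V' bs' cs' where
  zlt := by decide +kernel
  gam := by unfold isNil; rw [Fc.ct_eq, Fc.ng_eq]; decide +kernel
  blk := by unfold isNil; rw [Fc.ct_eq, Fc.ng_eq]; decide +kernel
  act := by unfold isOne isNil; rw [Fc.ct_eq, Fc.ng_eq]; decide +kernel
  pair := by unfold isLe; rw [Fc.ct_eq, Fc.ng_eq]; decide +kernel
  wW := by decide +kernel
  V1 := by decide +kernel
  V2 := by decide +kernel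
  bc := by unfold isOne; rw [Fc.ct_eq, Fc.ng_eq]; decide +kernel
  bc' := by unfold isNil; rw [Fc.ct_eq, Fc.ng_eq]; decide +kernel

theorem tab : TOK chevE7 r (1) wp B 125 0 P M M' w V V' bs cs bs' cs' steps where
  he := by decide
  ra := by decide +kernel
  rb := Fc.rtb_of (by decide +kernel)
  rc := Fc.rtc_of (by decide +kernel)
  rn := by rw [Fc.ng_eq]; decide +kernel
  hw := by decide +kernel
  hne := by decide +kernel
  B0 := by decide +kernel
  hB := by decide +kernel
  hBk := by decide +kernel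
  h := h
  h' := h'
  hP := by unfold isOne; rw [Fc.ct_eq, Fc.ng_eq]; decide +kernel
  hg := by delta GenOK gall gstep; rw [Fc.ct_eq, Fc.ng_eq]; decide +kernel
  hN := by decide

end Cfsg.Agent.H452.HeisC.TE7_5
end

-- part: H452/FprTabE8_5
section
/-!
# Table: `E8`, `SL_5(2)`
-/

set_option autoImplicit false
set_option maxRecDepth 100000

namespace Cfsg.Agent.H452.HeisC.TE8_5

open Cfsg.Lie Cfsg.Agent.TitsThree.KExcRT Cfsg.Agent.H441.FPR

def r : Fin (2 + 3) → Fin (2 + 3) → ℕ := ![![0, 13, 25, 32, 35], ![226, 0, 163, 165, 167], ![214, 76, 0,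
  131, 133], ![207, 74, 108, 0, 124], ![204, 72, 106, 115, 0]]
def wp : List (Fin (2 + 3) × Fin (2 + 3)) := [(4, 2), (0, 3), (3, 1), (2, 0), (1, 4)]
def B : Fin (2 + 4) → Matrix (Fin (2 + 3)) (Fin (2 + 3)) (ZMod 2) := ![!![1, 1, 0, 1, 1; 0, 1, 0, 0, 1; 1,
  0, 1, 0, 0; 0, 1, 0, 1, 1; 1, 0, 1, 0, 1], !![0, 1, 1, 0, 0; 1, 1, 1, 0, 0; 0, 1, 1, 1, 1; 1, 0, 1, 1, 1;
  1, 1, 0, 1, 0], !![1, 0, 0, 1, 1; 1, 1, 1, 1, 1; 1, 1, 1, 1, 0; 0, 1, 1, 1, 0; 0, 0, 1, 1, 1], !![1, 1, 0,
  1, 0; 1, 1, 0, 1, 1; 1, 1, 1, 0, 0; 0, 1, 1, 1, 1; 1, 0, 1, 1, 1], !![0, 1, 1, 1, 0; 1, 1, 0, 0, 1; 1, 1,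
  1, 0, 1; 1, 1, 1, 1, 1; 1, 1, 1, 1, 0], !![1, 1, 0, 1, 1; 0, 1, 0, 0, 1; 1, 0, 1, 0, 0; 0, 1, 0, 1, 1; 1,
  0, 1, 0, 1]]
def P : List (ℕ × ℕ) := [(120, 1), (122, 2), (125, 3), (129, 4), (134, 5), (140, 6), (146, 7), (151, 8),
  (155, 9), (158, 10), (160, 11), (161, 12), (168, 14), (173, 15), (180, 17), (183, 19), (187, 21), (190,
  22), (192, 23), (193, 24), (196, 26), (199, 28), (201, 30), (202, 31), (203, 33), (206, 36), (208, 37),
  (209, 38), (211, 40), (213, 43), (215, 46), (216, 47), (217, 49), (218, 52), (220, 56), (222, 59), (224,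
  66), (225, 71), (227, 78), (228, 79), (229, 81), (230, 84), (231, 88), (232, 93), (233, 99), (234, 105),
  (235, 110), (236, 114), (237, 117), (238, 119)]
def M : List (ℕ × List (ℕ × ℕ)) := [(32, [(208, 120), (209, 122), (213, 129), (217, 134), (222, 140), (225,
  158), (229, 168), (233, 180), (234, 190), (235, 196), (237, 201), (238, 202)]), (74, [(168, 125), (180,
  146), (190, 151), (196, 155), (201, 160), (202, 161), (227, 208), (228, 209), (230, 213), (231, 217),
  (232, 222), (236, 225)]), (106, [(134, 120), (161, 151), (183, 173), (199, 187), (202, 190), (203, 192),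
  (216, 206), (217, 208), (218, 211), (224, 220), (231, 227), (238, 234)]), (167, [(120, 168), (146, 183),
  (151, 193), (155, 199), (158, 202), (160, 203), (206, 228), (208, 229), (211, 230), (215, 231), (220,
  232), (225, 238)]), (214, [(120, 215), (122, 216), (125, 217), (129, 218), (140, 224), (151, 225), (168,
  231), (173, 233), (187, 235), (190, 236), (192, 237), (193, 238)])]
def M' : List (ℕ × List (ℕ × ℕ)) := [(32, [(37, 1), (38, 2), (43, 4), (49, 5), (59, 6), (71, 10), (81, 14),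
  (99, 17), (105, 22), (110, 26), (117, 30), (119, 31)]), (74, [(14, 3), (17, 7), (22, 8), (26, 9), (30,
  11), (31, 12), (78, 37), (79, 38), (84, 43), (88, 49), (93, 59), (114, 71)]), (106, [(5, 1), (12, 8), (19,
  15), (28, 21), (31, 22), (33, 23), (47, 36), (49, 37), (52, 40), (66, 56), (88, 78), (119, 105)]), (167,
  [(1, 14), (7, 19), (8, 24), (9, 28), (10, 31), (11, 33), (36, 79), (37, 81), (40, 84), (46, 88), (56, 93),
  (71, 119)]), (214, [(1, 46), (2, 47), (3, 49), (4, 52), (6, 66), (8, 71), (14, 88), (15, 99), (21, 110),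
  (22, 114), (23, 117), (24, 119)])]
def w : List ℕ := [106, 32, 74, 214, 167]
def V : List (ℕ × List ℕ) := [(120, [134]), (122, [209]), (125, [168, 215]), (129, [213]), (134, [217,
  227]), (140, [222]), (146, [180]), (151, [161]), (155, [196]), (158, [193, 225]), (160, [201]), (161,
  [161, 202, 234]), (168, [229]), (173, [183]), (180, [233]), (183, [146, 183]), (187, [199]), (190, [234]),
  (192, [203]), (193, [151, 193, 236]), (196, [235]), (199, [155, 199]), (201, [237]), (202, [158, 202]),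
  (203, [160, 203]), (206, [216]), (208, [134, 227]), (209, [209, 228]), (211, [218]), (213, [213, 230]),
  (215, [120, 168, 229]), (216, [122, 216]), (217, [125, 217]), (218, [129, 218]), (220, [224]), (222, [222,
  232]), (224, [140, 224]), (225, [193, 225, 236]), (227, [125, 231]), (228, [206, 228]), (229, [134, 208,
  229]), (230, [211, 230]), (231, [215, 231]), (232, [220, 232]), (233, [173, 233]), (234, [158, 202, 234,
  238]), (235, [187, 235]), (236, [161, 190, 236]), (237, [192, 237]), (238, [193, 238])]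
def V' : List (ℕ × List ℕ) := [(1, [5]), (2, [38]), (3, [14, 46]), (4, [43]), (5, [49, 78]), (6, [59]), (7,
  [17]), (8, [12]), (9, [26]), (10, [24, 71]), (11, [30]), (12, [12, 31, 105]), (14, [81]), (15, [19]), (17,
  [99]), (19, [7, 19]), (21, [28]), (22, [105]), (23, [33]), (24, [8, 24, 114]), (26, [110]), (28, [9, 28]),
  (30, [117]), (31, [10, 31]), (33, [11, 33]), (36, [47]), (37, [5, 78]), (38, [38, 79]), (40, [52]), (43,
  [43, 84]), (46, [1, 14, 81]), (47, [2, 47]), (49, [3, 49]), (52, [4, 52]), (56, [66]), (59, [59, 93]),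
  (66, [6, 66]), (71, [24, 71, 114]), (78, [3, 88]), (79, [36, 79]), (81, [5, 37, 81]), (84, [40, 84]), (88,
  [46, 88]), (93, [56, 93]), (99, [15, 99]), (105, [10, 31, 105, 119]), (110, [21, 110]), (114, [12, 22,
  114]), (117, [23, 117]), (119, [24, 119])]
def bs : Fin 11 → ℕ := ![120, 122, 125, 129, 134, 140, 146, 151, 155, 158, 160]
def cs : Fin 11 → ℕ := ![238, 237, 236, 235, 234, 233, 232, 231, 230, 229, 228]
def bs' : Fin 11 → ℕ := ![1, 2, 3, 4, 5, 6, 7, 8, 9, 10, 11]
def cs' : Fin 11 → ℕ := ![119, 117, 114, 110, 105, 99, 93, 88, 84, 81, 79]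
def steps : List (ℕ × ℕ) := [(1, 237), (2, 236), (2, 238), (3, 235), (3, 237), (4, 234), (4, 236), (5, 232),
  (5, 233), (5, 235), (6, 225), (6, 234), (7, 234), (14, 233)]

theorem h : HOK chevE8 239 (P.map Prod.fst) M w V bs cs where
  zlt := by decide +kernel
  gam := by unfold isNil; rw [Fc.ct_eq, Fc.ng_eq]; decide +kernel
  blk := by unfold isNil; rw [Fc.ct_eq, Fc.ng_eq]; decide +kernel
  act := by unfold isOne isNil; rw [Fc.ct_eq, Fc.ng_eq]; decide +kernel
  pair := by unfold isLe; rw [Fc.ct_eq, Fc.ng_eq]; decide +kernel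
  wW := by decide +kernel
  V1 := by decide +kernel
  V2 := by decide +kernel
  bc := by unfold isOne; rw [Fc.ct_eq, Fc.ng_eq]; decide +kernel
  bc' := by unfold isNil; rw [Fc.ct_eq, Fc.ng_eq]; decide +kernel

theorem h' : HOK chevE8 0 (P.map Prod.snd) M' w V' bs' cs' where
  zlt := by decide +kernel
  gam := by unfold isNil; rw [Fc.ct_eq, Fc.ng_eq]; decide +kernel
  blk := by unfold isNil; rw [Fc.ct_eq, Fc.ng_eq]; decide +kernel
  act := by unfold isOne isNil; rw [Fc.ct_eq, Fc.ng_eq]; decide +kernel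
  pair := by unfold isLe; rw [Fc.ct_eq, Fc.ng_eq]; decide +kernel
  wW := by decide +kernel
  V1 := by decide +kernel
  V2 := by decide +kernel
  bc := by unfold isOne; rw [Fc.ct_eq, Fc.ng_eq]; decide +kernel
  bc' := by unfold isNil; rw [Fc.ct_eq, Fc.ng_eq]; decide +kernel

theorem tab : TOK chevE8 r (-1) wp B 239 0 P M M' w V V' bs cs bs' cs' steps where
  he := by decide
  ra := by decide +kernel
  rb := Fc.rtb_of (by decide +kernel)
  rc := Fc.rtc_of (by decide +kernel)
  rn := by rw [Fc.ng_eq]; decide +kernel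
  hw := by decide +kernel
  hne := by decide +kernel
  B0 := by decide +kernel
  hB := by decide +kernel
  hBk := by decide +kernel
  h := h
  h' := h'
  hP := by unfold isOne; rw [Fc.ct_eq, Fc.ng_eq]; decide +kernel
  hg := by delta GenOK gall gstep; rw [Fc.ct_eq, Fc.ng_eq]; decide +kernel
  hN := by decide

end Cfsg.Agent.H452.HeisC.TE8_5
end

-- part: H452/FprExcM
section
/-!
# Mersenne primes: `E₆(q)`, `E₇(q)`, `E₈(q)`, `q` even
-/

set_option autoImplicit false

namespace Cfsg.Agent.H452.HeisC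

open Cfsg.Lie Cfsg.Agent.H409

universe u

/-- the elements of order `3` -/
def X3 : Matrix.SpecialLinearGroup (Fin 3) (ZMod 2) := ⟨!![1, 0, 0; 0, 1, 1; 0, 1, 0], by decide +kernel⟩

theorem X3_pow : X3 ^ 3 = 1 := by
  apply Subtype.ext
  change (!![1, 0, 0; 0, 1, 1; 0, 1, 0] : Matrix (Fin 3) (Fin 3) (ZMod 2)) ^ 3 = 1
  decide +kernel

theorem wp6_eq : tw (ZMod 2) TE6_3.wp = ⟨!![1, 1, 0; 0, 1, 1; 1, 1, 1], by decide⟩ := by
  apply Subtype.ext
  decide +kernel

theorem X3_conj : X3 * tw (ZMod 2) TE6_3.wp = tw (ZMod 2) TE6_3.wp ^ 2 * X3 := by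
  rw [wp6_eq]
  apply Subtype.ext
  change (!![1, 0, 0; 0, 1, 1; 0, 1, 0] : Matrix (Fin 3) (Fin 3) (ZMod 2)) * !![1, 1, 0; 0, 1, 1; 1, 1, 1] =
    !![1, 1, 0; 0, 1, 1; 1, 1, 1] ^ 2 * !![1, 0, 0; 0, 1, 1; 0, 1, 0]
  decide +kernel

section

variable (K : Type u) [Field K] [Finite K] [CharP K 2]

theorem row_E6_three : FprRow 4 1 3 ↥(chevE6.group K) :=
  TE6_3.tab.row_three (K := K) Cfsg.Agent.Nodes.KindE.isType6 X3_pow X3_conj

theorem row_E6_seven : FprRow 8 1 7 ↥(chevE6.group K) :=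
  TE6_3.tab.row (K := K) Cfsg.Agent.Nodes.KindE.isType6 (p := 7) (by norm_num) (by norm_num)

theorem row_E6_thirtyone : FprRow 32 1 31 ↥(chevE6.group K) :=
  TE6_5.tab.row (K := K) Cfsg.Agent.Nodes.KindE.isType6 (p := 31) (by norm_num) (by norm_num)

theorem row_E7_three : FprRow 4 1 3 ↥(chevE7.group K) :=
  TE7_3.tab.row_three (K := K) Cfsg.Agent.Nodes.KindE.isType7 X3_pow X3_conj

theorem row_E7_seven : FprRow 8 1 7 ↥(chevE7.group K) :=
  TE7_3.tab.row (K := K) Cfsg.Agent.Nodes.KindE.isType7 (p := 7) (by norm_num) (by norm_num)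

theorem row_E7_thirtyone : FprRow 32 1 31 ↥(chevE7.group K) :=
  TE7_5.tab.row (K := K) Cfsg.Agent.Nodes.KindE.isType7 (p := 31) (by norm_num) (by norm_num)

theorem row_E8_three : FprRow 4 1 3 ↥(chevE8.group K) :=
  TE8_3.tab.row_three (K := K) Cfsg.Agent.Nodes.KindE.isType8 X3_pow X3_conj

theorem row_E8_seven : FprRow 8 1 7 ↥(chevE8.group K) :=
  TE8_3.tab.row (K := K) Cfsg.Agent.Nodes.KindE.isType8 (p := 7) (by norm_num) (by norm_num)

theorem row_E8_thirtyone : FprRow 32 1 31 ↥(chevE8.group K) :=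
  TE8_5.tab.row (K := K) Cfsg.Agent.Nodes.KindE.isType8 (p := 31) (by norm_num) (by norm_num)

end

end Cfsg.Agent.H452.HeisC
end
end

-- part: H444/FprSporAll
section
set_option linter.all false
open scoped Cfsg.Agent.FastGrp

-- part: H715/Fpr/J1
section
/-!
# Fixed point ratios: `J1` (helper715)
-/

set_option autoImplicit false

namespace Cfsg.Agent.H715.Fpr.J1

open Subgroup Cfsg.Agent.H409 Cfsg.Agent.OrdDiv Cfsg.Agent.H940.Eng Cfsg.Agent.H940.Eng.D Cfsg.Agent.H305.SepJ1

instance instFinG : Finite G := fin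
instance instSimpleG : IsSimpleGroup G := simple

theorem cn3 {R : Subgroup G} (hR : Nat.card R = 3) : Nat.card (normalizer (R : Set G)) ≤ 60 := by
  have h1 : Nat.card (centralizer (R : Set G)) = 30 := by
    obtain ⟨x, hx, rfl⟩ := eq_zpowers Nat.prime_three hR
    rw [cent_zpowers, local'.cent3 x hx]
  have := card_normalizer_le Nat.prime_three hR
  rw [h1] at this
  exact this

theorem acts7 {p : ℕ} (hp : isPrimeB p = true) (h : (42 % p ^ 1 == 0 && 7 % p ^ 1 != 0) = true) : Acts p 7 G :=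
  acts_of card hp (by decide +kernel) (by decide +kernel) (fun _ hR => cn7 hR) 1 h

theorem acts11 {p : ℕ} (hp : isPrimeB p = true) (h : (110 % p ^ 1 == 0 && 11 % p ^ 1 != 0) = true) : Acts p 11 G :=
  acts_of card hp (by decide +kernel) (by decide +kernel) (fun _ hR => cn11 hR) 1 h

theorem row2 (B : Base) : FprRow 3 1 2 G :=
  row_of_acts (ctx B) (by decide +kernel) (by decide +kernel) (acts7 (by decide +kernel) (by decide +kernel))
    (by decide +kernel) (acts11 (by decide +kernel) (by decide +kernel)) 0 (by decide +kernel)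

theorem row3 (B : Base) : FprRow 4 1 3 G :=
  row_of_norm (ctx B) (by decide +kernel) (fun _ hR => cn3 hR) 0 (by decide +kernel)

theorem row5 (B : Base) : FprRow 6 1 5 G :=
  row_of_norm (ctx B) (by decide +kernel) (fun _ hR => (cn5 hR).2.le) 0 (by decide +kernel)

theorem row7 (B : Base) : FprRow 8 1 7 G :=
  row_of_norm (ctx B) (by decide +kernel) (fun _ hR => (cn7 hR).2.le) 0 (by decide +kernel)

theorem row11 (B : Base) : FprRow 12 1 11 G :=
  row_of_norm (ctx B) (by decide +kernel) (fun _ hR => (cn11 hR).2.le) 0 (by decide +kernel)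

theorem row19 (B : Base) : FprRow 20 1 19 G :=
  row_of_norm (ctx B) (by decide +kernel) (fun _ hR => (cn19 hR).2.le) 0 (by decide +kernel)

/-- **the rows of `J1`** -/
theorem row (B : Base) {p : ℕ} (hp : p.Prime) (hd : p ∣ Nat.card G) : FprRow (p + 1) 1 p G := by
  have h1 := valid_mem v_j1 hp (by rw [← card]; exact hd)
  simp only [l_j1, List.map_cons, List.map_nil, List.mem_cons, List.not_mem_nil, or_false] at h1
  rcases h1 with rfl | rfl | rfl | rfl | rfl | rfl
  · exact row2 B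
  · exact row3 B
  · exact row5 B
  · exact row7 B
  · exact row11 B
  · exact row19 B

universe u in
theorem rowIso (B : Base) {S : Type u} [Group S] (h : Cfsg.Spor.IsoJ1 S) {p : ℕ} (hp : p.Prime)
    (hd : p ∣ Nat.card S) : FprRow (p + 1) 1 p S := by
  obtain ⟨e⟩ := h
  exact (row B hp (by rw [← Nat.card_congr e.toEquiv]; exact hd)).of_mulEquiv hp (by exact e.symm)

end Cfsg.Agent.H715.Fpr.J1
end

-- part: H715/Fpr/J4
section
/-!
# Fixed point ratios: `J4` (helper715)
-/

set_option autoImplicit false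

namespace Cfsg.Agent.H715.Fpr.J4

open Subgroup Cfsg.Agent.H409 Cfsg.Agent.OrdDiv Cfsg.Agent.H940.Eng Cfsg.Agent.H940.Eng.D Cfsg.Agent.H940.RowJ4
open Cfsg.Agent.H859

instance instFinG : Finite G := fin
instance instSimpleG : IsSimpleGroup G := simple

theorem row2 (B : Base) : FprRow 3 1 2 G :=
  row_of_act2 (ctx B) (q := 37) (N := 444) (by decide +kernel) (by decide +kernel) (by decide +kernel)
    (acts_of card (by decide +kernel) (by decide +kernel) (by decide +kernel) (fun _ hR => BigNum.data37 hR) 2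
      (by decide +kernel))
    (fun _ hR => (BigNum.data37 hR).2.le) 39 0 lb_zero 0 (by decide +kernel)

theorem row3 (B : Base) : FprRow 4 1 3 G :=
  row_of_act2 (ctx B) (q := 37) (N := 444) (by decide +kernel) (by decide +kernel) (by decide +kernel)
    (acts_of card (by decide +kernel) (by decide +kernel) (by decide +kernel) (fun _ hR => BigNum.data37 hR) 1
      (by decide +kernel))
    (fun _ hR => (BigNum.data37 hR).2.le) 53 0 lb_zero 0 (by decide +kernel)

theorem row5 (B : Base) : FprRow 6 1 5 G :=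
  row_of_act2 (ctx B) (q := 31) (N := 310) (by decide +kernel) (by decide +kernel) (by decide +kernel)
    (acts_of card (by decide +kernel) (by decide +kernel) (by decide +kernel) (fun _ hR => BigNum.data31 hR) 1
      (by decide +kernel))
    (fun _ hR => (BigNum.data31 hR).2.le) 72 0 lb_zero 0 (by decide +kernel)

theorem row7 (B : Base) : FprRow 8 1 7 G :=
  row_of_act2 (ctx B) (q := 43) (N := 602) (by decide +kernel) (by decide +kernel) (by decide +kernel)
    (acts_of card (by decide +kernel) (by decide +kernel) (by decide +kernel) (fun _ hR => BigNum.data43 hR) 1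
      (by decide +kernel))
    (fun _ hR => (BigNum.data43 hR).2.le) 135 0 lb_zero 0 (by decide +kernel)

theorem row11 (B : Base) : FprRow 12 1 11 G :=
  row_of_act2 (ctx B) (q := 23) (N := 506) (by decide +kernel) (by decide +kernel) (by decide +kernel)
    (acts_of card (by decide +kernel) (by decide +kernel) (by decide +kernel) (fun _ hR => BigNum.data23 hR) 1
      (by decide +kernel))
    (fun _ hR => (BigNum.data23 hR).2.le) 528 0 lb_zero 0 (by exact Cfsg.Agent.H715.Fpr.scheck_fast (by decide +kernel))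

theorem row23 (B : Base) : FprRow 24 1 23 G :=
  row_of_norm2 (ctx B) (by decide +kernel) (fun _ hR => (BigNum.data23 hR).2.le) 528 0 lb_zero 0 (by exact Cfsg.Agent.H715.Fpr.scheck_fast (by decide +kernel))

theorem row29 (B : Base) : FprRow 30 1 29 G :=
  row_of_norm2 (ctx B) (by decide +kernel) (fun _ hR => (BigNum.data29' hR).2.le) 840 0 lb_zero 0 (by exact Cfsg.Agent.H715.Fpr.scheck_fast (by decide +kernel))

theorem row31 (B : Base) : FprRow 32 1 31 G :=
  row_of_norm2 (ctx B) (by decide +kernel) (fun _ hR => (BigNum.data31 hR).2.le) 320 0 lb_zero 0 (by exact Cfsg.Agent.H715.Fpr.scheck_fast (by decide +kernel))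

theorem row37 (B : Base) : FprRow 38 1 37 G :=
  row_of_norm2 (ctx B) (by decide +kernel) (fun _ hR => (BigNum.data37 hR).2.le) 456 0 lb_zero 0 (by exact Cfsg.Agent.H715.Fpr.scheck_fast (by decide +kernel))

theorem row43 (B : Base) : FprRow 44 1 43 G :=
  row_of_norm2 (ctx B) (by decide +kernel) (fun _ hR => (BigNum.data43 hR).2.le) 616 0 lb_zero 0 (by exact Cfsg.Agent.H715.Fpr.scheck_fast (by decide +kernel))

/-- **the rows of `J4`** -/
theorem row (B : Base) {p : ℕ} (hp : p.Prime) (hd : p ∣ Nat.card G) : FprRow (p + 1) 1 p G := by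
  have h1 := valid_mem v_j4 hp (by rw [← card]; exact hd)
  simp only [l_j4, List.map_cons, List.map_nil, List.mem_cons, List.not_mem_nil, or_false] at h1
  rcases h1 with rfl | rfl | rfl | rfl | rfl | rfl | rfl | rfl | rfl | rfl
  · exact row2 B
  · exact row3 B
  · exact row5 B
  · exact row7 B
  · exact row11 B
  · exact row23 B
  · exact row29 B
  · exact row31 B
  · exact row37 B
  · exact row43 B

universe u in
theorem rowIso (B : Base) {S : Type u} [Group S] (h : Cfsg.Spor.IsoJ4 S) {p : ℕ} (hp : p.Prime)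
    (hd : p ∣ Nat.card S) : FprRow (p + 1) 1 p S := by
  obtain ⟨e⟩ := h
  exact (row B hp (by rw [← Nat.card_congr e.toEquiv]; exact hd)).of_mulEquiv hp e.symm

end Cfsg.Agent.H715.Fpr.J4
end

-- part: H435/Fpr/CentBound
section
/-!
# Few fixed points from a small centraliser, and Jordan's bound for the index
-/

set_option autoImplicit false
open Subgroup MulAction
open scoped Pointwise Nat

namespace Cfsg.Agent.H435.Fpr

/-- The number of fixed points of `x ≠ 1` on the cosets of `H` is less than `|C(x)|`. -/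
theorem fix_lt_card_centralizer {G : Type*} [Group G] [Finite G] {x : G} (hx : x ≠ 1)
    (H : Subgroup G) :
    Nat.card (fixedBy (G ⧸ H) x) < Nat.card (centralizer ({x} : Set G)) := by
  classical
  have : Fintype G := Fintype.ofFinite G
  -- the elements conjugating `x` into `H`
  let A : Type _ := {g : G // g⁻¹ * x * g ∈ H}
  have h1 : Nat.card A = Nat.card (fixedBy (G ⧸ H) x) * Nat.card H := by
    have hm : ∀ g : G, (g⁻¹ * x * g ∈ H) ↔ x • (g : G ⧸ H) = (g : G ⧸ H) := by
      intro g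
      change _ ↔ ((x * g : G) : G ⧸ H) = (g : G)
      rw [eq_comm, QuotientGroup.eq, mul_assoc]
    let f : A → fixedBy (G ⧸ H) x := fun g => ⟨(g.1 : G ⧸ H), (hm g.1).1 g.2⟩
    have : Fintype (fixedBy (G ⧸ H) x) := Fintype.ofFinite _
    rw [Nat.card_congr (Equiv.sigmaFiberEquiv f).symm, Nat.card_sigma]
    have hfib : ∀ z : fixedBy (G ⧸ H) x, Nat.card {g : A // f g = z} = Nat.card H := by
      rintro ⟨z, hz⟩
      obtain ⟨c, rfl⟩ := QuotientGroup.mk_surjective z
      refine Nat.card_congr ⟨fun g => ⟨c⁻¹ * g.1.1, QuotientGroup.eq.1 (congrArg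
        (fun w : fixedBy (G ⧸ H) x => (w : G ⧸ H)) g.2).symm⟩,
        fun h => ⟨⟨c * h.1, ?_⟩, ?_⟩, ?_, ?_⟩
      · rw [hm]
        have h3 : ((c * h.1 : G) : G ⧸ H) = (c : G) := by
          rw [eq_comm, QuotientGroup.eq]
          simp
        rw [h3]
        exact hz
      · apply Subtype.ext
        change ((c * h.1 : G) : G ⧸ H) = (c : G)
        rw [eq_comm, QuotientGroup.eq]
        simp
      · intro g; apply Subtype.ext; apply Subtype.ext; simp
      · intro h; apply Subtype.ext; simp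
    simp only [hfib]
    rw [Finset.sum_const, Finset.card_univ, smul_eq_mul,
      ← Nat.card_eq_fintype_card (α := fixedBy (G ⧸ H) x)]
  have h2 : Nat.card A ≤ Nat.card (centralizer ({x} : Set G)) * Nat.card {h : H // h ≠ 1} := by
    -- choose a conjugating element for each value
    have hex : ∀ h : {h : H // h ≠ 1}, ∃ c : G, (∃ g : G, g⁻¹ * x * g = h.1) → c⁻¹ * x * c = h.1 := by
      intro h
      by_cases hh : ∃ g : G, g⁻¹ * x * g = h.1
      · obtain ⟨g, hg⟩ := hh
        exact ⟨g, fun _ => hg⟩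
      · exact ⟨1, fun h' => absurd h' hh⟩
    choose c hc using hex
    rw [← Nat.card_prod]
    let val : A → {h : H // h ≠ 1} := fun g => ⟨⟨g.1⁻¹ * x * g.1, g.2⟩, by
      intro h
      apply hx
      have h3 : g.1⁻¹ * x * g.1 = 1 := congrArg Subtype.val h
      have : x = g.1 * (g.1⁻¹ * x * g.1) * g.1⁻¹ := by group
      rw [this, h3]
      group⟩
    refine Nat.card_le_card_of_injective (fun g => (⟨g.1 * (c (val g))⁻¹, ?_⟩, val g)) ?_
    · rw [mem_centralizer_singleton_iff]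
      have h3 : (c (val g))⁻¹ * x * c (val g) = g.1⁻¹ * x * g.1 := hc (val g) ⟨g.1, rfl⟩
      have h4 : x * c (val g) = c (val g) * (g.1⁻¹ * x * g.1) := by rw [← h3]; group
      have h5 : x = c (val g) * (g.1⁻¹ * x * g.1) * (c (val g))⁻¹ := by rw [← h4]; group
      calc g.1 * (c (val g))⁻¹ * x =
          g.1 * (c (val g))⁻¹ * (c (val g) * (g.1⁻¹ * x * g.1) * (c (val g))⁻¹) := by rw [← h5]
        _ = x * (g.1 * (c (val g))⁻¹) := by group
    · intro g g' hgg
      have h3 : val g = val g' := congrArg Prod.snd hgg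
      have h4 : g.1 * (c (val g))⁻¹ = g'.1 * (c (val g'))⁻¹ := congrArg (fun z => (z.1 : G)) hgg
      rw [h3] at h4
      exact Subtype.ext (mul_right_cancel h4)
  have h3 : Nat.card {h : H // h ≠ 1} = Nat.card H - 1 := by
    have : Fintype H := Fintype.ofFinite _
    rw [Nat.card_eq_fintype_card, Fintype.card_subtype_compl, Fintype.card_subtype_eq,
      ← Nat.card_eq_fintype_card]
  rw [h1, h3] at h2
  have h4 : 0 < Nat.card H := Nat.card_pos
  have h5 : 0 < Nat.card (centralizer ({x} : Set G)) := Nat.card_pos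
  by_contra hcon
  push Not at hcon
  have h6 := Nat.mul_le_mul_right (Nat.card H) hcon
  have h7 : Nat.card (centralizer ({x} : Set G)) * (Nat.card H - 1) <
      Nat.card (centralizer ({x} : Set G)) * Nat.card H := by
    apply Nat.mul_lt_mul_of_pos_left _ h5
    omega
  omega

/-- Jordan: the index of a maximal subgroup of a simple group of order divisible by the prime `r`
is at least `2 r` or at most `r + 2`, or the group is large. -/
theorem index_jordan {G : Type*} [Group G] [Finite G] [IsSimpleGroup G] {H : Subgroup G}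
    (hH : IsCoatom H) {r : ℕ} (hr : r.Prime) (hrG : r ∣ Nat.card G) (h5 : 5 ≤ H.index)
    (hbig : 2 * Nat.card G < (r + 3)!) :
    2 * r ≤ H.index ∨ H.index < r + 3 := by
  classical
  by_contra hcon
  push Not at hcon
  obtain ⟨hlt, hge⟩ := hcon
  have : Fintype (G ⧸ H) := Fintype.ofFinite _
  have hcard : Fintype.card (G ⧸ H) = H.index := by
    rw [← Nat.card_eq_fintype_card]
    rfl
  let act : G →* Equiv.Perm (G ⧸ H) := toPermHom G (G ⧸ H)
  have hinj : Function.Injective act := by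
    rw [← MonoidHom.ker_eq_bot_iff]
    rcases IsSimpleGroup.eq_bot_or_eq_top_of_normal act.ker inferInstance with h | h
    · exact h
    · exfalso
      apply hH.1
      rw [eq_top_iff]
      intro g _
      have h1 : g ∈ act.ker := by rw [h]; trivial
      rw [MonoidHom.mem_ker] at h1
      have h2 : act g ((1 : G) : G ⧸ H) = ((1 : G) : G ⧸ H) := by rw [h1]; rfl
      have h3 : ((g * 1 : G) : G ⧸ H) = ((1 : G) : G ⧸ H) := h2
      rw [QuotientGroup.eq, mul_one, mul_one] at h3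
      have := inv_mem h3
      rwa [inv_inv] at this
  have hprim0 : IsPreprimitive G (G ⧸ H) := by
    have : Nontrivial (G ⧸ H) := by
      rw [← Finite.one_lt_card_iff_nontrivial, Nat.card_eq_fintype_card, hcard]
      omega
    rw [← isCoatom_stabilizer_iff_preprimitive G ((1 : G) : G ⧸ H), stabilizer_quotient]
    exact hH
  have hprim : IsPreprimitive act.range (G ⧸ H) := by
    let f : (G ⧸ H) →ₑ[act.rangeRestrict] (G ⧸ H) := ⟨id, fun g z => rfl⟩
    exact IsPreprimitive.of_surjective (f := f) Function.surjective_id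
  have : Fact r.Prime := ⟨hr⟩
  obtain ⟨g, hg⟩ := exists_prime_orderOf_dvd_card' r hrG
  have hgo : orderOf (act g) = r := by rw [orderOf_injective act hinj, hg]
  have hcyc : (act g).IsCycle := Equiv.Perm.isCycle_of_prime_order' (by rw [hgo]; exact hr) (by
    rw [hgo, hcard]; omega)
  have hsupp : (act g).support.card = r := by rw [← hcyc.orderOf, hgo]
  have h1 := Cfsg.Agent.S0713.result act.range hprim hr (by rw [hcard]; exact h5)
    (by rw [hcard]; omega) hcyc hsupp ⟨g, rfl⟩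
  have h2 := Subgroup.card_le_of_le h1
  have h3 : Nat.card act.range = Nat.card G :=
    Nat.card_congr (act.ofInjective hinj).symm.toEquiv
  have hnt : Nontrivial (G ⧸ H) := by
    rw [← Finite.one_lt_card_iff_nontrivial, Nat.card_eq_fintype_card, hcard]
    omega
  have h4 : 2 * Nat.card (alternatingGroup (G ⧸ H)) = (H.index)! := by
    rw [two_mul_nat_card_alternatingGroup, Nat.card_perm, Nat.card_eq_fintype_card, hcard]
  have h5' : (r + 3)! ≤ (H.index)! := Nat.factorial_le hge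
  omega

end Cfsg.Agent.H435.Fpr
end

-- part: H435/Fpr/McL
section
/-!
# The row of the McLaughlin group, `p = 2`
-/

set_option autoImplicit false
open Subgroup MulAction
open scoped Pointwise

namespace Cfsg.Agent.H435.Fpr.McL

open Cfsg.Agent.SporRec.TwoAn Cfsg.Agent.TypeM.Two Equiv

/-- `(0 1 2 3)(4 5)` -/
def σ : Perm (Fin 8) := swap 0 1 * swap 1 2 * swap 2 3 * swap 4 5

theorem σ_sq : σ * σ = swap 0 2 * swap 1 3 := by decide

variable {C : Type*} [Group C] (K : Cover (Fin 8) C)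

include K

/-- centraliser of `σ` in `A₈` -/
theorem eq_of_apply {a b : C} (ha : K.π a * σ = σ * K.π a) (hb : K.π b * σ = σ * K.π b)
    (h0 : K.π a 0 = K.π b 0) (h4 : K.π a 4 = K.π b 4) : K.π a = K.π b := by
  have key : ∀ i : Fin 8, K.π a i = K.π b i → K.π a (σ i) = K.π b (σ i) := by
    intro i hi
    have h1 : K.π a (σ i) = σ (K.π a i) := congrArg (fun z : Perm (Fin 8) => z i) ha
    have h2 : K.π b (σ i) = σ (K.π b i) := congrArg (fun z : Perm (Fin 8) => z i) hb
    rw [h1, h2, hi]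
  have h1 : K.π a 1 = K.π b 1 := key 0 h0
  have h2 : K.π a 2 = K.π b 2 := key 1 h1
  have h3 : K.π a 3 = K.π b 3 := key 2 h2
  have h5 : K.π a 5 = K.π b 5 := key 4 h4
  -- the quotient is even and fixes `0, …, 5`
  obtain ⟨c, hc⟩ : ∃ c, c = (K.π b)⁻¹ * K.π a := ⟨_, rfl⟩
  have hfix : ∀ i : Fin 8, K.π a i = K.π b i → c i = i := by
    intro i hi
    have : K.π b * c = K.π a := by rw [hc]; group
    apply (K.π b).injective
    rw [← hi]
    exact congrArg (fun z : Perm (Fin 8) => z i) this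
  have hs : Perm.sign c = 1 := by
    rw [hc, map_mul, map_inv, Perm.mem_alternatingGroup.1 (K.mem_alternating a),
      Perm.mem_alternatingGroup.1 (K.mem_alternating b)]
    decide
  have hc1 : c = 1 := by
    have f0 := hfix 0 h0
    have f1 := hfix 1 h1
    have f2 := hfix 2 h2
    have f3 := hfix 3 h3
    have f4 := hfix 4 h4
    have f5 := hfix 5 h5
    have h67 : c 6 = 6 ∨ c 6 = 7 := by
      have n0 : c 6 ≠ 0 := fun h => absurd (c.injective (h.trans f0.symm)) (by decide)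
      have n1 : c 6 ≠ 1 := fun h => absurd (c.injective (h.trans f1.symm)) (by decide)
      have n2 : c 6 ≠ 2 := fun h => absurd (c.injective (h.trans f2.symm)) (by decide)
      have n3 : c 6 ≠ 3 := fun h => absurd (c.injective (h.trans f3.symm)) (by decide)
      have n4 : c 6 ≠ 4 := fun h => absurd (c.injective (h.trans f4.symm)) (by decide)
      have n5 : c 6 ≠ 5 := fun h => absurd (c.injective (h.trans f5.symm)) (by decide)
      revert n0 n1 n2 n3 n4 n5
      generalize c 6 = x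
      revert x
      decide
    have h76 : c 7 = 6 ∨ c 7 = 7 := by
      have n0 : c 7 ≠ 0 := fun h => absurd (c.injective (h.trans f0.symm)) (by decide)
      have n1 : c 7 ≠ 1 := fun h => absurd (c.injective (h.trans f1.symm)) (by decide)
      have n2 : c 7 ≠ 2 := fun h => absurd (c.injective (h.trans f2.symm)) (by decide)
      have n3 : c 7 ≠ 3 := fun h => absurd (c.injective (h.trans f3.symm)) (by decide)
      have n4 : c 7 ≠ 4 := fun h => absurd (c.injective (h.trans f4.symm)) (by decide)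
      have n5 : c 7 ≠ 5 := fun h => absurd (c.injective (h.trans f5.symm)) (by decide)
      revert n0 n1 n2 n3 n4 n5
      generalize c 7 = x
      revert x
      decide
    have h78 : c 6 ≠ c 7 := fun h => absurd (c.injective h) (by decide)
    rcases h67 with h6 | h6
    · have h7 : c 7 = 7 := by
        rcases h76 with h | h
        · exact absurd (h6.trans h.symm) h78
        · exact h
      ext i
      (revert i; simp only [f0, f1, f2, f3, f4, f5, h6, h7, _root_.Fin.forall_fin_succ, _root_.Equiv.Perm.coe_one, _root_.id_eq, Fin.isValue, _root_.Fin.coe_ofNat_eq_mod, _root_.Nat.zero_mod, _root_.Fin.val_succ, _root_.Fin.succ_zero_eq_one, _root_.Nat.one_mod, _root_.zero_add, _root_.Fin.succ_one_eq_two, Nat.reduceMod, Nat.reduceAdd, Fin.reduceSucc, _root_.Fin.val_eq_zero, _root_.Nat.mod_succ, _root_.IsEmpty.forall_iff, _root_.and_self])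
    · have h7 : c 7 = 6 := by
        rcases h76 with h | h
        · exact h
        · exact absurd (h6.trans h.symm) h78
      exfalso
      have : c = swap 6 7 := by
        apply Equiv.ext
        intro i
        fin_cases i
        · exact f0
        · exact f1
        · exact f2
        · exact f3
        · exact f4
        · exact f5
        · exact h6
        · exact h7
      rw [this] at hs
      revert hs
      decide
  rw [hc, inv_mul_eq_one] at hc1
  exact hc1.symm

/-- the lift of `σ` does not commute with the lift of `(4 5)(6 7)` -/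
theorem not_comm {x y : C} (hx : K.π x = σ) (hy : K.π y = swap 4 5 * swap 6 7) :
    x * y ≠ y * x := by
  intro h
  have hy2 : y * y = K.z := K.dbl 4 5 6 7 (by decide) (by decide) (by decide) (by decide)
    (by decide) (by decide) y hy
  have e1 : x * y * (x * y) = x * x * K.z := by
    calc x * y * (x * y) = x * (y * x) * y := by group
      _ = x * (x * y) * y := by rw [h]
      _ = x * x * (y * y) := by group
      _ = _ := by rw [hy2]
  obtain ⟨g, hg⟩ := K.exists_lift (Cover.swap_mul_swap_mem (α := Fin 8) 4 6 5 7 (by decide) (by decide))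
  have h2 : K.π (g * x * g⁻¹) = K.π (x * y) := by
    rw [map_mul, map_mul, map_inv, map_mul, hg, hx, hy]
    decide
  have h3 : g * x * g⁻¹ * (g * x * g⁻¹) = x * y * (x * y) := by
    rcases K.lift_eq h2 with h4 | h4
    · rw [h4]
    · rw [h4]
      calc x * y * K.z * (x * y * K.z) = x * y * (K.z * (x * y)) * K.z := by group
        _ = x * y * (x * y * K.z) * K.z := by rw [K.z_comm (x * y)]
        _ = x * y * (x * y) * (K.z * K.z) := by group
        _ = _ := by rw [K.z_mul_z, mul_one]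
  have hd : (K.π g).Disjoint (K.π (x * x)) := by
    rw [hg, map_mul, hx, σ_sq]
    change ∀ i : Fin 8, (swap 4 6 * swap 5 7 : Perm (Fin 8)) i = i ∨
      (swap 0 2 * swap 1 3 : Perm (Fin 8)) i = i
    decide
  have h4 := K.commute_of_disjoint hd
  have h5 : g * x * g⁻¹ * (g * x * g⁻¹) = x * x := by
    calc g * x * g⁻¹ * (g * x * g⁻¹) = g * (x * x) * g⁻¹ := by group
      _ = x * x * g * g⁻¹ := by rw [h4]
      _ = _ := by group
  rw [h5, e1] at h3
  exact K.mul_z_ne _ h3.symm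

theorem pow_four {x : C} (hx : K.π x = σ) : x * x * (x * x) = K.z :=
  K.dbl 0 2 1 3 (by decide) (by decide) (by decide) (by decide) (by decide) (by decide) (x * x)
    (by rw [map_mul, hx, σ_sq])

/-- the centraliser of the lift of `σ` -/
theorem card_cent_le [Finite C] {x : C} (hx : K.π x = σ) :
    Nat.card (centralizer ({x} : Set C)) ≤ 8 := by
  classical
  obtain ⟨y, hy⟩ := K.exists_lift (Cover.swap_mul_swap_mem (α := Fin 8) 4 5 6 7 (by decide) (by decide))
  have hxy := not_comm K hx hy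
  have hcomm : ∀ c : C, c * x = x * c → K.π c * σ = σ * K.π c := by
    intro c hc
    rw [← hx, ← map_mul, hc, map_mul]
  have hyσ : K.π y * σ = σ * K.π y := by rw [hy]; decide
  have hzσ : K.π K.z * σ = σ * K.π K.z := by rw [K.π_z, one_mul, mul_one]
  -- the 16 elements of the centraliser modulo the centre
  let S : Type _ := {c : C // K.π c * σ = σ * K.π c}
  have h4ne : ∀ c : Perm (Fin 8), c * σ = σ * c →
      (c 0 = 0 ∨ c 0 = 1 ∨ c 0 = 2 ∨ c 0 = 3) ∧ (c 4 = 4 ∨ c 4 = 5) := by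
    intro c hc
    have a1 : ∀ i, σ (c i) = c (σ i) := fun i => (congrArg (fun z : Perm (Fin 8) => z i) hc).symm
    have b1 : σ (σ (c 0)) ≠ c 0 := by
      rw [a1, a1]
      intro h
      exact absurd (c.injective h) (by decide)
    have b2 : σ (c 4) ≠ c 4 := by
      rw [a1]
      intro h
      exact absurd (c.injective h) (by decide)
    have b3 : σ (σ (c 4)) = c 4 := by
      rw [a1, a1]
      congr 1
    constructor
    · revert b1
      generalize c 0 = i
      revert i
      decide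
    · revert b2 b3
      generalize c 4 = i
      revert i
      decide
  have hS : Nat.card S ≤ 16 := by
    have hf : ∀ s : S, K.π s.1 0 ∈ ({0, 1, 2, 3} : Finset (Fin 8)) ∧
        K.π s.1 4 ∈ ({4, 5} : Finset (Fin 8)) := by
      intro s
      have := h4ne _ s.2
      simpa only [_root_.Fin.isValue, _root_.Finset.mem_insert, _root_.Finset.mem_singleton] using this
    -- `K.π` takes at most 8 values on `S`
    let T : Type _ := {q : Perm (Fin 8) // ∃ s : S, K.π s.1 = q}
    have hT : Nat.card T ≤ 8 := by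
      have : Nat.card ((({0, 1, 2, 3} : Finset (Fin 8)) ×ˢ ({4, 5} : Finset (Fin 8)) :
          Finset (Fin 8 × Fin 8))) = 8 := by
        rw [Nat.card_eq_fintype_card, Fintype.card_coe]
        decide
      rw [← this]
      refine Nat.card_le_card_of_injective (fun q => ⟨(q.1 0, q.1 4), ?_⟩) ?_
      · obtain ⟨s, hs⟩ := q.2
        rw [← hs, Finset.mem_product]
        exact hf s
      · rintro ⟨q, s, rfl⟩ ⟨q', s', rfl⟩ h
        have h1 := congrArg (fun w : ((({0, 1, 2, 3} : Finset (Fin 8)) ×ˢ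
          ({4, 5} : Finset (Fin 8)) : Finset (Fin 8 × Fin 8))) => (w : Fin 8 × Fin 8)) h
        have h2 := congrArg Prod.fst h1
        have h3 := congrArg Prod.snd h1
        exact Subtype.ext (eq_of_apply K s.2 s'.2 h2 h3)
    have hlift : ∀ q : T, ∃ s : S, K.π s.1 = q.1 := fun q => q.2
    choose l hl using hlift
    have h2 : Nat.card S ≤ Nat.card (T × Bool) := by
      refine Nat.card_le_card_of_injective
        (fun s => ((⟨K.π s.1, s, rfl⟩ : T), decide (s.1 = (l ⟨K.π s.1, s, rfl⟩).1))) ?_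
      intro s s' h
      have h3 := congrArg Prod.fst h
      have h4 := congrArg Prod.snd h
      have h3' : (⟨K.π s.1, s, rfl⟩ : T) = ⟨K.π s'.1, s', rfl⟩ := h3
      have h4' : decide (s.1 = (l ⟨K.π s.1, s, rfl⟩).1) =
        decide (s'.1 = (l ⟨K.π s'.1, s', rfl⟩).1) := h4
      rw [← h3'] at h4'
      apply Subtype.ext
      by_cases h5 : s.1 = (l ⟨K.π s.1, s, rfl⟩).1
      · rw [decide_eq_true h5, eq_comm, decide_eq_true_iff] at h4'
        rw [h5, ← h4']
      · rw [decide_eq_false h5, eq_comm, decide_eq_false_iff_not] at h4'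
        have e0 : K.π (l ⟨K.π s.1, s, rfl⟩).1 = K.π s.1 := hl ⟨K.π s.1, s, rfl⟩
        have e1 : K.π s'.1 = K.π s.1 := (congrArg Subtype.val h3').symm
        rcases K.lift_eq e0 with h6 | h6
        · exact absurd h6.symm h5
        · rcases K.lift_eq (e0.trans e1.symm) with h7 | h7
          · exact absurd h7.symm h4'
          · rw [h6] at h7
            exact mul_right_cancel h7
    rw [Nat.card_prod, Nat.card_eq_fintype_card (α := Bool), Fintype.card_bool] at h2
    omega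
  -- the centraliser of `x` and its translate by `y` are disjoint
  have hinj : Nat.card (centralizer ({x} : Set C)) * 2 ≤ Nat.card S := by
    have h2 : Nat.card ((centralizer ({x} : Set C)) × Bool) ≤ Nat.card S := by
      refine Nat.card_le_card_of_injective
        (fun c => (⟨if c.2 then c.1.1 * y else c.1.1, ?_⟩ : S)) ?_
      · have h3 := hcomm _ (mem_centralizer_singleton_iff.1 c.1.2)
        rcases c with ⟨c, b⟩
        cases b
        · exact h3
        · change K.π (c.1 * y) * σ = σ * K.π (c.1 * y)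
          rw [map_mul, mul_assoc, hyσ, ← mul_assoc, h3, mul_assoc]
      · rintro ⟨c, b⟩ ⟨c', b'⟩ h
        have h3 : (if b then c.1 * y else c.1) = if b' then c'.1 * y else c'.1 :=
          congrArg Subtype.val h
        have hne : ∀ d d' : centralizer ({x} : Set C), d.1 * y ≠ d'.1 := by
          intro d d' hdd
          apply hxy
          have h4 : y ∈ centralizer ({x} : Set C) := by
            have : y = d.1⁻¹ * d'.1 := by rw [← hdd]; group
            rw [this]
            exact mul_mem (inv_mem d.2) d'.2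
          exact (mem_centralizer_singleton_iff.1 h4).symm
        cases b <;> cases b'
        · exact Prod.ext (Subtype.ext h3) rfl
        · exact absurd h3.symm (hne c' c)
        · exact absurd h3 (hne c c')
        · exact Prod.ext (Subtype.ext (mul_right_cancel h3)) rfl
    rw [Nat.card_prod, Nat.card_eq_fintype_card (α := Bool), Fintype.card_bool] at h2
    exact h2
  omega

omit K in
/-- An element of order `8` with centraliser of order at most `8`. -/
theorem exists_elt {M : Type*} [Group M] [Finite M] (L : MT 8 M) :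
    ∃ x : M, orderOf x = 8 ∧ Nat.card (centralizer ({x} : Set M)) ≤ 8 := by
  obtain ⟨x, hx⟩ := L.K.exists_lift (σ := σ) (by
    rw [Perm.mem_alternatingGroup]
    decide)
  have h4 := pow_four L.K hx
  have h4' : (x : M) ^ 4 = L.t := by
    have := congrArg (fun z : centralizer ({L.t} : Set M) => (z : M)) h4
    simp only [Subgroup.coe_mul] at this
    rw [L.hz] at this
    exact (by simp only [pow_succ, pow_zero, one_mul, mul_assoc] :
      (x : M) ^ 4 = (x : M) * x * (x * x)).trans this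
  refine ⟨x, ?_, ?_⟩
  · have h8 : (x : M) ^ 2 ^ 3 = 1 := by
      have : (x : M) ^ 2 ^ 3 = ((x : M) ^ 4) * ((x : M) ^ 4) := by group
      rw [this, h4', L.t_mul_t]
    have h9 : ¬ (x : M) ^ 2 ^ 2 = 1 := by
      have : (x : M) ^ 2 ^ 2 = (x : M) ^ 4 := by norm_num
      rw [this, h4']
      exact L.t_ne
    have := orderOf_eq_prime_pow h9 h8
    simpa using this
  · have h5 := card_cent_le L.K hx
    refine le_trans (Nat.card_le_card_of_injective
      (fun c : centralizer ({(x : M)} : Set M) =>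
        (⟨⟨c.1, ?_⟩, ?_⟩ : centralizer ({x} : Set (centralizer ({L.t} : Set M))))) ?_) h5
    · have h6 : (c.1 : M) * x = x * c.1 := mem_centralizer_singleton_iff.1 c.2
      have h7 : Commute (c.1 : M) ((x : M) ^ 4) := Commute.pow_right h6 4
      rw [h4'] at h7
      exact L.mem_iff.2 h7
    · rw [mem_centralizer_singleton_iff]
      exact Subtype.ext (mem_centralizer_singleton_iff.1 c.2)
    · intro c c' h
      have h6 := congrArg (fun z : centralizer ({x} : Set (centralizer ({L.t} : Set M))) =>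
        ((z : centralizer ({L.t} : Set M)) : M)) h
      exact Subtype.ext h6

omit K in
theorem row {M : Type*} [Group M] [Finite M] [IsSimpleGroup M] (L : MT 8 M)
    (hM : Nat.card M = 898128000) : Cfsg.Agent.H409.FprRow 3 1 2 M := by
  obtain ⟨x, hx, hc⟩ := exists_elt L
  apply Cfsg.Agent.H409.FprRow.of_coatom
  intro H hH
  refine ⟨x, ⟨3, by rw [hx]; norm_num⟩, ?_⟩
  have hx1 : x ≠ 1 := by
    rintro rfl
    rw [orderOf_one] at hx
    norm_num at hx
  have h1 := fix_lt_card_centralizer hx1 H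
  have hidx : Nat.card (M ⧸ H) = H.index := rfl
  rw [hidx]
  -- the index is at least 22
  have hfact : Nat.card M ∣ (H.index).factorial := by
    have hinj : Function.Injective (toPermHom M (M ⧸ H)) := by
      rw [← MonoidHom.ker_eq_bot_iff]
      rcases IsSimpleGroup.eq_bot_or_eq_top_of_normal (toPermHom M (M ⧸ H)).ker inferInstance
        with h | h
      · exact h
      · exfalso
        apply hH.1
        rw [eq_top_iff, ← h, ← normalCore_eq_ker]
        exact H.normalCore_le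
    have h2 := Subgroup.card_dvd_of_injective (toPermHom M (M ⧸ H)) hinj
    rw [Nat.card_perm] at h2
    exact h2
  have h14 : 14 ≤ H.index := by
    by_contra hlt
    push Not at hlt
    have h2 := hfact.trans (Nat.factorial_dvd_factorial (show H.index ≤ 13 by omega))
    rw [hM] at h2
    revert h2
    decide
  have h2 := index_jordan hH (r := 11) (by norm_num) (by rw [hM]; norm_num) (by omega)
    (by rw [hM]; decide)
  omega

end Cfsg.Agent.H435.Fpr.McL
end

-- part: H435/Fpr/McLRow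
section
/-!
# The row of the McLaughlin group, `p = 2`
-/

set_option autoImplicit false

namespace Cfsg.Agent.H435.Fpr

/-- `FprRow 3 1 2` for the McLaughlin group. -/
theorem fprRow_mcL_two {M : Type*} [Group M] (h : Cfsg.Spor.IsoMcL M) :
    Cfsg.Agent.H409.FprRow 3 1 2 M := by
  obtain ⟨hfin, hs, hM, ⟨L⟩⟩ := Cfsg.Agent.TypeM.FactsMcL.facts h
  haveI := hfin
  haveI := hs
  exact McL.row L hM

end Cfsg.Agent.H435.Fpr
end

-- part: H444/FprCount
section
/-!
# Fixed points and the number of elements of order `p` of the point stabilizer (helper444)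

* `fix_mul_card_le` : `fix(x) |H| ≤ #{y ∈ H : o(y) = o(x)} |C(x)|`;
* `fix_mul_norm_le` : the Sylow `p`-subgroup `P` of `H` has order `p ^ 2`: `fix(x) |N_H(P)| ≤ (p ^ 2 - 1) |C(x)|`.
-/

set_option autoImplicit false

namespace Cfsg.Agent.H444.FprCount

open Subgroup MulAction

universe u

variable {S : Type u} [Group S] [Finite S]

/-- fixed points and elements of the stabilizer -/
theorem fix_mul_card_le (H : Subgroup S) (x : S) :
    Nat.card (fixedBy (S ⧸ H) x) * Nat.card H ≤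
      Nat.card {y : H // orderOf (y : S) = orderOf x} * Nat.card (centralizer ({x} : Set S)) := by
  classical
  let r : fixedBy (S ⧸ H) x → S := fun w => (w : S ⧸ H).out
  have hr : ∀ w : fixedBy (S ⧸ H) x, ((r w : S) : S ⧸ H) = w := fun w => Quotient.out_eq' _
  have hmem : ∀ w : fixedBy (S ⧸ H) x, (r w)⁻¹ * x * r w ∈ H := by
    intro w
    have h1 : x • (w : S ⧸ H) = w := w.2
    rw [← hr w] at h1
    have h2 : ((x * r w : S) : S ⧸ H) = (r w : S) := h1
    have h3 := QuotientGroup.eq.1 h2.symm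
    rwa [← mul_assoc] at h3
  let c : H → S := fun y => if h : ∃ g : S, g⁻¹ * x * g = y then h.choose else 1
  have hc : ∀ (y : H) (g : S), g⁻¹ * x * g = y → (c y)⁻¹ * x * c y = y := by
    intro y g hg
    have h : ∃ g : S, g⁻¹ * x * g = y := ⟨g, hg⟩
    change (if h : ∃ g : S, g⁻¹ * x * g = y then h.choose else 1 : S)⁻¹ * x *
      (if h : ∃ g : S, g⁻¹ * x * g = y then h.choose else 1 : S) = y
    rw [dif_pos h]
    exact h.choose_spec
  let v : fixedBy (S ⧸ H) x × H → S := fun a => r a.1 * (a.2 : S)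
  have hv : ∀ a, (v a)⁻¹ * x * v a ∈ H := by
    intro a
    have h1 : (v a)⁻¹ * x * v a = (a.2 : S)⁻¹ * ((r a.1)⁻¹ * x * r a.1) * (a.2 : S) := by
      change (r a.1 * (a.2 : S))⁻¹ * x * (r a.1 * (a.2 : S)) = _
      group
    rw [h1]
    exact mul_mem (mul_mem (inv_mem a.2.2) (hmem _)) a.2.2
  have hvo : ∀ a, orderOf ((v a)⁻¹ * x * v a) = orderOf x := by
    intro a
    have h2 : (v a)⁻¹ * x * v a = MulAut.conj (v a)⁻¹ x := by simp only [_root_.map_inv, _root_.MulAut.inv_apply, _root_.MulAut.conj_symm_apply]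
    rw [h2, MulEquiv.orderOf_eq]
  have hcc : ∀ a, v a * (c ⟨_, hv a⟩)⁻¹ ∈ centralizer ({x} : Set S) := by
    intro a
    have h1 := hc ⟨_, hv a⟩ (v a) rfl
    rw [mem_centralizer_singleton_iff]
    set d := c ⟨_, hv a⟩
    have h2 : d⁻¹ * x * d = (v a)⁻¹ * x * v a := h1
    have h3 : x * d = d * ((v a)⁻¹ * x * v a) := by rw [← h2]; group
    calc v a * d⁻¹ * x = v a * (d⁻¹ * x * d) * d⁻¹ := by group
      _ = v a * ((v a)⁻¹ * x * v a) * d⁻¹ := by rw [h2]
      _ = x * (v a * d⁻¹) := by group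
  rw [← Nat.card_prod, ← Nat.card_prod]
  refine Nat.card_le_card_of_injective (fun a : fixedBy (S ⧸ H) x × H =>
    ((⟨⟨_, hv a⟩, hvo a⟩, ⟨_, hcc a⟩) :
      {y : H // orderOf (y : S) = orderOf x} × centralizer ({x} : Set S))) ?_
  intro a b hab
  rw [Prod.mk.injEq] at hab
  obtain ⟨h1, h2⟩ := hab
  have h1 := congrArg Subtype.val h1
  have h3 : v a * (c ⟨_, hv a⟩)⁻¹ = v b * (c ⟨_, hv b⟩)⁻¹ := congrArg Subtype.val h2
  have h1' : (⟨_, hv a⟩ : H) = ⟨_, hv b⟩ := h1
  rw [h1'] at h3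
  have h4 : v a = v b := mul_right_cancel h3
  have h5 : (a.1 : S ⧸ H) = b.1 := by
    rw [← hr a.1, ← hr b.1]
    have h6 : r a.1 * (a.2 : S) = r b.1 * (b.2 : S) := h4
    apply QuotientGroup.eq.2
    have h7 : (r a.1)⁻¹ * r b.1 = (a.2 : S) * (b.2 : S)⁻¹ := by
      calc (r a.1)⁻¹ * r b.1 = (r a.1)⁻¹ * (r b.1 * (b.2 : S)) * (b.2 : S)⁻¹ := by group
        _ = (r a.1)⁻¹ * (r a.1 * (a.2 : S)) * (b.2 : S)⁻¹ := by rw [← h6]
        _ = (a.2 : S) * (b.2 : S)⁻¹ := by group
    rw [h7]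
    exact mul_mem a.2.2 (inv_mem b.2.2)
  have h8 : a.1 = b.1 := Subtype.ext h5
  have h9 : (a.2 : S) = b.2 := by
    have h6 : r a.1 * (a.2 : S) = r b.1 * (b.2 : S) := h4
    rw [h8] at h6
    exact mul_left_cancel h6
  exact Prod.ext h8 (Subtype.ext h9)

/-- the number of elements of order `p`, Sylow `p`-subgroups of order `m` -/
theorem card_order_le {p : ℕ} (hp : p.Prime) (m : ℕ) (hm : ∀ P : Sylow p S, Nat.card P = m) :
    Nat.card {y : S // orderOf y = p} ≤ (m - 1) * Nat.card (Sylow p S) := by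
  classical
  have := Fact.mk hp
  have : Finite (Sylow p S) := inferInstance
  have key : ∀ y : {y : S // orderOf y = p}, ∃ P : Sylow p S, (y : S) ∈ P := by
    rintro ⟨y, hy⟩
    have hZ : IsPGroup p (zpowers y) := IsPGroup.of_card (n := 1) (by rw [Nat.card_zpowers, hy, pow_one])
    obtain ⟨P, hP⟩ := hZ.exists_le_sylow
    exact ⟨P, hP (mem_zpowers y)⟩
  choose F hF using key
  have hinj : Nat.card {y : S // orderOf y = p} ≤ Nat.card ((P : Sylow p S) × {y : P // (y : S) ≠ 1}) := by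
    refine Nat.card_le_card_of_injective (fun y => ⟨F y, ⟨⟨(y : S), hF y⟩, ?_⟩⟩) ?_
    · intro h
      have h1 := y.2
      have h2 : (y : S) = 1 := h
      rw [h2, orderOf_one] at h1
      exact hp.one_lt.ne h1
    · intro y z hyz
      have h1 := congrArg (fun a : (P : Sylow p S) × {y : P // (y : S) ≠ 1} => ((a.2 : a.1) : S)) hyz
      exact Subtype.ext h1
  refine hinj.trans ?_
  have hP : ∀ P : Sylow p S, Nat.card {y : P // (y : S) ≠ 1} = m - 1 := by
    intro P
    have h1 : Nat.card {y : P // (y : S) ≠ 1} = Nat.card {y : P // y ≠ 1} :=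
      Nat.card_congr (Equiv.subtypeEquivRight fun y => by
        rw [Ne, Ne, ← Subgroup.coe_one (P : Subgroup S), Subtype.coe_inj])
    rw [h1]
    have h2 := Nat.card_congr (Equiv.sumCompl (fun y : P => y = 1))
    rw [Nat.card_sum] at h2
    have h3 : Nat.card {y : P // y = 1} = 1 := Nat.card_unique
    have h5 : Nat.card P = m := hm P
    have h4 : Nat.card {y : P // ¬ y = 1} = m - 1 := by
      rw [h3] at h2
      have h6 : 1 + Nat.card {y : P // ¬ y = 1} = m := h2.trans h5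
      omega
    exact h4
  have : Fintype (Sylow p S) := Fintype.ofFinite _
  rw [Nat.card_sigma, Finset.sum_congr rfl (fun P _ => hP P), Finset.sum_const, Finset.card_univ,
    ← Nat.card_eq_fintype_card, smul_eq_mul, mul_comm]

/-- **fixed points and the normalizer of a Sylow subgroup of the stabilizer** -/
theorem fix_mul_norm_le {p : ℕ} (hp : p.Prime) {H : Subgroup S} (P : Sylow p H) {m : ℕ} (hm : Nat.card P = m)
    {x : S} (hx : orderOf x = p) :
    Nat.card (fixedBy (S ⧸ H) x) * Nat.card (normalizer ((P : Subgroup H) : Set H)) ≤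
      (m - 1) * Nat.card (centralizer ({x} : Set S)) := by
  have := Fact.mk hp
  have h1 := fix_mul_card_le H x
  have h2 : Nat.card {y : H // orderOf (y : S) = orderOf x} = Nat.card {y : H // orderOf y = p} :=
    Nat.card_congr (Equiv.subtypeEquivRight fun y => by rw [Subgroup.orderOf_coe, hx])
  have h3 : Nat.card {y : H // orderOf y = p} ≤ (m - 1) * Nat.card (Sylow p H) :=
    card_order_le hp m fun Q => (Nat.card_congr (Q.equiv P).toEquiv).trans hm
  have h4 : Nat.card (Sylow p H) = (normalizer ((P : Subgroup H) : Set H)).index := Sylow.card_eq_index_normalizer P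
  have h5 := card_mul_index (normalizer ((P : Subgroup H) : Set H))
  rw [h2] at h1
  rw [h4] at h3
  set N := Nat.card (normalizer ((P : Subgroup H) : Set H))
  set i := (normalizer ((P : Subgroup H) : Set H)).index
  have hi : 0 < i := Nat.pos_of_ne_zero index_ne_zero_of_finite
  refine Nat.le_of_mul_le_mul_right (c := i) ?_ hi
  calc Nat.card (fixedBy (S ⧸ H) x) * N * i = Nat.card (fixedBy (S ⧸ H) x) * Nat.card H := by rw [mul_assoc, h5]
    _ ≤ Nat.card {y : H // orderOf y = p} * Nat.card (centralizer ({x} : Set S)) := h1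
    _ ≤ (m - 1) * i * Nat.card (centralizer ({x} : Set S)) := Nat.mul_le_mul_right _ h3
    _ = (m - 1) * Nat.card (centralizer ({x} : Set S)) * i := by ring

/-- the order of the normalizer of a Sylow subgroup modulo `p` -/
theorem card_norm_modEq {p : ℕ} (hp : p.Prime) (P : Sylow p S) {m : ℕ} (hm : Nat.card P = m) :
    ∃ j, Nat.card (normalizer ((P : Subgroup S) : Set S)) = m * j ∧ j ≡ Nat.card S / m [MOD p] := by
  have := Fact.mk hp
  have h1 : m ∣ Nat.card (normalizer ((P : Subgroup S) : Set S)) := by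
    rw [← hm]
    exact card_dvd_of_le le_normalizer
  obtain ⟨j, hj⟩ := h1
  refine ⟨j, hj, ?_⟩
  have h4 : Nat.card (Sylow p S) = (normalizer ((P : Subgroup S) : Set S)).index := Sylow.card_eq_index_normalizer P
  have h5 := card_mul_index (normalizer ((P : Subgroup S) : Set S))
  have h6 : Nat.card (Sylow p S) ≡ 1 [MOD p] := card_sylow_modEq_one p S
  rw [h4] at h6
  have hm0 : 0 < m := by rw [← hm]; exact Nat.card_pos
  have h7 : Nat.card S / m = j * (normalizer ((P : Subgroup S) : Set S)).index := by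
    apply Nat.div_eq_of_eq_mul_right hm0
    rw [← h5, hj, mul_assoc]
  rw [h7]
  have h8 := (h6.mul_left j).symm
  rwa [mul_one] at h8

end Cfsg.Agent.H444.FprCount
end

-- part: H444/FprTh
section
/-!
# Fixed point ratios: the Thompson group (helper444)
-/

set_option autoImplicit false

namespace Cfsg.Agent.H444.FprTh

open Subgroup MulAction Cfsg Cfsg.Agent.OrdDiv Cfsg.Agent.H940 Cfsg.Agent.H940.Eng Cfsg.Agent.H940.Eng.D
open Cfsg.Agent.H715.Fpr Cfsg.Agent.H409 Cfsg.Agent.H444.ThLoc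

theorem acts19 {p : ℕ} (hp : isPrimeB p = true) (h : (342 % p ^ 1 == 0 && 19 % p ^ 1 != 0) = true) : Acts p 19 G :=
  acts_of card hp (by decide +kernel) (by decide +kernel) (fun _ hR => cn19 hR) 1 h

theorem acts31 : Acts 5 31 G := by
  obtain ⟨h1, h2⟩ := cn31 card_w
  refine acts_of_card (by norm_num) (by norm_num) card_w 1 (by rw [h2]; norm_num) ?_
  rcases h1 with h1 | h1 <;> rw [h1] <;> norm_num

theorem row2 (B : Base) : FprRow 3 1 2 G :=
  row_of_act2 (ctx B) (q := 19) (N := 342) (by decide +kernel) (by decide +kernel) (by decide +kernel)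
    (acts19 (by decide +kernel) (by decide +kernel)) (fun _ hR => (cn19 hR).2.le) 61 0 lb_zero 30 (by decide +kernel)

theorem row3 (B : Base) : FprRow 4 1 3 G :=
  row_of_act2 (ctx B) (q := 19) (N := 342) (by decide +kernel) (by decide +kernel) (by decide +kernel)
    (acts19 (by decide +kernel) (by decide +kernel)) (fun _ hR => (cn19 hR).2.le) 87 0 lb_zero 30 (by decide +kernel)

theorem row5 (B : Base) : FprRow 6 1 5 G :=
  row_of_act2 (ctx B) (q := 31) (N := 465) (by decide +kernel) (by decide +kernel) (by decide +kernel)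
    acts31 (fun _ hR => (cn31 hR).2.le) 108 0 lb_zero 30 (by decide +kernel)

theorem row19 (B : Base) : FprRow 20 1 19 G :=
  row_of_norm2 (ctx B) (by decide +kernel) (fun _ hR => (cn19 hR).2.le) 360 0 lb_zero 30 (by exact Cfsg.Agent.H715.Fpr.scheck_fast (by decide +kernel))

theorem row31 (B : Base) : FprRow 32 1 31 G :=
  row_of_norm2 (ctx B) (by decide +kernel) (fun _ hR => (cn31 hR).2.le) 480 0 lb_zero 30 (by exact Cfsg.Agent.H715.Fpr.scheck_fast (by decide +kernel))

/-! ### the prime 7 -/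

theorem fact_eq {p k m : ℕ} (hp : p.Prime) (hm : ¬ p ∣ m) : (p ^ k * m).factorization p = k := by
  have hm0 : m ≠ 0 := by rintro rfl; exact hm (dvd_zero p)
  rw [Nat.factorization_mul (pow_ne_zero k hp.ne_zero) hm0, Finsupp.add_apply, hp.factorization_pow,
    Finsupp.single_eq_same, Nat.factorization_eq_zero_of_not_dvd hm, add_zero]

theorem seven_big {H : Subgroup G} (hH : H.index = 7657) {x : G} (hx : orderOf x = 7) :
    8 * Nat.card (fixedBy (G ⧸ H) x) ≤ 7657 := by
  have h7 : Nat.Prime 7 := by norm_num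
  have := Fact.mk h7
  have hc : Nat.card H = 11851370496000 := by
    have h1 := card_mul_index H
    rw [card, hH, n_th] at h1
    omega
  obtain ⟨P⟩ : Nonempty (Sylow 7 H) := inferInstance
  have hP : Nat.card P = 49 := by
    have h1 := Sylow.card_eq_multiplicity P
    rw [hc, show (11851370496000 : ℕ) = 7 ^ 2 * 241864704000 by norm_num, fact_eq h7 (by norm_num)] at h1
    exact h1
  have h1 := FprCount.fix_mul_norm_le h7 P hP hx
  obtain ⟨j, hj, hj1⟩ := FprCount.card_norm_modEq h7 P hP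
  rw [hj, card_seven hx] at h1
  rw [hc] at hj1
  have h2 : j % 7 = 3 := hj1
  have h3 : 3 ≤ j := by
    have := Nat.mod_le j 7
    omega
  have h4 : Nat.card (fixedBy (G ⧸ H) x) * (49 * 3) ≤ (49 - 1) * 1176 :=
    (Nat.mul_le_mul_left _ (Nat.mul_le_mul_left 49 h3)).trans h1
  omega

theorem row7 (B : Base) : FprRow 8 1 7 G := by
  have h7 : Nat.Prime 7 := by norm_num
  have := Fact.mk h7
  obtain ⟨x, hx⟩ := exists_prime_orderOf_dvd_card' (G := G) 7 (by rw [card]; decide)
  refine row_of_small (ctx B) (D := ⟨7, [], [1176], [], []⟩) (K := 9408) (lb := 0) (allow := [7657]) (bd := 30)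
    ⟨by decide +kernel, by simp, ?_, by simp only [_root_.List.not_mem_nil, _root_.IsEmpty.forall_iff, _root_.implies_true], by simp only [_root_.List.not_mem_nil, _root_.IsEmpty.forall_iff, _root_.implies_true]⟩ (by exact Cfsg.Agent.H715.Fpr.scheck_fast (by decide +kernel)) lb_zero ?_
  · intro c hc
    rw [List.mem_singleton.1 hc]
    exact ⟨x, ⟨1, hx⟩, (card_seven hx).le⟩
  · intro H _ hH2
    have h1 := List.mem_singleton.1 hH2
    refine ⟨x, ⟨1, hx⟩, ?_⟩
    have h2 : Nat.card (G ⧸ H) = 7657 := h1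
    rw [h2, one_mul]
    exact seven_big h1 hx

end Cfsg.Agent.H444.FprTh
end

-- part: H444/FprThB
section
/-!
# Fixed point ratios: the Thompson group at the prime 13 (helper444)

`structK` : `H940.Eng.struct` with the normal subgroup `K`. In a subgroup `H` of index 144305 of `Th` such that
`|N_H(R)| = 26` the subgroup `K` would be nilpotent of order `2 ^ 12 * 3 ^ 9`, but the centralizer of an involution of
`Th` has no subgroup of order `3 ^ 9`.
-/

set_option autoImplicit false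
set_option linter.style.haveILetI false

namespace Cfsg.Agent.H444.FprThB

open Subgroup MulAction Cfsg Cfsg.Agent.OrdDiv Cfsg.Agent.H940 Cfsg.Agent.H940.Eng Cfsg.Agent.H940.Eng.D
open Cfsg.Agent.H715.Fpr Cfsg.Agent.H409 Cfsg.Agent.H444.ThLoc

universe u

/-- **the structure at a prime dividing the order once** -/
theorem structK {X : Type u} [Group X] [Finite X] {r : ℕ} (hr : r.Prime) (h2 : ¬ r ^ 2 ∣ Nat.card X)
    (R : Subgroup X) (hR : Nat.card R = r) :
    ∃ (K : Subgroup X) (c s ν t : ℕ), K.Normal ∧ c = Nat.card ↥(normalizer (R : Set X) ⊓ K) ∧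
      Nat.card X = Nat.card K * s * t ∧ Nat.card (normalizer (R : Set X)) = c * ν * t ∧
      c ∣ Nat.card (centralizer (R : Set X)) ∧ ¬ r ∣ Nat.card K ∧ r ∣ ν ∧ ν ∣ s ∧ s / ν ≡ 1 [MOD r] ∧
      (∀ p : ℕ, p.Prime → ∃ j : ℕ, p ^ j ∣ c ∧ p ^ ((Nat.card K).factorization p) ≡ p ^ j [MOD r]) ∧
      (s = r ∨ ∃ (S : Type u) (_ : Group S) (_ : Finite S), IsSimpleGroup S ∧ (¬ ∀ a b : S, a * b = b * a) ∧
        Nat.card S = s) := by
  haveI := Fact.mk hr
  obtain ⟨K, ⟨hKn, hrK⟩, hKmax⟩ := exists_card_max (P := fun T : Subgroup X => T.Normal ∧ ¬ r ∣ Nat.card T)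
    ⟨⊥, inferInstance, by rw [card_bot]; exact hr.one_lt.ne' ∘ Nat.dvd_one.1⟩
  let f : X →* X ⧸ K := QuotientGroup.mk' K
  have hf : Function.Surjective f := QuotientGroup.mk'_surjective K
  have hker : f.ker = K := QuotientGroup.ker_mk' K
  have hRK : R ⊓ K = ⊥ := by
    have h3 : Nat.card ↥(R ⊓ K) ∣ r := hR ▸ card_dvd_of_le inf_le_left
    rcases (Nat.dvd_prime hr).1 h3 with h4 | h4
    · exact card_eq_one.1 h4
    · exact absurd (h4 ▸ card_dvd_of_le (inf_le_right : R ⊓ K ≤ K)) hrK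
  have hmapcard : ∀ A : Subgroup X, Nat.card ↥(A.map f) * Nat.card ↥(A ⊓ K) = Nat.card A := by
    intro A
    have h3 := card_mul_index (f.comp A.subtype).ker
    rw [index_ker] at h3
    have h4 : Nat.card (f.comp A.subtype).ker = Nat.card ↥(A ⊓ K) := by
      have h5 : (f.comp A.subtype).ker.map A.subtype = A ⊓ K := by
        ext x
        rw [mem_map, mem_inf]
        constructor
        · rintro ⟨a, ha, rfl⟩
          refine ⟨a.2, ?_⟩
          rw [← hker, MonoidHom.mem_ker]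
          exact ha
        · rintro ⟨hxA, hxK⟩
          refine ⟨⟨x, hxA⟩, ?_, rfl⟩
          rw [← hker, MonoidHom.mem_ker] at hxK
          exact hxK
      rw [← h5, card_map_of_injective A.subtype_injective]
    have h6 : (f.comp A.subtype).range = A.map f := by
      ext y
      constructor
      · rintro ⟨a, rfl⟩
        exact ⟨a, a.2, rfl⟩
      · rintro ⟨a, ha, rfl⟩
        exact ⟨⟨a, ha⟩, rfl⟩
    rw [h4, h6, mul_comm] at h3
    exact h3
  have hXY : Nat.card X = Nat.card K * Nat.card (X ⧸ K) := by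
    rw [← index_eq_card, card_mul_index]
  have hRbar : Nat.card ↥(R.map f) = r := by
    have := hmapcard R
    rwa [hRK, card_bot, mul_one, hR] at this
  have hY2 : ¬ r ^ 2 ∣ Nat.card (X ⧸ K) := fun h => h2 (hXY ▸ (h.trans (dvd_mul_left _ _)))
  have hno : ∀ N : Subgroup (X ⧸ K), N.Normal → ¬ r ∣ Nat.card N → N = ⊥ := by
    intro N hN hrN
    have h3 : Nat.card ↥(N.comap f) = Nat.card K * Nat.card N := MaxCls.card_comap_quot K N
    have h4 := hKmax (N.comap f) ⟨hN.comap f, by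
      rw [h3]
      intro h
      rcases hr.dvd_mul.1 h with h5 | h5
      · exact hrK h5
      · exact hrN h5⟩
    rw [h3] at h4
    have h5 : 0 < Nat.card K := Nat.card_pos
    have h6 : 0 < Nat.card N := Nat.card_pos
    have h7 : Nat.card N ≤ 1 := by
      by_contra hlt
      push Not at hlt
      nlinarith only [h4, h5, hlt]
    exact card_eq_one.1 (le_antisymm h7 h6)
  obtain ⟨s, ν, t, e1, e2, e3, e4, e5, e6⟩ := struct_top hr hY2 hno (R.map f) hRbar
  set N := normalizer (R : Set X) with hN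
  -- the normalizer in the quotient
  have hNbar : normalizer ((R.map f : Subgroup (X ⧸ K)) : Set (X ⧸ K)) = N.map f := by
    apply le_antisymm
    · intro y hy
      obtain ⟨x, rfl⟩ := hf y
      rw [← conj_eq_iff] at hy
      set! R' := R.map (MulAut.conj x).toMonoidHom with hR'
      have hR'c : Nat.card R' = r := by rw [hR', card_map_of_injective (MulAut.conj x).injective, hR]
      -- `R'` and `R` are Sylow subgroups of `L = K R`
      have hR'f : R'.map f = R.map f := by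
        rw [← hy, hR', map_map, map_map]
        congr 1
      set! L := K ⊔ R with hL
      have hRL : R ≤ L := le_sup_right
      have hR'L : R' ≤ L := by
        intro z hz
        have h3 : f z ∈ R.map f := by rw [← hR'f]; exact ⟨z, hz, rfl⟩
        obtain ⟨w, hw, hw'⟩ := h3
        have h4 : z * w⁻¹ ∈ K := by
          rw [← hker, MonoidHom.mem_ker, map_mul, map_inv, hw', mul_inv_cancel]
        have h5 : z = (z * w⁻¹) * w := by group
        rw [h5]
        exact mul_mem (mem_sup_left h4) (mem_sup_right hw)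
      have hL2 : ¬ r ^ 2 ∣ Nat.card L := fun h => h2 (h.trans (card_subgroup_dvd_card _))
      have hRLc : Nat.card (R'.subgroupOf L) = r := by
        rw [Nat.card_congr (subgroupOfEquivOfLe hR'L).toEquiv, hR'c]
      have hRLc2 : Nat.card (R.subgroupOf L) = r := by
        rw [Nat.card_congr (subgroupOfEquivOfLe hRL).toEquiv, hR]
      obtain ⟨l, hl⟩ := exists_conj_le hr hL2 hRLc (L := R.subgroupOf L) (by rw [hRLc2])
      have hl' : R'.map (MulAut.conj (l : X)).toMonoidHom = R := by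
        apply eq_of_le_of_card_ge
        · rintro _ ⟨z, hz, rfl⟩
          exact hl ⟨⟨z, hR'L hz⟩, hz, rfl⟩
        · rw [card_map_of_injective (MulAut.conj (l : X)).injective, hR'c, hR]
      have hlx : (l : X) * x ∈ N := by
        rw [hN, ← conj_eq_iff]
        have h7 : R.map (MulAut.conj ((l : X) * x)).toMonoidHom =
            (R.map (MulAut.conj x).toMonoidHom).map (MulAut.conj (l : X)).toMonoidHom := by
          rw [map_map]
          congr 1
          ext z
          simp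
        rw [h7]
        exact hl'
      have hlf : f (l : X) ∈ N.map f := by
        have hlL : (l : X) ∈ K ⊔ R := l.2
        rw [mem_sup_of_normal_left] at hlL
        obtain ⟨a, ha, b, hb, hab⟩ := hlL
        refine ⟨b, le_normalizer hb, ?_⟩
        rw [← hab, map_mul]
        have : f a = 1 := by rw [← MonoidHom.mem_ker, hker]; exact ha
        rw [this, one_mul]
      have h8 : f x = (f (l : X))⁻¹ * f ((l : X) * x) := by rw [map_mul]; group
      rw [h8]
      exact mul_mem (inv_mem hlf) ⟨_, hlx, rfl⟩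
    · rintro _ ⟨x, hx, rfl⟩
      rw [← conj_eq_iff]
      have h3 : R.map (MulAut.conj x).toMonoidHom = R := conj_eq_iff.2 hx
      conv_rhs => rw [← h3]
      rw [map_map, map_map]
      congr 1
  have hNc : Nat.card N = Nat.card ↥(N ⊓ K) * ν * t := by
    rw [← hmapcard N, ← hNbar, e2]
    ring
  refine ⟨K, Nat.card ↥(N ⊓ K), s, ν, t, hKn, rfl, by rw [hXY, e1, mul_assoc], hNc, ?_,
    hrK, e3, e4, e5, ?_, e6⟩
  · apply card_dvd_of_le
    intro x hx
    have hxN : x ∈ N := (mem_inf.1 hx).1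
    have hxK : x ∈ K := (mem_inf.1 hx).2
    rw [mem_centralizer_iff]
    intro a ha
    have h3 : x * a * x⁻¹ * a⁻¹ ∈ R ⊓ K := by
      refine mem_inf.2 ⟨mul_mem ((mem_normalizer_iff.1 hxN a).1 ha) (inv_mem (show a ∈ R from ha)), ?_⟩
      have h4 : a * x⁻¹ * a⁻¹ ∈ K := hKn.conj_mem _ (inv_mem hxK) a
      have h5 : x * a * x⁻¹ * a⁻¹ = x * (a * x⁻¹ * a⁻¹) := by group
      rw [h5]
      exact mul_mem hxK h4
    rw [hRK, mem_bot] at h3
    have h6 : x * a = a * x := by
      have := congrArg (· * a * x) h3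
      simpa only [mul_assoc, _root_.inv_mul_cancel, _root_.mul_one, _root_.one_mul] using this
    exact h6.symm
  · intro p hp
    haveI := Fact.mk hp
    by_cases hpr : p = r
    · subst hpr
      refine ⟨0, by simp only [_root_.pow_zero, _root_.Subgroup.mem_inf, _root_.isUnit_iff_eq_one, _root_.IsUnit.dvd], ?_⟩
      rw [Nat.factorization_eq_zero_of_not_dvd hrK]
    · -- an `R`-invariant Sylow `p`-subgroup of `K`
      let Q0 : Sylow p K := default
      set! Q0' : Subgroup X := (Q0 : Subgroup K).map K.subtype with hQ0'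
      have hQ0K : Q0' ≤ K := map_subtype_le _
      have hfr : normalizer (Q0' : Set X) ⊔ K = ⊤ := Sylow.normalizer_sup_eq_top Q0
      have hrN : r ∣ Nat.card (normalizer (Q0' : Set X)) := by
        have h3 := card_sup_mul_card_inf K (normalizer (Q0' : Set X))
        rw [sup_comm, hfr, card_top] at h3
        have h4 : r ∣ Nat.card K * Nat.card (normalizer (Q0' : Set X)) := by
          rw [← h3]
          exact Dvd.dvd.mul_right (hR ▸ card_subgroup_dvd_card R) _
        exact (hr.dvd_mul.1 h4).resolve_left hrK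
      obtain ⟨g, hg⟩ := exists_conj_le hr h2 hR hrN
      -- `Q = Q0' conjugated by g⁻¹` is normalized by `R`
      set! Q : Subgroup X := Q0'.map (MulAut.conj g⁻¹).toMonoidHom with hQ
      have hQK : Q ≤ K := by
        rintro _ ⟨z, hz, rfl⟩
        exact hKn.conj_mem _ (hQ0K hz) g⁻¹
      have hRQ : R ≤ normalizer (Q : Set X) := by
        intro a ha
        have h3 : g * a * g⁻¹ ∈ normalizer (Q0' : Set X) := hg ⟨a, ha, rfl⟩
        rw [← conj_eq_iff] at h3 ⊢
        rw [hQ, map_map]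
        conv_rhs => rw [← h3, map_map]
        congr 1
        ext z
        simp [mul_assoc]
      have hQc : Nat.card Q = p ^ ((Nat.card K).factorization p) := by
        rw [hQ, card_map_of_injective (MulAut.conj g⁻¹).injective, hQ0', card_map_of_injective K.subtype_injective]
        exact Q0.card_eq_multiplicity
      -- the action of `R` on `Q`
      letI : MulAction R Q := {
        smul := fun a z => ⟨(a : X) * z * (a : X)⁻¹, (mem_normalizer_iff.1 (hRQ a.2) z).1 z.2⟩
        one_smul := fun z => Subtype.ext (by show (1 : X) * z * (1 : X)⁻¹ = z; simp)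
        mul_smul := fun a b z => Subtype.ext (by
          show ((a : X) * b) * z * ((a : X) * b)⁻¹ = a * (b * z * (b : X)⁻¹) * (a : X)⁻¹
          group) }
      have hsm : ∀ (a : R) (z : Q), ((a • z : Q) : X) = (a : X) * z * (a : X)⁻¹ := fun _ _ => rfl
      have hRp : IsPGroup r R := IsPGroup.of_card (n := 1) (by rw [hR, pow_one])
      have hmod : Nat.card Q ≡ Nat.card (MulAction.fixedPoints R Q) [MOD r] := hRp.card_modEq_card_fixedPoints Q
      -- the fixed points
      set! D : Subgroup X := Q ⊓ centralizer (R : Set X) with hD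
      have hDc : Nat.card (MulAction.fixedPoints R Q) = Nat.card D := by
        refine Nat.card_congr ?_
        refine ⟨fun z => ⟨((z : Q) : X), mem_inf.2 ⟨(z : Q).2, ?_⟩⟩, fun z => ⟨⟨(z : X), (mem_inf.1 z.2).1⟩, ?_⟩, fun z => rfl, fun z => rfl⟩
        · show ((z : Q) : X) ∈ centralizer (R : Set X)
          rw [mem_centralizer_iff]
          intro a ha
          have h3 := congrArg Subtype.val (z.2 ⟨a, ha⟩)
          rw [hsm] at h3
          have h4 : a * ((z : Q) : X) * a⁻¹ = ((z : Q) : X) := h3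
          calc a * ((z : Q) : X) = a * ((z : Q) : X) * a⁻¹ * a := by group
            _ = ((z : Q) : X) * a := by rw [h4]
        · intro a
          apply Subtype.ext
          rw [hsm]
          have h3 := (mem_centralizer_iff.1 (mem_inf.1 z.2).2) (a : X) a.2
          show (a : X) * (z : X) * (a : X)⁻¹ = z
          rw [h3]
          group
      have hDp : IsPGroup p D := by
        have h3 : IsPGroup p Q := IsPGroup.of_card hQc
        exact h3.to_le inf_le_left
      obtain ⟨j, hj⟩ := IsPGroup.iff_card.1 hDp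
      refine ⟨j, ?_, ?_⟩
      · rw [← hj]
        apply card_dvd_of_le
        intro z hz
        have hzQ : z ∈ Q := (mem_inf.1 hz).1
        have hzC : z ∈ centralizer (R : Set X) := (mem_inf.1 hz).2
        refine mem_inf.2 ⟨?_, hQK hzQ⟩
        rw [hN, mem_normalizer_iff]
        intro a
        have h3 : ∀ b ∈ R, z * b * z⁻¹ = b := by
          intro b hb
          rw [← (mem_centralizer_iff.1 hzC) b hb]
          group
        constructor
        · intro ha
          rw [h3 a ha]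
          exact ha
        · intro ha
          have h4 := h3 _ ha
          have h5 : z * a * z⁻¹ = a := by
            have h6 : z * (z * a * z⁻¹) * z⁻¹ = z * a * z⁻¹ := h4
            have h7 : z⁻¹ * (z * (z * a * z⁻¹) * z⁻¹) * z = z⁻¹ * (z * a * z⁻¹) * z := by rw [h6]
            have h8 : z⁻¹ * (z * (z * a * z⁻¹) * z⁻¹) * z = z * a * z⁻¹ := by group
            have h9 : z⁻¹ * (z * a * z⁻¹) * z = a := by group
            rw [h8, h9] at h7
            exact h7
          rw [← h5]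
          exact ha
      · rw [← hQc, ← hj, ← hDc]
        exact hmod

/-- the normal subgroup is nilpotent when `R` has no fixed points -/
theorem nilp {X : Type u} [Group X] [Finite X] {r : ℕ} (hr : r.Prime) {R K : Subgroup X} (hR : Nat.card R = r)
    (hK : K.Normal) (h1 : normalizer (R : Set X) ⊓ K = ⊥) : Group.IsNilpotent K := by
  have := Fact.mk hr
  obtain ⟨x, hx, rfl⟩ := eq_zpowers' hr hR
  have hfree : ∀ g ∈ K, x * g * x⁻¹ = g → g = 1 := by
    intro g hg h
    have h2 : g ∈ normalizer ((zpowers x : Subgroup X) : Set X) ⊓ K := by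
      refine mem_inf.2 ⟨?_, hg⟩
      have h3 : g ∈ centralizer ({x} : Set X) := mem_centralizer_singleton_iff.2 (mul_inv_eq_iff_eq_mul.1 h).symm
      rw [← cent_zpowers'] at h3
      exact centralizer_le_normalizer _ h3
    rw [h1, mem_bot] at h2
    exact h2
  by_cases hKb : K = ⊥
  · rw [hKb]
    infer_instance
  have hφ : ∀ t : K, ((MulAut.conjNormal x t : K) : X) = x * t * x⁻¹ := fun t => MulAut.conjNormal_apply x t
  refine Cfsg.Agent.S0033.result (MulAut.conjNormal x : MulAut K) ?_ r hr ?_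
  · intro g hg
    apply Subtype.ext
    apply hfree g g.2
    have h2 : MulAut.conjNormal x g = g := hg
    rw [← hφ, h2]
  · apply orderOf_eq_prime
    · rw [← map_pow, ← hx, pow_orderOf_eq_one, map_one]
    · intro h
      apply hKb
      rw [eq_bot_iff]
      intro g hg
      rw [mem_bot]
      apply hfree g hg
      have h2 := hφ ⟨g, hg⟩
      rw [h] at h2
      exact h2.symm

/-- `|G| / 144305` -/
def mH : ℕ := 628848230400

/-- the check -/
def ck (k : ℕ) : Bool :=
  k % 13 == 0 || 2 ^ (val 2 15 k) % 13 != 1 || 3 ^ (val 3 10 k) % 13 != 1 || 5 ^ (val 5 2 k) % 13 != 1 ||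
    (k % 2 == 0 && Nat.blt 4 (val 3 10 k)) ||
    ((13 :: o_th).all fun s => k * s != mH && k * s * 2 != mH)

theorem ck_all : ((divsT [(2, 15), (3, 10), (5, 2), (13, 1)]).all ck) = true := by decide +kernel

theorem fac_le {p e k m : ℕ} (hp : p.Prime) (hk : k ∣ m) (hm : m ≠ 0) (h : ¬ p ^ (e + 1) ∣ m) : k.factorization p ≤ e := by
  by_contra hlt
  exact h (((hp.pow_dvd_iff_le_factorization (ne_zero_of_dvd_ne_zero hm hk)).2 (by omega)).trans hk)

/-- a subgroup of index 144305 -/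
theorem key (B : Base) {H : Subgroup G} (hH : H.index = 144305) {R : Subgroup G} (hR : Nat.card R = 13) (hRH : R ≤ H)
    (h26 : Nat.card ↥(normalizer (R : Set G) ⊓ H) = 26) : False := by
  have h13 : Nat.Prime 13 := by norm_num
  have := Fact.mk h13
  have hc : Nat.card H = mH := by
    have h1 := card_mul_index H
    rw [card, hH, n_th] at h1
    unfold mH
    omega
  have hR' : Nat.card (R.subgroupOf H) = 13 := by rw [Nat.card_congr (subgroupOfEquivOfLe hRH).toEquiv, hR]
  have hN : Nat.card (normalizer ((R.subgroupOf H : Subgroup H) : Set H)) = 26 := by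
    rw [← subgroupOf_normalizer_eq hRH, ← h26, ← subgroupOf_map_subtype,
      card_map_of_injective H.subtype_injective]
  have h2 : ¬ 13 ^ 2 ∣ Nat.card H := by rw [hc]; decide
  obtain ⟨K, c, s, ν, t, hKn, hcK, e1, e2, e3, e4, e5, e6, e7, e8, e9⟩ := structK h13 h2 _ hR'
  rw [hN] at e2
  have hcpos : 0 < c := by rw [hcK]; exact Nat.card_pos
  -- `c = 1`
  have hC : Nat.card (centralizer ((R.subgroupOf H : Subgroup H) : Set H)) ∣ Nat.card (centralizer (R : Set G)) := by
    rw [← card_map_of_injective H.subtype_injective]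
    apply card_dvd_of_le
    rintro _ ⟨a, ha, rfl⟩
    rw [mem_centralizer_iff]
    intro w hw
    exact congrArg Subtype.val ((mem_centralizer_iff.1 ha) ⟨w, hRH hw⟩ (mem_subgroupOf.2 hw))
  have h3 : c ∣ 3 ^ 10 * 13 := by
    have h4 := (e3.trans hC).trans (dvd13 hR)
    have h5 : prodl [(3, 10), (13, 1)] = 3 ^ 10 * 13 := by decide
    rwa [h5] at h4
  obtain ⟨ν', rfl⟩ := e5
  have h4 : c * (ν' * t) = 2 := by
    have h5 : 13 * (c * (ν' * t)) = 13 * 2 := by
      calc 13 * (c * (ν' * t)) = c * (13 * ν') * t := by ring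
        _ = 26 := e2.symm
    exact Nat.eq_of_mul_eq_mul_left (by norm_num) h5
  have hc1 : c = 1 := by
    have h5 : c ∣ 2 := ⟨_, h4.symm⟩
    rcases (Nat.dvd_prime Nat.prime_two).1 h5 with h6 | h6
    · exact h6
    · rw [h6] at h3
      exfalso
      revert h3
      decide
  rw [hc1, one_mul] at h4
  have ht : t = 1 ∨ t = 2 := (Nat.dvd_prime Nat.prime_two).1 ⟨ν', by rw [← h4, mul_comm]⟩
  have hcop : ∀ p : ℕ, p.Prime → p ^ ((Nat.card K).factorization p) % 13 = 1 := by
    intro p hp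
    obtain ⟨j, hj, hj2⟩ := e8 p hp
    rw [hc1, Nat.dvd_one] at hj
    rw [hj] at hj2
    exact hj2
  have hbot : normalizer ((R.subgroupOf H : Subgroup H) : Set H) ⊓ K = ⊥ :=
    card_eq_one.1 (hcK.symm.trans hc1)
  have hnil := nilp h13 hR' hKn hbot
  have hKm : Nat.card K ∣ mH := hc ▸ card_subgroup_dvd_card K
  have hm0 : mH ≠ 0 := by decide
  -- the 3-part
  have hthree : 2 ∣ Nat.card K → (Nat.card K).factorization 3 ≤ 4 := by
    intro h2K
    have h2F : Fact (Nat.Prime 2) := ⟨Nat.prime_two⟩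
    have h3F : Fact (Nat.Prime 3) := ⟨Nat.prime_three⟩
    obtain ⟨τ, hτ⟩ := exists_prime_orderOf_dvd_card' (G := K) 2 h2K
    have hτG : orderOf (((τ : K) : H) : G) = 2 := by rw [Subgroup.orderOf_coe, Subgroup.orderOf_coe, hτ]
    let P : Sylow 3 K := default
    have hPc : Nat.card P = 3 ^ ((Nat.card K).factorization 3) := P.card_eq_multiplicity
    have hPle : ((P : Subgroup K).map (H.subtype.comp K.subtype)) ≤ centralizer ({(((τ : K) : H) : G)} : Set G) := by
      rintro _ ⟨a, ha, rfl⟩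
      rw [mem_centralizer_singleton_iff]
      obtain ⟨k, hk⟩ := (IsPGroup.iff_orderOf.1 P.2) ⟨a, ha⟩
      have hk' : orderOf a = 3 ^ k := by
        rw [← hk]
        exact Subgroup.orderOf_coe (⟨a, ha⟩ : (P : Subgroup K))
      have h5 : Commute a τ := Cfsg.Agent.OddOrderLocal.FittingHall.commute_of_coprime_orderOf (by
        rw [hk', hτ]
        exact Nat.Coprime.pow_left k (by norm_num))
      exact congrArg (fun u : K => ((u : H) : G)) h5.eq
    have h5 := card_dvd_of_le hPle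
    have hinj : Function.Injective (H.subtype.comp K.subtype) := fun a b h =>
      K.subtype_injective (H.subtype_injective h)
    rw [card_map_of_injective hinj, hPc, H513.NilpTh.card_inv hτG] at h5
    by_contra hlt
    have h6 : 3 ^ 5 ∣ 92897280 := (pow_dvd_pow 3 (by omega)).trans h5
    revert h6
    decide
  -- the order of the simple factor
  have hs : s ∈ 13 :: o_th := by
    rcases e9 with h | ⟨S, i1, i2, hS, hna, hSc⟩
    · rw [h]
      exact List.mem_cons_self
    · rw [← hSc]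
      refine List.mem_cons_of_mem _ (ords_th B S hS hna ?_)
      rw [hSc]
      have h5 : s ∣ Nat.card H := ⟨Nat.card K * t, by rw [e1]; ring⟩
      exact h5.trans (by rw [hc]; decide)
  have h5 := ck_all
  rw [List.all_eq_true] at h5
  have h6 := h5 _ (mem_divsT (l := [(2, 15), (3, 10), (5, 2), (13, 1)]) (by
    intro x hx
    simp only [List.mem_cons, List.not_mem_nil, or_false] at hx
    rcases hx with rfl | rfl | rfl | rfl <;> norm_num) (d := Nat.card K) (by
      have h7 : prodl [(2, 15), (3, 10), (5, 2), (13, 1)] = mH := by decide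
      rw [h7]
      exact hKm))
  have hK0 : Nat.card K ≠ 0 := Nat.card_pos.ne'
  unfold ck at h6
  rw [val_eq Nat.prime_two _ _ hK0 (fac_le Nat.prime_two hKm hm0 (by decide)),
    val_eq Nat.prime_three _ _ hK0 (fac_le Nat.prime_three hKm hm0 (by decide)),
    val_eq Nat.prime_five _ _ hK0 (fac_le Nat.prime_five hKm hm0 (by decide)),
    hcop 2 Nat.prime_two, hcop 3 Nat.prime_three, hcop 5 Nat.prime_five] at h6
  simp only [bne_self_eq_false, Bool.or_false, Bool.or_eq_true, beq_iff_eq, Bool.and_eq_true, Nat.blt_eq] at h6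
  rcases h6 with (h6 | ⟨h6, h7⟩) | h6
  · exact e4 (Nat.dvd_of_mod_eq_zero h6)
  · have := hthree (Nat.dvd_of_mod_eq_zero h6)
    omega
  · rw [List.all_eq_true] at h6
    have h7 := h6 s hs
    rw [Bool.and_eq_true, bne_iff_ne, bne_iff_ne] at h7
    rw [hc] at e1
    rcases ht with rfl | rfl
    · exact h7.1 (by rw [e1, mul_one])
    · exact h7.2 e1.symm

theorem norm_mem {R : Subgroup G} (hR : Nat.card R = 13) :
    Nat.card (normalizer (R : Set G)) ∈ ([468, 12636, 341172] : List ℕ) := by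
  have h1 := cn13 hR
  simp only [List.mem_cons, List.not_mem_nil, or_false, Prod.mk.injEq] at h1 ⊢
  omega

/-- elements of order 13 on the cosets of a subgroup of index 144305 -/
theorem fix_le (B : Base) {H : Subgroup G} (hH : H.index = 144305) {x : G} (hx : orderOf x = 13) :
    14 * Nat.card (fixedBy (G ⧸ H) x) ≤ 144305 := by
  have h13 : Nat.Prime 13 := by norm_num
  have := Fact.mk h13
  have hsq : ¬ 13 ^ 2 ∣ Nat.card G := by rw [card]; decide
  by_contra hlt
  have hmod : Nat.card (fixedBy (G ⧸ H) x) % 13 = H.index % 13 := fix_modEq h13 H hx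
  rw [hH] at hmod
  have hf : Nat.card (fixedBy (G ⧸ H) x) = 13122 := by
    set f := Nat.card (fixedBy (G ⧸ H) x)
    rcases fix_prime_all_dvd h13 hsq H hx with h | ⟨R, hR, h⟩
    · omega
    · have h1 := norm_mem hR
      simp only [List.mem_cons, List.not_mem_nil, or_false] at h1
      rcases h1 with h1 | h1 | h1
      · rw [h1] at h
        have := Nat.le_of_dvd (by norm_num) h
        omega
      · rw [h1] at h
        have := Nat.le_of_dvd (by norm_num) h
        omega
      · rw [h1] at h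
        obtain ⟨k, hk⟩ := h
        have hk3 : k < 3 := by
          by_contra h3
          have h4 : 13 * f * 3 ≤ 341172 := hk ▸ Nat.mul_le_mul_left _ (not_lt.1 h3)
          omega
        interval_cases k <;> omega
  have hne : Nonempty (fixedBy (G ⧸ H) x) := by
    by_contra hno
    rw [not_nonempty_iff] at hno
    rw [Nat.card_of_isEmpty] at hf
    norm_num at hf
  obtain ⟨w, hw⟩ := hne
  obtain ⟨a, rfl⟩ := QuotientGroup.mk_surjective w
  have h3 : ((x * a : G) : G ⧸ H) = (a : G) := hw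
  have h4 := QuotientGroup.eq.1 h3.symm
  rw [← mul_assoc] at h4
  rw [← card_fixedBy_conj H x a] at hf
  have h5 : orderOf (a⁻¹ * x * a) = 13 := by
    have h5 : a⁻¹ * x * a = MulAut.conj a⁻¹ x := by simp only [_root_.map_inv, _root_.MulAut.inv_apply, _root_.MulAut.conj_symm_apply]
    rw [h5, MulEquiv.orderOf_eq, hx]
  set y := a⁻¹ * x * a with hy
  have hRc : Nat.card (zpowers y) = 13 := by rw [Nat.card_zpowers, h5]
  have hRp : IsPGroup 13 (zpowers y) := IsPGroup.of_card (n := 1) (by rw [hRc, pow_one])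
  have hidx : ¬ 13 ∣ (zpowers y).index := by
    intro h
    apply hsq
    rw [← card_mul_index (zpowers y), hRc, pow_two]
    exact Nat.mul_dvd_mul_left 13 h
  have h6 := Fpr.card_fix_mul (X := G ⧸ H) (hRp.toSylow hidx) (a := ((1 : G) : G ⧸ H)) (by
    intro z hz
    have h7 : zpowers y ≤ H := zpowers_le.2 h4
    have h8 : z ∈ H := h7 hz
    change ((z * 1 : G) : G ⧸ H) = ((1 : G) : G ⧸ H)
    rw [QuotientGroup.eq]
    rw [mul_one, mul_one]
    exact inv_mem h8)
  have h7 : (((hRp.toSylow hidx) : Sylow 13 G) : Subgroup G) = zpowers y := rfl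
  have h8 : {ω : G ⧸ H | ∀ z ∈ (hRp.toSylow hidx : Sylow 13 G), z • ω = ω} = fixedBy (G ⧸ H) y := by
    ext ω
    constructor
    · intro h
      exact h y (mem_zpowers y)
    · intro h z hz
      have h9 : zpowers y ≤ stabilizer G ω := zpowers_le.2 h
      exact h9 hz
  have h9 : stabilizer G ((1 : G) : G ⧸ H) = H := stabilizer_quotient H
  rw [h7, h8, h9, ← Nat.card_coe_set_eq, hf] at h6
  have h10 := norm_mem hRc
  simp only [List.mem_cons, List.not_mem_nil, or_false] at h10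
  have h11 : 0 < Nat.card ↥(normalizer ((zpowers y : Subgroup G) : Set G) ⊓ H) := Nat.card_pos
  refine key B hH hRc (zpowers_le.2 h4) ?_
  omega

def D13 : Dat2 := ⟨13, [], [], [341172], []⟩

theorem chk13 : rcheck2 l_th n_th D13 0 [82460, 144305, 164920, 247380] 30 loc o_th = true :=
  Cfsg.Agent.H715.Fpr.rcheck2_fast (by decide +kernel)

theorem exB : ∀ d ∈ ([82460, 164920, 247380] : List ℕ), ((([468, 12636, 341172] : List ℕ)).all fun N => exactB 13 N d) = true := by
  have h1 : ∀ d ∈ ([82460, 164920, 247380] : List ℕ), ((divsT [(2, 2), (3, 8)]).all fun f =>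
      f % 13 != d % 13 || Nat.ble ((13 + 1) * f) d) = true := by decide +kernel
  have h2 : ∀ N ∈ ([468, 12636, 341172] : List ℕ), N ∣ 13 * prodl [(2, 2), (3, 8)] := by decide +kernel
  intro d hd
  refine List.all_eq_true.2 fun N hN => List.all_eq_true.2 fun f _ => ?_
  rw [Bool.or_assoc, Bool.or_eq_true, bne_iff_ne]
  refine (Decidable.em (N % (13 * f) = 0)).symm.imp_right fun h => List.all_eq_true.1 (h1 d hd) f (mem_divsT ?_
    (Nat.dvd_of_mul_dvd_mul_left (by decide : 0 < 13) ((Nat.dvd_of_mod_eq_zero h).trans (h2 N hN))))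
  intro x hx
  rcases List.mem_cons.1 hx with rfl | hx
  · exact Nat.prime_two
  · rw [List.mem_singleton.1 hx]
    exact Nat.prime_three

theorem row13 (B : Base) : FprRow 14 1 13 G := by
  have h13 : Nat.Prime 13 := by norm_num
  have := Fact.mk h13
  have hsq : ¬ 13 ^ 2 ∣ Nat.card G := by rw [card]; decide
  have hd : 13 ∣ Nat.card G := by rw [card]; decide
  refine row_of_check2 (ctx B) (D := D13) (lb := 0) (allow := [82460, 144305, 164920, 247380])
    (bd := 30) ⟨by decide +kernel, by simp [D13], by simp only [D13, _root_.List.not_mem_nil, _root_.IsEmpty.forall_iff, _root_.implies_true], ?_, by simp only [D13, _root_.List.not_mem_nil, _root_.IsEmpty.forall_iff, _root_.implies_true]⟩ chk13 lb_zero ?_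
  · intro N hN R hR
    have hN' : N ∈ ([341172] : List ℕ) := hN
    rw [List.mem_singleton.1 hN']
    have h1 := norm_mem hR
    simp only [List.mem_cons, List.not_mem_nil, or_false] at h1
    rcases h1 with h1 | h1 | h1 <;> rw [h1] <;> norm_num
  · intro H _ hH
    by_cases h1 : H.index = 144305
    · obtain ⟨x, hx⟩ := exists_prime_orderOf_dvd_card' (G := G) 13 hd
      refine ⟨x, ⟨1, hx⟩, ?_⟩
      have h2 : Nat.card (G ⧸ H) = 144305 := h1
      rw [h2, one_mul]
      exact fix_le B h1 hx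
    · refine fix_of_exactB h13 hd hsq (LN := [468, 12636, 341172]) (fun R hR => norm_mem hR) ?_
      simp only [List.mem_cons, List.not_mem_nil, or_false] at hH
      apply exB
      simp only [List.mem_cons, List.not_mem_nil, or_false]
      rcases hH with h2 | h2 | h2 | h2
      · exact Or.inl h2
      · exact absurd h2 h1
      · exact Or.inr (Or.inl h2)
      · exact Or.inr (Or.inr h2)

/-- **the rows of `Th`** -/
theorem row (B : Base) {p : ℕ} (hp : p.Prime) (hd : p ∣ Nat.card G) : FprRow (p + 1) 1 p G := by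
  have h1 := valid_mem v_th hp (by rw [← card]; exact hd)
  simp only [l_th, List.map_cons, List.map_nil, List.mem_cons, List.not_mem_nil, or_false] at h1
  rcases h1 with rfl | rfl | rfl | rfl | rfl | rfl | rfl
  · exact FprTh.row2 B
  · exact FprTh.row3 B
  · exact FprTh.row5 B
  · exact FprTh.row7 B
  · exact row13 B
  · exact FprTh.row19 B
  · exact FprTh.row31 B

universe v in
theorem rowIso (B : Base) {S : Type v} [Group S] (h : Cfsg.Spor.IsoTh S) {p : ℕ} (hp : p.Prime)
    (hd : p ∣ Nat.card S) : FprRow (p + 1) 1 p S := by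
  obtain ⟨e⟩ := h
  exact (row B hp (by rw [← Nat.card_congr e.toEquiv]; exact hd)).of_mulEquiv hp e.symm

end Cfsg.Agent.H444.FprThB
end

-- part: H444/FprCo
section
/-!
# The rows of `Co1` and `Co2` in the table of fixed point ratios (helper444)
-/

set_option autoImplicit false
open Subgroup MulAction

namespace Cfsg.Agent.H444.FprCo

open Cfsg
open Cfsg.Agent.H398.FPR (UGood)
open Cfsg.Agent.H940.Eng Cfsg.Agent.H940.Eng.D
open Cfsg.Agent.H444.Fpr (Known)
open Cfsg.Agent.H715.Fpr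
open Cfsg.Agent.H715.Fpr.MathData (card23 cn23_5)
open Cfsg.Agent.H444.FprMtt (MS x3 x5 x7 y5)
open Cfsg.Agent.H444.FprConway (f1 f1_one exists_two known_co1)
open Cfsg.Agent.H444.FprMU
open Cfsg.Agent.H409 (FprRow)

theorem row_of_uGood {S : Type*} [Group S] {p a b : ℕ} {x : S} (hx : ∃ k : ℕ, orderOf x = p ^ k) (h : UGood a b x)
    (hab : ∀ m n : ℕ, b * m ≤ a * n → (p + 1) * m ≤ 1 * n) : FprRow (p + 1) 1 p S :=
  fun H hH => ⟨x, hx, hab _ _ (h H hH)⟩

/-- a 2-element of `M23` -/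
theorem u2 (B : Base) : ∃ x : Spor.M23, (∃ k : ℕ, orderOf x = 2 ^ k) ∧ UGood 7 23 x := by
  have := M23.fin
  obtain ⟨g, y, hgo, hyo, hyg, hne⟩ : Acts 2 5 Spor.M23 :=
    acts_of card23 (by decide +kernel) (by decide +kernel) (by decide +kernel) (fun _ hR => cn23_5 hR) 1
      (by decide +kernel)
  refine ⟨y, hyo, ?_⟩
  intro H hH
  obtain ⟨h1, h2⟩ := fix23 (N := 60) (by norm_num) (by decide) (fun R hR => (cn23_5 hR).2) hgo H
  have h3 := idx23 B hH
  have h4 := fix_regular (q := 5) (by norm_num) hgo hyg hne H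
  change 5 * _ ≤ H.index + _ at h4
  change 23 * _ ≤ 7 * H.index
  set f := Nat.card (fixedBy (Spor.M23 ⧸ H) y)
  set g' := Nat.card (fixedBy (Spor.M23 ⧸ H) g)
  rcases h1 with h1 | h1
  · (clear * - h4 h1; omega)
  · have h5 : g' ∣ 12 := Nat.dvd_of_mul_dvd_mul_left (by norm_num : 0 < 5) h1
    have h6 := Nat.le_of_dvd (by norm_num) h5
    have h7 : g' ≠ 8 := by
      intro h
      rw [h] at h5
      revert h5
      decide
    omega

section

variable {G : Type} [Group G] [Finite G] (known : Known G 23 1 11)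
  (hidx : ∀ H : Subgroup G, H ≠ ⊤ → H.index % 23 = 0 ∨ 2025 ≤ H.index)
include known hidx

theorem row2 (B : Base) (f : MS →* G) (hf : ∀ y : MS, y ^ 23 = 1 → f y = 1 → y = 1) : FprRow 3 1 2 G := by
  obtain ⟨x, ⟨k, hk⟩, hU⟩ := u2 B
  have hf' : ∀ y : Spor.M23, y ^ 23 = 1 → (f.comp eM.symm.toMonoidHom) y = 1 → y = 1 := by
    intro y h1 h2
    have h3 := hf (eM.symm y) (by rw [← map_pow, h1, map_one]) h2
    have h4 := congrArg eM h3
    rwa [MulEquiv.apply_symm_apply, map_one] at h4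
  intro H hH
  refine ⟨(f.comp eM.symm.toMonoidHom) x, ?_, ?_⟩
  · obtain ⟨m, -, hm⟩ := (Nat.dvd_prime_pow Nat.prime_two).1 (hk ▸ orderOf_map_dvd (f.comp eM.symm.toMonoidHom) x)
    exact ⟨m, hm⟩
  · obtain ⟨F, h2, h3⟩ := bound known hidx _ hf' hU hH
    omega

theorem row (B : Base) (f : MS →* G) (hf : ∀ (n : ℕ) (y : MS), Odd n → y ^ n = 1 → f y = 1 → y = 1) {p : ℕ}
    (hp : p = 2 ∨ p = 3 ∨ p = 5 ∨ p = 7 ∨ p = 11 ∨ p = 23) : FprRow (p + 1) 1 p G := by
  obtain ⟨h3, h5, h7, h11⟩ := uniform known hidx B f fun y h0 h => hf 23 y (by decide) h0 h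
  obtain ⟨⟨i3, -⟩, i5, ⟨i7, -⟩, i11⟩ := FprBM.image f hf
  rcases hp with rfl | rfl | rfl | rfl | rfl | rfl
  · exact row2 known hidx B f fun y h0 h => hf 23 y (by decide) h0 h
  · exact row_of_uGood ⟨1, by rw [i3, pow_one]⟩ h3 fun m n h => by omega
  · exact row_of_uGood ⟨1, by rw [i5, pow_one]⟩ h5 fun m n h => by omega
  · exact row_of_uGood ⟨1, by rw [i7, pow_one]⟩ h7 fun m n h => by omega
  · exact row_of_uGood ⟨1, by rw [i11, pow_one]⟩ h11 fun m n h => by omega
  · have h23 : Fact (Nat.Prime 23) := ⟨by norm_num⟩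
    obtain ⟨y, hy⟩ := exists_prime_orderOf_dvd_card' (G := G) 23 known.dvd
    exact row_of_uGood ⟨1, by rw [hy, pow_one]⟩ (twentythree known hidx hy) fun m n h => by omega

end

theorem row_co1 (B : Base) {p : ℕ} (hp : p.Prime) (hd : p ∣ Nat.card Spor.Co1) : FprRow (p + 1) 1 p Spor.Co1 := by
  have := BpSpor.MBigCo.finite_co1
  have h1 := valid_mem v_co1 hp (by rw [BpSpor.MBigCo.card_co1] at hd; exact hd)
  have h2 : p = 13 ∨ (p = 2 ∨ p = 3 ∨ p = 5 ∨ p = 7 ∨ p = 11 ∨ p = 23) := by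
    simp only [l_co1, List.map_cons, List.map_nil, List.mem_cons, List.not_mem_nil, or_false] at h1
    (solve | lia | omega)
  rcases h2 with rfl | h2
  · have h13 : Fact (Nat.Prime 13) := ⟨by norm_num⟩
    obtain ⟨y, hy⟩ := exists_prime_orderOf_dvd_card' (G := Spor.Co1) 13 hd
    exact row_of_uGood ⟨1, by rw [hy, pow_one]⟩ (FprThirteen.uGood B hy) fun m n h => by omega
  · exact row known_co1 (fun H hH => (idx1 B hH).imp id (fun h => by omega)) B f1
      (fun n y h0 h1 h => f1_one h0 h1 h) h2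

theorem row_co2 (B : Base) {p : ℕ} (hp : p.Prime) (hd : p ∣ Nat.card Spor.Co2) : FprRow (p + 1) 1 p Spor.Co2 := by
  have := Cfsg.Agent.H49.CoStab.finite_co2
  have h1 := valid_mem v_co2 hp (by rw [Cfsg.Agent.H49.CoStab.card_co2] at hd; exact hd)
  have h2 : p = 2 ∨ p = 3 ∨ p = 5 ∨ p = 7 ∨ p = 11 ∨ p = 23 := by
    simp only [l_co2, List.map_cons, List.map_nil, List.mem_cons, List.not_mem_nil, or_false] at h1
    omega
  obtain ⟨f, hf⟩ := exists_two
  exact row Cfsg.Agent.H435.Fpr.CoTwo.known (fun H hH => idx2 B hH) B f (fun n y _ _ h => hf y h) h2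

universe u

/-- **the rows of `Co1`** -/
theorem rowIso1 (B : Base) {S : Type u} [Group S] (h : Cfsg.Spor.IsoCo1 S) {p : ℕ} (hp : p.Prime)
    (hd : p ∣ Nat.card S) : FprRow (p + 1) 1 p S := by
  obtain ⟨e⟩ := h
  have := BpSpor.MBigCo.finite_co1
  exact (row_co1 B hp (by rw [← Nat.card_congr e.toEquiv]; exact hd)).of_mulEquiv hp e.symm

/-- **the rows of `Co2`** -/
theorem rowIso2 (B : Base) {S : Type u} [Group S] (h : Cfsg.Spor.IsoCo2 S) {p : ℕ} (hp : p.Prime)
    (hd : p ∣ Nat.card S) : FprRow (p + 1) 1 p S := by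
  obtain ⟨e⟩ := h
  have := Cfsg.Agent.H49.CoStab.finite_co2
  exact (row_co2 B hp (by rw [← Nat.card_congr e.toEquiv]; exact hd)).of_mulEquiv hp e.symm

end Cfsg.Agent.H444.FprCo
end

-- part: H444/FprSporAll
section
/-!
# The fixed point ratios of the sporadic groups (helper444)

* `spor` : `FprRow (p + 1) 1 p S` for the 26 sporadic groups and every prime `p` dividing the order (the rows of the
  Baby Monster and the Monster not yet done are hypotheses);
* `sporTwoK` : `FprRow (2 * p - 1) (p - 1) p S`, complete;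
* `tits`, `titsTwoK` : the same for the Tits group.
-/

set_option autoImplicit false
open Subgroup MulAction
open scoped Pointwise

namespace Cfsg.Agent.H444.FprSporAll

open Cfsg
open Cfsg.Agent.H409 (FprRow)
open Cfsg.Agent.H940.Eng (Base)

universe u

variable {S : Type u} [Group S]

/-- Sylow subgroups of prime order -/
theorem row_of_prime_order {p : ℕ} (hp : p.Prime) [Finite S] [IsSimpleGroup S] (hd : p ∣ Nat.card S)
    (hn : ¬ p ^ 2 ∣ Nat.card S) : FprRow (2 * p - 1) (p - 1) p S := by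
  have : Fact p.Prime := ⟨hp⟩
  obtain ⟨P⟩ : Nonempty (Sylow p S) := inferInstance
  obtain ⟨k, hk⟩ := IsPGroup.iff_card.1 P.isPGroup'
  have hc : Nat.card P = p := by
    have h1 : p ∣ Nat.card P := P.dvd_card_of_dvd_card hd
    have h2 : k < 2 := by
      by_contra h
      exact hn ((pow_dvd_pow p (not_lt.1 h)).trans (hk ▸ P.card_subgroup_dvd_card))
    have h3 : k ≠ 0 := by
      rintro rfl
      rw [hk, pow_zero, Nat.dvd_one] at h1
      exact hp.one_lt.ne' h1
    rw [hk, show k = 1 by omega, pow_one]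
  exact Cfsg.Agent.H444.Fpr.row_of_cyclic (Cfsg.Agent.H444.Fpr.pGen_of_simple hd) P (isCyclic_of_prime_card hc)

/-- from `1 / (p + 1)` to `(p - 1) / (2 p - 1)` -/
theorem mono {p : ℕ} (hp : p.Prime) [Finite S] (h : FprRow (p + 1) 1 p S) : FprRow (2 * p - 1) (p - 1) p S := by
  refine h.mono (by norm_num) ?_
  obtain ⟨k, rfl⟩ : ∃ k, p = k + 2 := ⟨p - 2, by have := hp.two_le; omega⟩
  have h1 : 2 * (k + 2) - 1 = 2 * k + 3 := by omega
  have h2 : k + 2 - 1 = k + 1 := by omega
  rw [h1, h2]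
  nlinarith only []

theorem dvd_prod_cases {p : ℕ} (hp : p.Prime) {q n : ℕ} (hq : q.Prime) (h : p ∣ q * n) : p = q ∨ p ∣ n :=
  (hp.dvd_mul.1 h).imp_left (Nat.prime_dvd_prime_iff_eq hp hq).1

theorem primes_b {p : ℕ} (hp : p.Prime) (hd : p ∣ 4154781481226426191177580544000000) :
    p = 2 ∨ p = 3 ∨ p = 5 ∨ p = 7 ∨ p = 11 ∨ p = 13 ∨ p = 17 ∨ p = 19 ∨ p = 23 ∨ p = 31 ∨ p = 47 := by
  have h : p ∣ 2 * (3 * (5 * (7 * (11 * (13 * (17 * (19 * (23 * (31 * (47 * 1)))))))))) := by
    refine hp.dvd_of_dvd_pow (n := 41) (hd.trans ?_)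
    norm_num
  rcases dvd_prod_cases hp (by norm_num) h with h | h
  · tauto
  rcases dvd_prod_cases hp (by norm_num) h with h | h
  · simp only [h, true_or, or_true]
  rcases dvd_prod_cases hp (by norm_num) h with h | h
  · simp only [h, true_or, or_true]
  rcases dvd_prod_cases hp (by norm_num) h with h | h
  · simp only [h, true_or, or_true]
  rcases dvd_prod_cases hp (by norm_num) h with h | h
  · simp only [h, true_or, or_true]
  rcases dvd_prod_cases hp (by norm_num) h with h | h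
  · simp only [h, true_or, or_true]
  rcases dvd_prod_cases hp (by norm_num) h with h | h
  · simp only [h, true_or, or_true]
  rcases dvd_prod_cases hp (by norm_num) h with h | h
  · simp only [h, true_or, or_true]
  rcases dvd_prod_cases hp (by norm_num) h with h | h
  · simp only [h, true_or, or_true]
  rcases dvd_prod_cases hp (by norm_num) h with h | h
  · simp only [h, true_or, or_true]
  rcases dvd_prod_cases hp (by norm_num) h with h | h
  · simp only [h, true_or, or_true]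
  · exact absurd (Nat.dvd_one.1 h) hp.one_lt.ne'

theorem primes_m {p : ℕ} (hp : p.Prime) (hd : p ∣ 808017424794512875886459904961710757005754368000000000) :
    p = 2 ∨ p = 3 ∨ p = 5 ∨ p = 7 ∨ p = 11 ∨ p = 13 ∨ p = 17 ∨ p = 19 ∨ p = 23 ∨ p = 29 ∨ p = 31 ∨ p = 41 ∨ p = 47 ∨
      p = 59 ∨ p = 71 := by
  have h : p ∣ 2 * (3 * (5 * (7 * (11 * (13 * (17 * (19 * (23 * (29 * (31 * (41 * (47 * (59 * (71 * 1))))))))))))))
      := by
    refine hp.dvd_of_dvd_pow (n := 46) (hd.trans ?_)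
    norm_num
  rcases dvd_prod_cases hp (by norm_num) h with h | h
  · tauto
  rcases dvd_prod_cases hp (by norm_num) h with h | h
  · simp only [h, true_or, or_true]
  rcases dvd_prod_cases hp (by norm_num) h with h | h
  · simp only [h, true_or, or_true]
  rcases dvd_prod_cases hp (by norm_num) h with h | h
  · simp only [h, true_or, or_true]
  rcases dvd_prod_cases hp (by norm_num) h with h | h
  · simp only [h, true_or, or_true]
  rcases dvd_prod_cases hp (by norm_num) h with h | h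
  · simp only [h, true_or, or_true]
  rcases dvd_prod_cases hp (by norm_num) h with h | h
  · simp only [h, true_or, or_true]
  rcases dvd_prod_cases hp (by norm_num) h with h | h
  · simp only [h, true_or, or_true]
  rcases dvd_prod_cases hp (by norm_num) h with h | h
  · simp only [h, true_or, or_true]
  rcases dvd_prod_cases hp (by norm_num) h with h | h
  · simp only [h, true_or, or_true]
  rcases dvd_prod_cases hp (by norm_num) h with h | h
  · simp only [h, true_or, or_true]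
  rcases dvd_prod_cases hp (by norm_num) h with h | h
  · simp only [h, true_or, or_true]
  rcases dvd_prod_cases hp (by norm_num) h with h | h
  · simp only [h, true_or, or_true]
  rcases dvd_prod_cases hp (by norm_num) h with h | h
  · simp only [h, true_or, or_true]
  rcases dvd_prod_cases hp (by norm_num) h with h | h
  · simp only [h, true_or, or_true]
  · exact absurd (Nat.dvd_one.1 h) hp.one_lt.ne'

/-! ### the Baby Monster and the Monster -/

section BM

open Cfsg.Agent.BabyM Cfsg.Agent.BabyM.Model Cfsg.Agent.KFacts.AutLarge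
open Cfsg.Agent.BabyU.ClosModel Cfsg.Agent.BabyU.ClosLane Cfsg.Agent.KFacts

theorem card_b [IsSimpleGroup S] (h : Spor.IsoB S) : Nat.card S = 4154781481226426191177580544000000 := by
  obtain ⟨e⟩ := Baby.Sheet.exists_iso_of_isoB h
  rw [← Nat.card_congr e.toEquiv, A.card_G]

theorem finite_b [IsSimpleGroup S] (h : Spor.IsoB S) : Finite S :=
  Nat.finite_of_card_ne_zero (by rw [card_b h]; norm_num)

theorem card_m (h : Spor.IsoM S) : Nat.card S = 808017424794512875886459904961710757005754368000000000 := by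
  obtain ⟨f⟩ := h
  obtain ⟨g⟩ := MonsterP.Equiv.equiv
  rw [Nat.card_congr (f.trans g).toEquiv, FprM.card_M]

theorem finite_m (h : Spor.IsoM S) : Finite S := Nat.finite_of_card_ne_zero (by rw [card_m h]; norm_num)

theorem rowB_two [IsSimpleGroup S] (h : Spor.IsoB S) : FprRow 3 1 2 S := Cfsg.Agent.H435.Fpr.Baby.fprRow h

/-- `FprRow (2 p - 1) (p - 1) p` for the Baby Monster -/
theorem twoKB (B : Base) [IsSimpleGroup S] (h : Spor.IsoB S) {p : ℕ} (hp : p.Prime) (hd : p ∣ Nat.card S) :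
    FprRow (2 * p - 1) (p - 1) p S := by
  have := finite_b h
  have hc := card_b h
  rcases primes_b hp (hc ▸ hd) with h1 | h1 | h1 | h1 | h1 | h1 | h1 | h1 | h1 | h1 | h1
  · subst h1
    exact rowB_two h
  · exact mono hp (FprBM.rowIsoB B h (by simp only [h1, true_or, or_true]))
  · exact mono hp (FprBM.rowIsoB B h (by simp only [h1, true_or, or_true]))
  · exact mono hp (FprBM.rowIsoB B h (by simp only [h1, true_or, or_true]))
  · exact mono hp (FprBM.rowIsoB B h (by simp only [h1, true_or, or_true]))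
  · exact row_of_prime_order hp hd (by rw [hc, h1]; norm_num)
  · exact row_of_prime_order hp hd (by rw [hc, h1]; norm_num)
  · exact row_of_prime_order hp hd (by rw [hc, h1]; norm_num)
  · exact mono hp (FprBM.rowIsoB B h (by simp only [h1, true_or, or_true]))
  · exact row_of_prime_order hp hd (by rw [hc, h1]; norm_num)
  · exact row_of_prime_order hp hd (by rw [hc, h1]; norm_num)

/-- `FprRow (2 p - 1) (p - 1) p` for the Monster -/
theorem twoKM (B : Base) [IsSimpleGroup S] (h : Spor.IsoM S) {p : ℕ} (hp : p.Prime) (hd : p ∣ Nat.card S) :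
    FprRow (2 * p - 1) (p - 1) p S := by
  have := finite_m h
  have hc := card_m h
  rcases primes_m hp (hc ▸ hd) with h1 | h1 | h1 | h1 | h1 | h1 | h1 | h1 | h1 | h1 | h1 | h1 | h1 | h1 | h1
  · subst h1
    exact FprM.rowIso_two h
  · exact mono hp (FprBM.rowIsoM B h (by simp only [h1, true_or, or_true]))
  · exact mono hp (FprBM.rowIsoM B h (by simp only [h1, true_or, or_true]))
  · exact mono hp (FprBM.rowIsoM B h (by simp only [h1, true_or, or_true]))
  · exact mono hp (FprBM.rowIsoM B h (by simp only [h1, true_or, or_true]))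
  · subst h1
    exact FprThirteen.rowIso' B h
  · exact row_of_prime_order hp hd (by rw [hc, h1]; norm_num)
  · exact row_of_prime_order hp hd (by rw [hc, h1]; norm_num)
  · exact mono hp (FprBM.rowIsoM B h (by simp only [h1, true_or, or_true]))
  · exact row_of_prime_order hp hd (by rw [hc, h1]; norm_num)
  · exact row_of_prime_order hp hd (by rw [hc, h1]; norm_num)
  · exact row_of_prime_order hp hd (by rw [hc, h1]; norm_num)
  · exact row_of_prime_order hp hd (by rw [hc, h1]; norm_num)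
  · exact row_of_prime_order hp hd (by rw [hc, h1]; norm_num)
  · exact row_of_prime_order hp hd (by rw [hc, h1]; norm_num)

/-- `FprRow (p + 1) 1 p` for the Baby Monster -/
theorem sharpB (B : Base) [IsSimpleGroup S] (h : Spor.IsoB S) {p : ℕ} (hp : p.Prime) (hd : p ∣ Nat.card S)
    (ho : p = 13 ∨ p = 17 ∨ p = 19 ∨ p = 31 ∨ p = 47 → FprRow (p + 1) 1 p S) : FprRow (p + 1) 1 p S := by
  rcases primes_b hp (card_b h ▸ hd) with h1 | h1 | h1 | h1 | h1 | h1 | h1 | h1 | h1 | h1 | h1
  · subst h1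
    exact rowB_two h
  all_goals first
  | exact FprBM.rowIsoB B h (by tauto)
  | exact ho (by simp only [h1, true_or, or_true])

/-- `FprRow (p + 1) 1 p` for the Monster -/
theorem sharpM (B : Base) (h : Spor.IsoM S) {p : ℕ} (hp : p.Prime) (hd : p ∣ Nat.card S)
    (ho : p = 17 ∨ p = 19 ∨ p = 29 ∨ p = 31 ∨ p = 41 ∨ p = 47 ∨ p = 59 ∨ p = 71 → FprRow (p + 1) 1 p S) :
    FprRow (p + 1) 1 p S := by
  rcases primes_m hp (card_m h ▸ hd) with h1 | h1 | h1 | h1 | h1 | h1 | h1 | h1 | h1 | h1 | h1 | h1 | h1 | h1 | h1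
  · subst h1
    exact FprM.rowIso_two h
  · exact FprBM.rowIsoM B h (by simp only [h1, true_or, or_true])
  · exact FprBM.rowIsoM B h (by simp only [h1, true_or, or_true])
  · exact FprBM.rowIsoM B h (by simp only [h1, true_or, or_true])
  · exact FprBM.rowIsoM B h (by simp only [h1, true_or, or_true])
  · subst h1
    exact FprThirteen.rowIso B h
  all_goals first
  | exact FprBM.rowIsoM B h (by tauto)
  | exact ho (by simp only [h1, true_or, or_true])

end BM

/-! ### all sporadic groups -/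

/-- the sharp rows of `McL` -/
theorem sharpMcL (B : Base) (h : Spor.IsoMcL S) {p : ℕ} (hp : p.Prime) (hd : p ∣ Nat.card S) :
    FprRow (p + 1) 1 p S := by
  rcases eq_or_ne p 2 with rfl | hp2
  · exact Cfsg.Agent.H435.Fpr.fprRow_mcL_two h
  · exact Cfsg.Agent.H715.Fpr.McL.rowIso B h hp hp2 hd

/-- the sporadic groups other than `B` and `M` -/
theorem spor_or (B : Base) (h : Cfsg.IsSporadicGroup S) {p : ℕ} (hp : p.Prime) (hd : p ∣ Nat.card S) :
    FprRow (p + 1) 1 p S ∨ Spor.IsoB S ∨ Spor.IsoM S := by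
  rcases h with h | h | h | h | h | h | h | h | h | h | h | h | h | h | h | h | h | h | h | h | h | h | h | h | h | h
  · exact Or.inl (Cfsg.Agent.H715.Fpr.M11.rowIso B h hp hd)
  · exact Or.inl (Cfsg.Agent.H715.Fpr.M12.rowIso B h hp hd)
  · exact Or.inl (Cfsg.Agent.H715.Fpr.M22.rowIso B h hp hd)
  · exact Or.inl (Cfsg.Agent.H715.Fpr.M23.rowIso B h hp hd)
  · exact Or.inl (Cfsg.Agent.H715.Fpr.M24.rowIso B h hp hd)
  · exact Or.inl (Cfsg.Agent.H715.Fpr.J1.rowIso B h hp hd)
  · exact Or.inl (Cfsg.Agent.H715.Fpr.J2.rowIso B h hp hd)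
  · exact Or.inl (Cfsg.Agent.H715.Fpr.J3.rowIso B h hp hd)
  · exact Or.inl (Cfsg.Agent.H715.Fpr.J4.rowIso B h hp hd)
  · exact Or.inl (FprCo.rowIso1 B h hp hd)
  · exact Or.inl (FprCo.rowIso2 B h hp hd)
  · exact Or.inl (Cfsg.Agent.H147.Fpr.Co3.rowIso B h hp hd)
  · exact Or.inl (sharpMcL B h hp hd)
  · exact Or.inl (Cfsg.Agent.H715.Fpr.HS.rowIso B h hp hd)
  · exact Or.inl (Cfsg.Agent.H147.Fpr.Suz.rowIso B h hp hd)
  · exact Or.inl (Cfsg.Agent.H147.Fpr.He.rowIso B h hp hd)
  · exact Or.inl (Cfsg.Agent.H147.Fpr.RuOdd.rowIso B h hp hd)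
  · exact Or.inl (Cfsg.Agent.H147.Fpr.ONan.rowIso B h hp hd)
  · exact Or.inl (Cfsg.Agent.H438.Fpr.Ly.rowIso B h hp hd)
  · exact Or.inl (Cfsg.Agent.H433.Fpr.Fi22.rowIso B h hp hd)
  · exact Or.inl (Cfsg.Agent.H433.Fpr.Fi23.rowIso B h hp hd)
  · exact Or.inl (Cfsg.Agent.H435.Fpr.FiTwentyFour.rowIso B h hp hd)
  · exact Or.inl (Cfsg.Agent.H438.Fpr.HN.rowIso B h hp hd)
  · exact Or.inl (FprThB.rowIso B h hp hd)
  · exact Or.inr (Or.inl h)
  · exact Or.inr (Or.inr h)

/-- **`FprRow (p + 1) 1 p` for the sporadic groups** (open rows of `B` and `M` as hypotheses) -/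
theorem spor_of (B : Base) [IsSimpleGroup S] (h : Cfsg.IsSporadicGroup S) {p : ℕ} (hp : p.Prime)
    (hd : p ∣ Nat.card S)
    (hb : Spor.IsoB S → p = 13 ∨ p = 17 ∨ p = 19 ∨ p = 31 ∨ p = 47 → FprRow (p + 1) 1 p S)
    (hm : Spor.IsoM S → p = 17 ∨ p = 19 ∨ p = 29 ∨ p = 31 ∨ p = 41 ∨ p = 47 ∨ p = 59 ∨ p = 71 →
      FprRow (p + 1) 1 p S) : FprRow (p + 1) 1 p S := by
  rcases spor_or B h hp hd with h1 | h1 | h1
  · exact h1
  · exact sharpB B h1 hp hd (hb h1)
  · exact sharpM B h1 hp hd (hm h1)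

/-- **`FprRow (2 p - 1) (p - 1) p` for the sporadic groups** -/
theorem sporTwoK (B : Base) [Finite S] [IsSimpleGroup S] (h : Cfsg.IsSporadicGroup S) {p : ℕ} (hp : p.Prime)
    (hd : p ∣ Nat.card S) : FprRow (2 * p - 1) (p - 1) p S := by
  rcases spor_or B h hp hd with h1 | h1 | h1
  · exact mono hp h1
  · exact twoKB B h1 hp hd
  · exact twoKM B h1 hp hd

end Cfsg.Agent.H444.FprSporAll
end

private theorem dce_b559fa550990 : _root_.True := by
  try have : _root_.True := by simp only [_root_.Cfsg.Agent.H940.Eng.D.n_th.eq_1]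
  try have : _root_.True := by simp only [_root_.Cfsg.Agent.H940.Eng.D.l_j1.eq_1]
  try have : _root_.True := by simp only [_root_.Cfsg.Agent.H940.Eng.D.l_th.eq_1]
  try have : _root_.True := by simp only [_root_.Cfsg.Agent.H940.Eng.D.l_j4.eq_1]
  try have : _root_.True := by simp only [_root_.Cfsg.Agent.H940.Eng.D.l_co1.eq_1]
  try have : _root_.True := by simp only [_root_.Cfsg.Agent.H940.Eng.D.l_co2.eq_1]
  try have : _root_.True := by simp only [_root_.Cfsg.Agent.H444.FprThB.D13.eq_1]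
  exact _root_.True.intro
end
end
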